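import Cfsg.Agent.Lib.KnownB.G2Three.Graph
import Cfsg.Agent.Lib.G2Three.Defs

/-!
# Generators of the amalgam inside the adjoint group of type `G₂` over three elements
-/

set_option autoImplicit false
set_option maxRecDepth 100000
set_option synthInstance.maxSize 4000
set_option maxHeartbeats 4000000

namespace CfsgLib.G2TwoLocal.Bridge

open CfsgLib.KnownB.G2Three
open CfsgLib.G2Three (cj Rels URels Hex nf)

theorem elt_mul (l r : List ℕ) : elt l * elt r = elt (l ++ r) := by
  simp only [elt, List.map_append, List.prod_append]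

theorem elt_eq {l r : List ℕ}
    (h : ∀ a : I, mvW l (eP (ix a)) = mvW r (eP (ix a))) : elt l = elt r :=
  ext_of_single fun a => by rw [← toV_eP, ← toV_mvW, ← toV_mvW, h]

theorem elt_eq_one {l : List ℕ}
    (h : ∀ a : I, mvW l (eP (ix a)) = eP (ix a)) : elt l = 1 :=
  elt_eq (r := []) h

theorem elt_inv {l r : List ℕ}
    (h : ∀ a : I, mvW (l ++ r) (eP (ix a)) = eP (ix a)) : (elt l)⁻¹ = elt r :=
  inv_eq_of_mul_eq_one_right (by rw [elt_mul]; exact elt_eq_one h)

/-- root `a` -/
def ka : List ℕ := [7]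
/-- root `b` -/
def kb : List ℕ := [6]
/-- root `a + b` -/
def kc : List ℕ := [8, 8]
/-- root `2a + b` -/
def kd : List ℕ := [9, 9]
/-- root `3a + b` -/
def ke : List ℕ := [10]
/-- root `3a + 2b` -/
def kf : List ℕ := [11]
/-- the element of the Weyl group of `a` -/
def kv : List ℕ := [7, 4, 4, 7]
/-- the element of the Weyl group of `b` -/
def kw : List ℕ := [6, 5, 5, 6]

theorem inv_a : (elt ka)⁻¹ = elt [7, 7] := elt_inv (by decide +kernel)
theorem inv_b : (elt kb)⁻¹ = elt [6, 6] := elt_inv (by decide +kernel)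
theorem inv_c : (elt kc)⁻¹ = elt [8] := elt_inv (by decide +kernel)
theorem inv_d : (elt kd)⁻¹ = elt [9] := elt_inv (by decide +kernel)
theorem inv_e : (elt ke)⁻¹ = elt [10, 10] := elt_inv (by decide +kernel)
theorem inv_f : (elt kf)⁻¹ = elt [11, 11] := elt_inv (by decide +kernel)
theorem inv_v : (elt kv)⁻¹ = elt [7, 7, 4, 7, 7] := elt_inv (by decide +kernel)
theorem inv_w : (elt kw)⁻¹ = elt [6, 6, 5, 6, 6] := elt_inv (by decide +kernel)

theorem urels : URels (elt ka) (elt kb) (elt kc) (elt kd) (elt ke) (elt kf)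
    (elt kv * elt kv) (elt kw * elt kw) := by
  constructor <;>
    (try simp only [cj, Commute, SemiconjBy, pow_succ, pow_zero, one_mul, mul_inv_rev, inv_a,
      inv_b, inv_c, inv_d, inv_e, inv_f, inv_v, inv_w]) <;>
    (try simp only [elt_mul]) <;>
    (first
      | (with_reducible refine elt_eq ?_)
      | (with_reducible refine elt_eq_one ?_)) <;>
    decide +kernel

theorem rels : Rels (elt ka) (elt kb) (elt kc) (elt kd) (elt ke) (elt kf) (elt kv) (elt kw) := by
  refine ⟨urels, ?_, ?_, ?_, ?_, ?_, ?_, ?_, ?_, ?_, ?_, ?_, ?_, ?_, ?_⟩ <;>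
    simp only [cj, pow_succ, pow_zero, one_mul, inv_b, inv_c, inv_e, inv_v, inv_w] <;>
    (try simp only [elt_mul]) <;>
    (first
      | (with_reducible refine elt_eq ?_)
      | (with_reducible refine elt_eq_one ?_)) <;>
    decide +kernel

theorem hex : Hex (elt kv) (elt kw) := by
  simp only [Hex, nf, cj, Commute, SemiconjBy, mul_inv_rev, inv_v, inv_w]
  simp only [elt_mul]
  with_reducible refine elt_eq ?_
  decide +kernel

theorem kf_check : ∃ a : I, toV (mvW kf (eP (ix a))) ≠ toV (eP (ix a)) := by decide +kernel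

theorem f_ne : elt kf ≠ 1 := by
  intro h
  obtain ⟨a, ha⟩ := kf_check
  refine ha ?_
  rw [toV_mvW, h, show mat 1 = 1 from rfl, Matrix.one_mulVec]

end CfsgLib.G2TwoLocal.Bridge
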