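import Cfsg.Agent.Lib.G2TwoLocal.Defs
import Cfsg.Agent.Lib.G2TwoLocal.BridgeBasic
import Cfsg.Agent.Lib.G2Three.Main
import Cfsg.Agent.Lib.G2Three.Cert
import Cfsg.Agent.Lib.G2Three.Model

/-!
# The two models of `G₂(3)` agree (piece G of S2917)
-/

set_option autoImplicit false

namespace CfsgLib.G2TwoLocal

open Cfsg Subgroup
open CfsgLib.G2Three (Rels Hex H)

/-- A group of order at most `4245696` with the relations is generated by them. -/
theorem H_eq_top {L : Type} [Group L] [Finite L] {a b c d e f v w : L} (hb : Nat.card L ≤ 4245696)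
    (hr : Rels a b c d e f v w) (hx : Hex v w) (hf : f ≠ 1) : H a b c d e f v w = ⊤ := by
  set K := H a b c d e f v w with hK
  have hm : ∀ x ∈ ({a, b, c, d, e, f, v, w} : Set L), x ∈ K := fun x hx => subset_closure hx
  let a₀ : K := ⟨a, hm _ (by simp)⟩
  let b₀ : K := ⟨b, hm _ (by simp)⟩
  let c₀ : K := ⟨c, hm _ (by simp)⟩
  let d₀ : K := ⟨d, hm _ (by simp)⟩
  let e₀ : K := ⟨e, hm _ (by simp)⟩
  let f₀ : K := ⟨f, hm _ (by simp)⟩
  let v₀ : K := ⟨v, hm _ (by simp)⟩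
  let w₀ : K := ⟨w, hm _ (by simp)⟩
  have hr₀ : Rels a₀ b₀ c₀ d₀ e₀ f₀ v₀ w₀ := G2Three.rels_map K.subtype K.subtype_injective hr
  have hx₀ : Hex v₀ w₀ :=
    Commute.of_map K.subtype_injective (show Commute (G2Three.nf v w) v from hx)
  have hf₀ : f₀ ≠ 1 := fun h => hf (congrArg Subtype.val h)
  have hH₀ : H a₀ b₀ c₀ d₀ e₀ f₀ v₀ w₀ = ⊤ := by
    apply map_injective K.subtype_injective
    rw [H, MonoidHom.map_closure, ← MonoidHom.range_eq_map, Subgroup.range_subtype]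
    simp [Set.image_insert_eq, hK, H, a₀, b₀, c₀, d₀, e₀, f₀, v₀, w₀]
  exact eq_top_of_card_eq K (le_antisymm (card_le_card_group K)
    (hb.trans (G2Three.facts K a₀ b₀ c₀ d₀ e₀ f₀ v₀ w₀ hr₀ hx₀ hf₀ hH₀).card.ge))

theorem bridge : StmtBridge := by
  intro F _ _ hF
  obtain ⟨φ⟩ := KnownB.G2Three.group_equiv hF
  obtain ⟨hbound, a, b, c, d, e, f, v, w, hr, hx, hf⟩ := G2Three.model F hF
  have hL : H a b c d e f v w = ⊤ := H_eq_top hbound hr hx hf
  have hK := H_eq_top KnownB.G2Three.natCard_G.le Bridge.rels Bridge.hex Bridge.f_ne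
  obtain ⟨ψ⟩ := G2Three.unique KnownB.G2Three.G (Lie.G2 F) _ _ _ _ _ _ _ _ a b c d e f v w
    Bridge.rels Bridge.hex Bridge.f_ne hK hr hx hf hL
  exact ⟨φ.trans ψ⟩

end CfsgLib.G2TwoLocal
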