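import Cfsg.Agent.Lib.G2TwoLocal.CoreSide

/-!
Piece B of the recognition of `G₂(3)`: signalizers and classes.
-/

set_option autoImplicit false
set_option linter.style.haveILetI false

namespace CfsgLib.G2TwoLocal

open Subgroup Cfsg
open CfsgLib.G2Three (cj)

universe u

variable {G : Type u} [Group G] [Finite G] {H H₁ H₂ : Subgroup G} {z t x₁ x₂ : G}

theorem Setup.commute_gen (h : Setup H H₁ H₂ z t x₁ x₂) {g : G} {i : ℕ} (hi : x₁ ^ i ≠ 1)
    (hc : Commute g (x₁ ^ i)) : Commute g x₁ := by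
  rw [pow_eq_pow_mod i h.x₁_cube] at hi hc
  rcases (show i % 3 = 0 ∨ i % 3 = 1 ∨ i % 3 = 2 by omega) with e | e | e <;> rw [e] at hi hc
  · exact absurd (pow_zero x₁) hi
  · rwa [pow_one] at hc
  · have := hc.pow_right 2
    rwa [← pow_mul, show 2 * 2 = 3 + 1 by rfl, pow_add, h.x₁_cube, one_mul, pow_one] at this

theorem Setup.diag_cent (h : Setup H H₁ H₂ z t x₁ x₂) {i j : ℕ} (hi : x₁ ^ i ≠ 1)
    (hj : x₂ ^ j ≠ 1) {g : G} (hg : g ∈ H) (hc : Commute g (x₁ ^ i * x₂ ^ j)) :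
    Commute g x₁ ∧ Commute g x₂ := by
  have hne : x₁ ^ i * x₂ ^ j ≠ 1 := fun e => hi (h.eq_one_of_cube (pow_mem h.mem₁ i)
    (eq_inv_of_mul_eq_one_left e ▸ inv_mem (pow_mem h.mem₂ j)) (h.pow_cube₁ i))
  obtain ⟨a, ha, b, hb, rfl, h1, h2⟩ := h.cent_split hg hne hc
  exact ⟨(h.commute_gen hi h1).mul_left (h.comm x₁ h.mem₁ b hb).symm,
    (h.comm a ha x₂ h.mem₂).mul_left (h.symm.commute_gen hj h2)⟩

theorem Setup.mem_P₀_of_odd (h : Setup H H₁ H₂ z t x₁ x₂) {g : G} (hg : g ∈ H)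
    (hodd : Odd (orderOf g)) (h1 : Commute g x₁) (h2 : Commute g x₂) : g ∈ P₀ x₁ x₂ := by
  have h3 := h.odd_cube hg hodd
  obtain ⟨i, j, l, rfl⟩ := h.cent₁₂ hg h1 h2
  have hP : x₁ ^ i * x₂ ^ j ∈ P₀ x₁ x₂ := h.mem_P₀_pow.2 ⟨i, j, rfl⟩
  have hc : Commute (x₁ ^ i * x₂ ^ j) (z ^ l) :=
    ((h.z_comm_x₁.symm.pow_left i).mul_left (h.symm.z_comm_x₁.symm.pow_left j)).pow_right l
  rw [hc.mul_pow, h.P₀_exp_three hP, one_mul] at h3
  have h2' : (z ^ l) ^ 2 = 1 := by rw [← pow_mul, mul_comm, pow_mul, pow_two, h.zz, one_pow]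
  rw [pow_succ, h2', one_mul] at h3
  rw [h3, mul_one]
  exact hP

theorem Setup.P₀_le_cent (h : Setup H H₁ H₂ z t x₁ x₂) {p y : G} (hp : p ∈ P₀ x₁ x₂)
    (hy : y ∈ P₀ x₁ x₂) : Commute p y := by
  obtain ⟨i, j, rfl⟩ := h.mem_P₀_pow.1 hp
  obtain ⟨k, l, rfl⟩ := h.mem_P₀_pow.1 hy
  exact Commute.mul_left
    (((Commute.refl x₁).pow_pow i k).mul_right (h.x_comm.pow_pow i l))
    ((h.x_comm.symm.pow_pow j k).mul_right ((Commute.refl x₂).pow_pow j l))

theorem Setup.P₀_isPGroup (h : Setup H H₁ H₂ z t x₁ x₂) : IsPGroup 3 (P₀ x₁ x₂) :=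
  fun p => ⟨1, Subtype.ext (by simpa using h.P₀_exp_three p.2)⟩

/-- The centraliser of a diagonal element. -/
theorem Setup.exists_diag (h : Setup H H₁ H₂ z t x₁ x₂) {y : G} (hy : y ∈ P₀ x₁ x₂)
    (h1 : y ∉ zpowers x₁) (h2 : y ∉ zpowers x₂) : ∃ O : Subgroup G,
    IsPGroup 3 O ∧ Nat.card O ∣ 3 ^ 6 ∧ centralizer ({y} : Set G) ≤ normalizer (O : Set G) ∧
      centralizer ({y} : Set G) = O ⊔ zpowers z ∧
      O ⊓ centralizer ({z} : Set G) = P₀ x₁ x₂ := by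
  haveI : Fact (Nat.Prime 3) := ⟨Nat.prime_three⟩
  have hy1 : y ≠ 1 := fun e => h1 (e ▸ one_mem _)
  obtain ⟨i, j, hij⟩ := h.mem_P₀_pow.1 hy
  have hi : x₁ ^ i ≠ 1 := fun e => h2 (by
    rw [hij, e, one_mul]; exact pow_mem (mem_zpowers x₂) j)
  have hj : x₂ ^ j ≠ 1 := fun e => h1 (by
    rw [hij, e, mul_one]; exact pow_mem (mem_zpowers x₁) i)
  have hPH : P₀ x₁ x₂ ≤ H := h.P₀_le_sup.trans (sup_le h.le₁ h.le₂)
  have hzP : ∀ {p : G}, p ∈ P₀ x₁ x₂ → cj z p = p := fun {p} hp =>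
    cj_eq_self_iff.2 (h.mem_H_iff.1 (hPH hp)).symm
  obtain ⟨O, hO⟩ := h.exists_localCore hy hy1
  have hcomm : ∀ c ∈ H, Commute c y → Commute c x₁ ∧ Commute c x₂ := fun c hc hcy => by
    rw [hij] at hcy
    exact h.diag_cent hi hj hc hcy
  have hPO : P₀ x₁ x₂ ≤ O := by
    refine hO.absorb _ (fun p hp => mem_cent_iff.2 (h.P₀_le_cent hp hy)) ?_ fun c hc hcy => ?_
    · obtain ⟨m, hm⟩ := h.P₀_isPGroup.exists_card_eq
      rw [hm]; exact (by decide : Odd 3).pow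
    · obtain ⟨c1, c2⟩ := hcomm c hc hcy
      have hcp : ∀ p ∈ P₀ x₁ x₂, Commute c p := fun p hp => by
        obtain ⟨k, l, rfl⟩ := h.mem_P₀_pow.1 hp
        exact (c1.pow_right k).mul_right (c2.pow_right l)
      refine mem_normalizer_iff.2 fun p => ⟨fun hp => ?_, fun hp => ?_⟩
      · rwa [(hcp p hp).eq, mul_inv_cancel_right]
      · have e := (hcp _ hp).eq
        have : c * p * c⁻¹ = p := by
          calc c * p * c⁻¹ = c⁻¹ * (c * (c * p * c⁻¹)) := by group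
            _ = p := by rw [e]; group
        rwa [this] at hp
  have hfz : O ⊓ centralizer ({z} : Set G) = P₀ x₁ x₂ := by
    refine le_antisymm (fun g hg => ?_) (le_inf hPO fun p hp => ?_)
    · obtain ⟨hgO, hgz⟩ := mem_inf.1 hg
      rw [h.cent_z] at hgz
      obtain ⟨c1, c2⟩ := hcomm g hgz (mem_cent_iff.1 (hO.le hgO))
      exact h.mem_P₀_of_odd hgz (odd_order_of_mem hO.odd hgO) c1 c2
    · exact mem_centralizer_singleton_iff.2 (h.mem_H_iff.1 (hPH hp))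
  have hd : Nat.card O ∣ 3 ^ 6 := by
    have nz : z ∈ normalizer (O : Set G) := hO.norm z (Or.inl (hzP hy))
    have nt : t ∈ normalizer (O : Set G) := hO.norm t (Or.inr (h.t_inv hy))
    rw [(h.fourAct hO.odd nz nt).card_eq]
    have key : ∀ {s : G}, orderOf s = 2 →
        Nat.card (O ⊓ centralizer ({s} : Set G) : Subgroup G) ∣ 9 := fun {s} hs =>
      (h.odd_cent_invol hs (hO.odd.of_dvd_nat (Subgroup.card_dvd_of_le inf_le_left))
        fun g hg => (mem_inf_cent_iff.1 hg).2).1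
    exact (mul_dvd_mul (mul_dvd_mul (key h.order_z) (key h.order_t)) (key h.order_zt)).trans
      (by norm_num)
  obtain ⟨m, -, hm⟩ := (Nat.dvd_prime_pow Nat.prime_three).1 hd
  refine ⟨O, IsPGroup.of_card hm, hd,
    fun g hg => hO.norm g (Or.inl (cj_eq_self_iff.2 (mem_cent_iff.1 hg))), ?_, hfz⟩
  refine le_antisymm (fun g hg => ?_) (sup_le hO.le (zpowers_le.2 (mem_cent_iff.2
    (cj_eq_self_iff.1 (hzP hy)))))
  obtain ⟨a, ha, c, hcH, hcy, rfl⟩ := hO.split g hg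
  obtain ⟨c1, c2⟩ := hcomm c hcH hcy
  obtain ⟨k, l, q, rfl⟩ := h.cent₁₂ hcH c1 c2
  exact mul_mem (mem_sup_left ha) (mul_mem (mem_sup_left (hPO (h.mem_P₀_pow.2 ⟨k, l, rfl⟩)))
    (mem_sup_right (pow_mem (mem_zpowers z) q)))

theorem Setup.zero_side (h : Setup H H₁ H₂ z t x₁ x₂) {R : Subgroup G}
    (hR : Side z t x₁ H₂ R 0) : centralizer ({x₁} : Set G) ≤ H := by
  have e : zpowers x₁ = R := eq_of_le_of_card_ge (zpowers_le.2 hR.mem)
    (by rw [hR.card, Nat.card_zpowers, h.order₁]; norm_num)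
  rw [hR.cent, ← e]
  exact sup_le (zpowers_le.2 h.x₁_mem) h.le₂

omit [Finite G] in
theorem odd_order_of_three {K : Subgroup G} (hK : IsPGroup 3 K) {g : G} (hg : g ∈ K) :
    Odd (orderOf g) := by
  haveI : Fact (Nat.Prime 3) := ⟨Nat.prime_three⟩
  obtain ⟨m, hm⟩ := IsPGroup.iff_orderOf.1 hK ⟨g, hg⟩
  rw [← Subgroup.orderOf_mk g hg, hm]
  exact (by decide : Odd 3).pow

/-- With small centralisers an element of odd order normalising `P₀` lies in it. -/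
theorem Setup.zero_norm (h : Setup H H₁ H₂ z t x₁ x₂) (hC : centralizer ({x₁} : Set G) ≤ H)
    {g : G} (hg : g ∈ normalizer ((P₀ x₁ x₂ : Subgroup G) : Set G)) (hodd : Odd (orderOf g)) :
    g ∈ P₀ x₁ x₂ := by
  have key : ∀ p ∈ P₀ x₁ x₂, Commute g p := by
    intro p hp
    rcases eq_or_ne p 1 with rfl | hp1
    · exact Commute.one_right g
    have hgp := cj_mem hg hp
    rcases h.fusion hp hgp (isConj_iff.2 ⟨g, rfl⟩) with e | e
    · exact cj_eq_self_iff.1 e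
    · exfalso
      have h2 : g * g ∈ centralizer ({p} : Set G) := by
        rw [mem_cent_iff, ← cj_eq_self_iff, ← cj_comp, e, cj_inv, e, inv_inv]
      have e' : cj g p = p := cj_eq_self_iff.2 (mem_cent_iff.1 (mem_of_sq hodd h2))
      have hpp : p * p = 1 := mul_eq_one_iff_eq_inv.2 (e'.symm.trans e)
      have := h.P₀_exp_three hp
      rw [pow_succ, pow_two, hpp, one_mul] at this
      exact hp1 this
  have c1 := key x₁ (subset_closure (by simp))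
  exact h.mem_P₀_of_odd (hC (mem_cent_iff.2 c1)) hodd c1 (key x₂ (subset_closure (by simp)))

/-- Piece B: signalizers and classes. -/
theorem core : StmtCore.{u} := by
  intro G _ _ H H₁ H₂ z t x₁ x₂ h
  haveI : Fact (Nat.Prime 3) := ⟨Nat.prime_three⟩
  obtain ⟨R₁, k, hk, hs₁, hprod, hd1, hd2⟩ := h.exists_side
  obtain ⟨R₂, k', -, hs₂, hprod', -, -⟩ := h.symm.exists_side
  rw [Set.insert_comm x₂ x₁, Set.insert_comm x₂ x₁, hprod] at hprod'
  obtain rfl : k = k' := Nat.pow_right_injective (le_refl 2 |>.trans (by norm_num))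
    (Nat.eq_of_mul_eq_mul_left (by norm_num) hprod')
  refine ⟨R₁, R₂, k, ⟨hk, hs₁, hs₂, fun y hy => h.exists_diag hy,
    fun x hx y hy => h.fusion hx hy, hprod, hd1, hd2, ?_⟩⟩
  rintro rfl
  have hC1 := h.zero_side hs₁
  have hC2 := h.symm.zero_side hs₂
  refine ⟨fun x hx hx1 g hg => ?_, fun h27 => ?_⟩
  · have hgx : Commute g x := mem_cent_iff.1 hg
    obtain ⟨i, j, rfl⟩ := h.mem_P₀_pow.1 hx
    by_cases hj : x₂ ^ j = 1
    · rw [hj, mul_one] at hgx hx1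
      exact hC1 (mem_cent_iff.2 (h.commute_gen hx1 hgx))
    by_cases hi : x₁ ^ i = 1
    · rw [hi, one_mul] at hgx hx1
      exact hC2 (mem_cent_iff.2 (h.symm.commute_gen hx1 hgx))
    have hno : ∀ {a b : G} {m : ℕ}, a ^ m ∈ zpowers b → ∀ {K L : Subgroup G},
        Setup H K L z t a b → a ^ m = 1 := by
      intro a b m hab K L k'
      obtain ⟨l, hl⟩ := mem_zpowers_iff.1 hab
      exact k'.eq_one_of_cube (pow_mem k'.mem₁ m) (hl ▸ zpow_mem k'.mem₂ l) (k'.pow_cube₁ m)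
    have h1 : x₁ ^ i * x₂ ^ j ∉ zpowers x₁ := fun hm => hj (hno (b := x₁)
      (by simpa using mul_mem (inv_mem (pow_mem (mem_zpowers x₁) i)) hm) h.symm)
    have h2 : x₁ ^ i * x₂ ^ j ∉ zpowers x₂ := fun hm => hi (hno (b := x₂)
      (by simpa using mul_mem hm (inv_mem (pow_mem (mem_zpowers x₂) j))) h)
    obtain ⟨O, hO, -, -, hC, hfz⟩ := h.exists_diag hx h1 h2
    have hPO : P₀ x₁ x₂ = O := eq_of_normalizer_le hO (hfz ▸ inf_le_left) fun v hv hn =>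
      h.zero_norm hC1 hn (odd_order_of_three hO hv)
    rw [hC, ← hPO] at hg
    exact (sup_le (h.P₀_le_sup.trans (sup_le h.le₁ h.le₂)) (zpowers_le.2 (h.mem_H_iff.2 (Commute.refl z)))) hg
  · obtain ⟨m, hm⟩ := h.P₀_isPGroup.exists_card_eq
    have hPH : P₀ x₁ x₂ ≤ H := h.P₀_le_sup.trans (sup_le h.le₁ h.le₂)
    have hd : Nat.card (P₀ x₁ x₂) ∣ 576 := h.card_H ▸ Subgroup.card_dvd_of_le hPH
    have hm3 : m < 3 := by
      by_contra hge
      have : 3 ^ 3 ∣ 576 := (pow_dvd_pow 3 (by omega)).trans (hm ▸ hd)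
      norm_num at this
    obtain ⟨K, hK, hPK⟩ := Sylow.exists_subgroup_card_pow_prime_le 3 h27 _ hm hm3.le
    have hKp : IsPGroup 3 K := IsPGroup.of_card hK
    have hPKe : P₀ x₁ x₂ = K := eq_of_normalizer_le hKp hPK fun v hv hn =>
      h.zero_norm hC1 hn (odd_order_of_three hKp hv)
    rw [hPKe, hK] at hm
    exact absurd (Nat.pow_right_injective (le_refl 2 |>.trans (by norm_num)) hm) (by omega)

end CfsgLib.G2TwoLocal
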