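import Mathlib
import Cfsg.Agent.Lib.G2Three.Defs

/-!
A four group on a group of odd order: decompositions and the order formula of Brauer and Wielandt
when the four group has no fixed point, and two small lemmas on `p`-groups.
-/

set_option autoImplicit false
set_option linter.style.haveILetI false

namespace CfsgLib.G2TwoLocal

open Subgroup
open CfsgLib.G2Three (cj)

universe u

variable {G : Type u} [Group G]

theorem cj_prod (g a b : G) : cj g (a * b) = cj g a * cj g b := by simp [cj, mul_assoc]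

theorem cj_one (g : G) : cj g 1 = 1 := by simp [cj]

theorem cj_inv (g a : G) : cj g a⁻¹ = (cj g a)⁻¹ := by simp [cj, mul_assoc]

theorem cj_pow (g a : G) (n : ℕ) : cj g (a ^ n) = cj g a ^ n := by simp [cj, conj_pow]

theorem cj_comp (g h a : G) : cj g (cj h a) = cj (g * h) a := by simp [cj, mul_assoc]

theorem cj_eq_self_iff {g a : G} : cj g a = a ↔ Commute g a := by
  rw [cj, mul_inv_eq_iff_eq_mul]
  rfl

theorem cj_invol {g : G} (hg : g * g = 1) (a : G) : cj g (cj g a) = a := by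
  rw [cj_comp, hg]; simp [cj]

theorem cj_mem {O : Subgroup G} {g a : G} (hg : g ∈ normalizer (O : Set G)) (ha : a ∈ O) :
    cj g a ∈ O :=
  (mem_normalizer_iff.1 hg a).1 ha

theorem mem_inf_cent_iff {O : Subgroup G} {g a : G} :
    a ∈ O ⊓ centralizer ({g} : Set G) ↔ a ∈ O ∧ cj g a = a := by
  rw [mem_inf, mem_centralizer_singleton_iff, cj_eq_self_iff]
  exact and_congr_right fun _ => eq_comm

variable {O : Subgroup G}

theorem sqrt_spec (hodd : Odd (Nat.card O)) {a : G} (ha : a ∈ O) :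
    (a ^ ((Nat.card O + 1) / 2)) * (a ^ ((Nat.card O + 1) / 2)) = a := by
  obtain ⟨m, hm⟩ := hodd
  have h : a ^ Nat.card O = 1 := congrArg Subtype.val (pow_card_eq_one' (x := (⟨a, ha⟩ : O)))
  rw [← pow_add, show (Nat.card O + 1) / 2 + (Nat.card O + 1) / 2 = Nat.card O + 1 by omega,
    pow_succ, h, one_mul]

theorem sq_inj (hodd : Odd (Nat.card O)) {a b : G} (ha : a ∈ O) (hb : b ∈ O)
    (h : a * a = b * b) : a = b := by
  have key : ∀ c : G, c ∈ O → c = (c * c) ^ ((Nat.card O + 1) / 2) := by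
    intro c hc
    rw [(Commute.refl c).mul_pow]
    exact (sqrt_spec hodd hc).symm
  rw [key a ha, key b hb, h]

theorem exists_sqrt (hodd : Odd (Nat.card O)) {a : G} (ha : a ∈ O) : ∃ b ∈ O, b * b = a :=
  ⟨_, O.pow_mem ha _, sqrt_spec hodd ha⟩

/-- An element of odd order group is a fixed element times an inverted one. -/
theorem exists_split (hodd : Odd (Nat.card O)) {z : G} (hz : z * z = 1)
    (hzn : z ∈ normalizer (O : Set G)) {g : G} (hg : g ∈ O) :
    ∃ c ∈ O, ∃ i ∈ O, cj z c = c ∧ cj z i = i⁻¹ ∧ g = c * i := by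
  have hzg := cj_mem hzn hg
  obtain ⟨i, hi, hii⟩ := exists_sqrt hodd (mul_mem (inv_mem hzg) hg)
  have hzi : cj z i = i⁻¹ := by
    refine sq_inj hodd (cj_mem hzn hi) (inv_mem hi) ?_
    rw [← cj_prod, hii, ← mul_inv_rev, hii, cj_prod, cj_inv, cj_invol hz]
    group
  refine ⟨g * i⁻¹, mul_mem hg (inv_mem hi), i, hi, ?_, hzi, by group⟩
  rw [cj_prod, cj_inv, hzi, inv_inv]
  calc cj z g * i = cj z g * (i * i) * i⁻¹ := by group
    _ = g * i⁻¹ := by rw [hii]; group

theorem split_unique (hodd : Odd (Nat.card O)) {z c c' i i' : G}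
    (hi : i ∈ O) (hi' : i' ∈ O) (hzc : cj z c = c) (hzc' : cj z c' = c') (hzi : cj z i = i⁻¹)
    (hzi' : cj z i' = i'⁻¹) (h : c * i = c' * i') : c = c' ∧ i = i' := by
  have h2 : c * i⁻¹ = c' * i'⁻¹ := by
    have := congrArg (cj z) h
    rwa [cj_prod, cj_prod, hzc, hzc', hzi, hzi'] at this
  have e : i = i' := by
    refine sq_inj hodd hi hi' ?_
    calc i * i = (c * i⁻¹)⁻¹ * (c * i) := by group
      _ = i' * i' := by rw [h, h2]; group
  exact ⟨by rw [e] at h; exact mul_right_cancel h, e⟩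

/-- A four group `⟨z, t⟩` acting on a group of odd order without fixed points. -/
structure FourAct (O : Subgroup G) (z t : G) : Prop where
  odd : Odd (Nat.card O)
  zz : z * z = 1
  tt : t * t = 1
  comm : Commute z t
  hz : z ∈ normalizer (O : Set G)
  ht : t ∈ normalizer (O : Set G)
  fix : ∀ g ∈ O, cj z g = g → cj t g = g → g = 1

variable {z t : G}

theorem FourAct.cj_comm (h : FourAct O z t) (a : G) : cj t (cj z a) = cj z (cj t a) := by
  rw [cj_comp, cj_comp, h.comm.eq]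

theorem FourAct.inv_of_fix (h : FourAct O z t) {a : G} (ha : a ∈ O) (hta : cj t a = a) :
    cj z a = a⁻¹ := by
  obtain ⟨c, hc, i, hi, hzc, hzi, rfl⟩ := exists_split h.odd h.zz h.hz ha
  have h1 : cj t c * cj t i = c * i := by rw [← cj_prod, hta]
  have := (split_unique h.odd (cj_mem h.ht hi) hi (c := cj t c)
    (by rw [← h.cj_comm, hzc]) hzc
    (by rw [← h.cj_comm, hzi, cj_inv]) hzi h1).1
  rw [h.fix c hc hzc this, one_mul]
  exact hzi

theorem FourAct.inv_of_anti (h : FourAct O z t) {b : G} (_hb : b ∈ O) (hb' : cj (z * t) b = b) :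
    cj t b = cj z b := by
  rw [← cj_comp] at hb'
  have := congrArg (cj z) hb'
  rwa [cj_invol h.zz] at this

theorem FourAct.symm' (h : FourAct O z t) : FourAct O z (z * t) where
  odd := h.odd
  zz := h.zz
  tt := by rw [mul_assoc, ← mul_assoc t, ← h.comm.eq, mul_assoc z t t, h.tt, mul_one, h.zz]
  comm := (Commute.refl z).mul_right h.comm
  hz := h.hz
  ht := mul_mem h.hz h.ht
  fix := fun g hg h1 h2 => h.fix g hg h1 (by
    have := h.inv_of_anti hg h2
    rwa [h1] at this)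

theorem FourAct.anti (h : FourAct O z t) {b : G} (hb : b ∈ O) (hb' : cj (z * t) b = b) :
    cj z b = b⁻¹ ∧ cj t b = b⁻¹ := by
  have hz' : cj z b = b⁻¹ := h.symm'.inv_of_fix hb hb'
  exact ⟨hz', (h.inv_of_anti hb hb').trans hz'⟩

theorem FourAct.commute_fix (h : FourAct O z t) {a a' : G} (ha : a ∈ O) (ha' : a' ∈ O)
    (hta : cj t a = a) (hta' : cj t a' = a') : Commute a a' := by
  have e := h.inv_of_fix (mul_mem ha ha') (by rw [cj_prod, hta, hta'])
  rw [cj_prod, h.inv_of_fix ha hta, h.inv_of_fix ha' hta'] at e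
  exact ((Commute.inv_inv_iff).1 (by
    show a⁻¹ * a'⁻¹ = a'⁻¹ * a⁻¹
    rw [e, mul_inv_rev]))

/-- Every element is `c (a b a)` with `c, a, b` fixed by `z`, `t`, `z t`. -/
theorem FourAct.exists_decomp (h : FourAct O z t) {g : G} (hg : g ∈ O) :
    ∃ c ∈ O, ∃ a ∈ O, ∃ b ∈ O, cj z c = c ∧ cj t a = a ∧ cj (z * t) b = b ∧
      g = c * (a * b * a) := by
  obtain ⟨c, hc, i, hi, hzc, hzi, rfl⟩ := exists_split h.odd h.zz h.hz hg
  have hti := cj_mem h.ht hi
  obtain ⟨s, hs, hss⟩ := exists_sqrt h.odd (mul_mem (inv_mem hi) hti)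
  have hts : cj t s = s⁻¹ := by
    refine sq_inj h.odd (cj_mem h.ht hs) (inv_mem hs) ?_
    rw [← cj_prod, hss, ← mul_inv_rev, hss, cj_prod, cj_inv, cj_invol h.tt]
    group
  have hm : cj t (i * s) = i * s := by
    rw [cj_prod, hts]
    calc cj t i * s⁻¹ = i * (i⁻¹ * cj t i) * s⁻¹ := by group
      _ = i * s := by rw [← hss]; group
  obtain ⟨a, ha, haa⟩ := exists_sqrt h.odd (mul_mem hi hs)
  have hta : cj t a = a := by
    refine sq_inj h.odd (cj_mem h.ht ha) ha ?_
    rw [← cj_prod, haa, hm]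
  have hza := h.inv_of_fix ha hta
  refine ⟨c, hc, a, ha, a⁻¹ * i * a⁻¹, mul_mem (mul_mem (inv_mem ha) hi) (inv_mem ha), hzc, hta,
    ?_, by group⟩
  have htb : cj t (a⁻¹ * i * a⁻¹) = (a⁻¹ * i * a⁻¹)⁻¹ := by
    rw [cj_prod, cj_prod, cj_inv, hta]
    calc a⁻¹ * cj t i * a⁻¹ = a⁻¹ * (i * (i⁻¹ * cj t i)) * a⁻¹ := by group
      _ = a⁻¹ * (i * s * i⁻¹ * (i * s)) * a⁻¹ := by rw [← hss]; group
      _ = (a⁻¹ * i * a⁻¹)⁻¹ := by rw [← haa]; group
  rw [← cj_comp, htb, cj_inv, cj_prod, cj_prod, cj_inv, hza, hzi]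
  group

theorem FourAct.inverted_unique (h : FourAct O z t) {a a' b b' : G} (ha : a ∈ O) (ha' : a' ∈ O)
    (hb : b ∈ O) (hb' : b' ∈ O) (hta : cj t a = a) (hta' : cj t a' = a')
    (htb : cj t b = b⁻¹) (htb' : cj t b' = b'⁻¹) (e : a * b * a = a' * b' * a') :
    a = a' ∧ b = b' := by
  have e2 : a * b⁻¹ * a = a' * b'⁻¹ * a' := by
    have := congrArg (cj t) e
    rwa [cj_prod, cj_prod, cj_prod, cj_prod, hta, hta', htb, htb'] at this
  set d := a'⁻¹ * a with hd
  have e3 : d * (b * b) * d⁻¹ = b' * b' := by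
    calc d * (b * b) * d⁻¹ = a'⁻¹ * ((a * b * a) * (a * b⁻¹ * a)⁻¹) * a' := by rw [hd]; group
      _ = b' * b' := by rw [e, e2]; group
  have hc : Commute a a' := h.commute_fix ha ha' hta hta'
  have e4 : d⁻¹ * (b * b) * d = b' * b' := by
    have hd' : d = a * a'⁻¹ := hc.symm.inv_left.eq
    calc d⁻¹ * (b * b) * d = a' * ((a * b⁻¹ * a)⁻¹ * (a * b * a)) * a'⁻¹ := by rw [hd']; group
      _ = b' * b' := by rw [e, e2]; group
  have hdO : d ∈ O := mul_mem (inv_mem ha') ha
  have hcd : Commute (d * d) (b * b) := by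
    show d * d * (b * b) = b * b * (d * d)
    calc d * d * (b * b) = d * (d * (b * b) * d⁻¹) * d := by group
      _ = d * (d⁻¹ * (b * b) * d) * d := by rw [e3, e4]
      _ = b * b * (d * d) := by group
  have hdb : Commute d (b * b) := by
    have := hcd.pow_left ((Nat.card O + 1) / 2)
    rwa [(Commute.refl d).mul_pow, sqrt_spec h.odd hdO] at this
  have hbb : b = b' := sq_inj h.odd hb hb' (by rw [← e3, hdb.eq, mul_inv_cancel_right])
  subst hbb
  refine ⟨?_, rfl⟩
  have hdb' : Commute d b := by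
    have := hdb.pow_right ((Nat.card O + 1) / 2)
    rwa [(Commute.refl b).mul_pow, sqrt_spec h.odd hb] at this
  have hd' : d = a * a'⁻¹ := hc.symm.inv_left.eq
  have h5 : d * b * d = b := by
    calc d * b * d = a'⁻¹ * (a * b * a) * a'⁻¹ := by
          rw [show d * b * d = d * b * (a * a'⁻¹) by rw [← hd'], hd]; group
      _ = b := by rw [e]; group
  have hdd : d * d = 1 := by
    refine mul_left_cancel (a := b) ?_
    rw [← mul_assoc, ← hdb'.eq, h5, mul_one]
  exact (inv_mul_eq_one.1 (sq_inj h.odd hdO (one_mem O) (by rw [hdd, one_mul]))).symm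

/-- The order formula of Brauer and Wielandt. -/
theorem FourAct.card_eq [Finite G] (h : FourAct O z t) :
    Nat.card O = Nat.card (O ⊓ centralizer ({z} : Set G) : Subgroup G) *
      Nat.card (O ⊓ centralizer ({t} : Set G) : Subgroup G) *
      Nat.card (O ⊓ centralizer ({z * t} : Set G) : Subgroup G) := by
  rw [← Nat.card_prod, ← Nat.card_prod]
  refine (Nat.card_eq_of_bijective
    (fun p : (((O ⊓ centralizer ({z} : Set G) : Subgroup G) × (O ⊓ centralizer ({t} : Set G) : Subgroup G))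
        × (O ⊓ centralizer ({z * t} : Set G) : Subgroup G)) =>
      (⟨(p.1.1 : G) * ((p.1.2 : G) * (p.2 : G) * (p.1.2 : G)),
        mul_mem (mem_inf.1 p.1.1.2).1 (mul_mem (mul_mem (mem_inf.1 p.1.2.2).1 (mem_inf.1 p.2.2).1)
          (mem_inf.1 p.1.2.2).1)⟩ : O)) ⟨?_, ?_⟩).symm
  · rintro ⟨⟨⟨c, hc⟩, ⟨a, ha⟩⟩, ⟨b, hb⟩⟩ ⟨⟨⟨c', hc'⟩, ⟨a', ha'⟩⟩, ⟨b', hb'⟩⟩ e
    obtain ⟨hcO, hzc⟩ := mem_inf_cent_iff.1 hc
    obtain ⟨hcO', hzc'⟩ := mem_inf_cent_iff.1 hc'
    obtain ⟨haO, hta⟩ := mem_inf_cent_iff.1 ha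
    obtain ⟨haO', hta'⟩ := mem_inf_cent_iff.1 ha'
    obtain ⟨hbO, hub⟩ := mem_inf_cent_iff.1 hb
    obtain ⟨hbO', hub'⟩ := mem_inf_cent_iff.1 hb'
    have hzi : ∀ {x y : G}, x ∈ O → y ∈ O → cj t x = x → cj (z * t) y = y →
        cj z (x * y * x) = (x * y * x)⁻¹ := by
      intro x y hx hy hx' hy'
      rw [cj_prod, cj_prod, h.inv_of_fix hx hx', (h.anti hy hy').1]
      group
    obtain ⟨rfl, e'⟩ := split_unique h.odd (mul_mem (mul_mem haO hbO) haO)
      (mul_mem (mul_mem haO' hbO') haO') hzc hzc' (hzi haO hbO hta hub) (hzi haO' hbO' hta' hub')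
      (congrArg Subtype.val e)
    obtain ⟨rfl, rfl⟩ := h.inverted_unique haO haO' hbO hbO' hta hta' (h.anti hbO hub).2
      (h.anti hbO' hub').2 e'
    rfl
  · rintro ⟨g, hg⟩
    obtain ⟨c, hc, a, ha, b, hb, hzc, hta, hub, rfl⟩ := h.exists_decomp hg
    exact ⟨((⟨c, mem_inf_cent_iff.2 ⟨hc, hzc⟩⟩, ⟨a, mem_inf_cent_iff.2 ⟨ha, hta⟩⟩),
      ⟨b, mem_inf_cent_iff.2 ⟨hb, hub⟩⟩), rfl⟩

/-- An automorphism of order three of an abelian group of exponent three moves little. -/
theorem card_le_fix_cube {A : Type*} [CommGroup A] [Finite A] (α : A →* A)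
    (hα : ∀ a, α (α (α a)) = a) (h3 : ∀ a : A, a ^ 3 = 1) (F : Subgroup A)
    (hF : ∀ a, α a = a → a ∈ F) : Nat.card A ≤ Nat.card F ^ 3 := by
  let f : A →* A := MonoidHom.mk' (fun a => α a * a⁻¹) fun a b => by
    rw [map_mul, mul_inv]
    exact mul_mul_mul_comm _ _ _ _
  have hf : ∀ a, f a = α a * a⁻¹ := fun a => rfl
  have hfff : ∀ a, f (f (f a)) = 1 := by
    intro a
    simp only [hf, map_mul, map_inv, hα, mul_inv, inv_inv]
    calc a * (α (α a))⁻¹ * ((α (α a))⁻¹ * α a) * ((α (α a))⁻¹ * α a * (α a * a⁻¹))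
        = ((α (α a)) ^ 3)⁻¹ * (α a) ^ 3 * (a * a⁻¹) := by
          simp only [pow_succ, pow_zero, one_mul, mul_inv]; ac_rfl
      _ = 1 := by rw [h3, h3]; simp
  have hk : f.ker ≤ F := fun a ha => hF a (mul_inv_eq_one.1 (MonoidHom.mem_ker.1 ha))
  have h1 : Nat.card f.range * Nat.card f.ker = Nat.card A := by
    rw [← Nat.card_congr (QuotientGroup.quotientKerEquivRange f).toEquiv,
      ← Subgroup.card_eq_card_quotient_mul_card_subgroup]
  let g : (f.comp f).ker →* f.ker :=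
    { toFun := fun a => ⟨f a, a.2⟩
      map_one' := Subtype.ext (map_one f)
      map_mul' := fun a b => Subtype.ext (map_mul f _ _) }
  have h2 : Nat.card (f.comp f).ker ≤ Nat.card f.ker * Nat.card f.ker := by
    rw [Subgroup.card_eq_card_quotient_mul_card_subgroup g.ker,
      Nat.card_congr (QuotientGroup.quotientKerEquivRange g).toEquiv]
    refine Nat.mul_le_mul ?_ ?_
    · exact Subgroup.card_le_card_group _
    · exact Nat.card_le_card_of_injective
        (fun a : g.ker => (⟨(a : (f.comp f).ker), congrArg Subtype.val (MonoidHom.mem_ker.1 a.2)⟩ : f.ker))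
        fun a b e => Subtype.ext (Subtype.ext (congrArg (fun x : f.ker => (x : A)) e))
  have h3' : Nat.card f.range ≤ Nat.card (f.comp f).ker := Subgroup.card_le_of_le fun b hb => by
    obtain ⟨a, rfl⟩ := hb
    exact hfff a
  have hF' : Nat.card f.ker ≤ Nat.card F := Subgroup.card_le_of_le hk
  rw [← h1]
  calc Nat.card f.range * Nat.card f.ker ≤ Nat.card f.ker * Nat.card f.ker * Nat.card f.ker :=
        Nat.mul_le_mul_right _ (h3'.trans h2)
    _ ≤ Nat.card F ^ 3 := by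
        rw [pow_succ, pow_two]; exact Nat.mul_le_mul (Nat.mul_le_mul hF' hF') hF'

/-- A subgroup of a finite `p`-group which is its own normaliser is the whole group. -/
theorem eq_of_normalizer_le [Finite G] {p : ℕ} [Fact p.Prime] {P S : Subgroup G}
    (hS : IsPGroup p S) (hle : P ≤ S) (h : ∀ g ∈ S, g ∈ normalizer (P : Set G) → g ∈ P) :
    P = S := by
  haveI := hS.isNilpotent
  rcases eq_or_ne (P.subgroupOf S) ⊤ with e | e
  · exact le_antisymm hle (subgroupOf_eq_top.1 e)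
  · exfalso
    obtain ⟨g, hg1, hg2⟩ := SetLike.exists_of_lt
      (Group.normalizerCondition_of_isNilpotent _ (lt_top_iff_ne_top.2 e))
    refine hg2 (mem_subgroupOf.2 (h g g.2 ((mem_normalizer_iff (H := P)).2 fun a => ⟨fun ha => ?_, fun ha => ?_⟩)))
    · exact mem_subgroupOf.1 ((mem_normalizer_iff.1 hg1 ⟨a, hle ha⟩).1 (mem_subgroupOf.2 ha))
    · have := (mem_normalizer_iff.1 (inv_mem hg1) ⟨_, hle ha⟩).1 (mem_subgroupOf.2 ha)
      simpa [mem_subgroupOf, mul_assoc] using this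

end CfsgLib.G2TwoLocal
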