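import Mathlib

/-!
The finite facts about `SL₂(3)` used in the signalizer argument, transported to a subgroup.
-/

set_option autoImplicit false
set_option maxRecDepth 100000
set_option synthInstance.maxSize 4000
set_option synthInstance.maxHeartbeats 400000
set_option linter.style.haveILetI false

namespace CfsgLib.G2TwoLocal

local notation "SL3" => Matrix.SpecialLinearGroup (Fin 2) (ZMod 3)

theorem sl_exp : ∀ a : SL3, a ^ 12 = 1 := by decide +kernel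

theorem sl_invol : ∀ a : SL3, a * a = 1 → a ≠ 1 → a = -1 := by decide +kernel

theorem sl_no_inv : ∀ x a : SL3, x ^ 3 = 1 → x ≠ 1 → a * x * a⁻¹ ≠ x⁻¹ := by decide +kernel

theorem sl_cent : ∀ x a : SL3, x ^ 3 = 1 → x ≠ 1 → a * x = x * a →
    ∃ i : Fin 3, a = x ^ (i : ℕ) ∨ a = x ^ (i : ℕ) * -1 := by decide +kernel

theorem sl_four : ∀ a : SL3, a ^ 4 = 1 → ∀ b : SL3, b ^ 4 = 1 → (a * b) ^ 4 = 1 := by
  decide +kernel

theorem sl_quat : ∀ x : SL3, x ^ 3 = 1 → x ≠ 1 → ∃ u : SL3, u * u = -1 ∧ u * x ≠ x * u := by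
  decide +kernel

theorem sl_comm : ∀ b : SL3, b ^ 3 = 1 → b ≠ 1 →
    ∃ u : SL3, (u * b * u⁻¹ * b⁻¹) ^ 4 = 1 ∧ u * b * u⁻¹ * b⁻¹ ≠ 1 := by decide +kernel

theorem sl_two_syl : ∀ x : SL3, x ^ 3 = 1 → x ≠ 1 → ∃ q : SL3, (x * (q * x * q⁻¹)) ^ 3 = -1 := by
  decide +kernel

universe u

variable {G : Type u} [Group G]

/-- A subgroup isomorphic to `SL₂(3)` with its involution. -/
structure Factor (L : Subgroup G) (z : G) : Prop where
  iso : Nonempty (↥L ≃* SL3)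
  mem : z ∈ L
  sq : z * z = 1
  ne : z ≠ 1

variable {L : Subgroup G} {z : G}

theorem Factor.exists_equiv (h : Factor L z) : ∃ e : ↥L ≃* SL3, e ⟨z, h.mem⟩ = -1 := by
  obtain ⟨e⟩ := h.iso
  refine ⟨e, sl_invol _ ?_ ?_⟩
  · rw [← map_mul, show (⟨z, h.mem⟩ : L) * ⟨z, h.mem⟩ = 1 from Subtype.ext h.sq, map_one]
  · exact fun e' => h.ne (congrArg Subtype.val ((MulEquiv.map_eq_one_iff e).1 e'))

theorem Factor.exp (h : Factor L z) {a : G} (ha : a ∈ L) : a ^ 12 = 1 := by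
  obtain ⟨e, -⟩ := h.exists_equiv
  have := sl_exp (e ⟨a, ha⟩)
  rw [← map_pow, MulEquiv.map_eq_one_iff] at this
  exact congrArg Subtype.val this

theorem Factor.invol (h : Factor L z) {a : G} (ha : a ∈ L) (h2 : a * a = 1) (hne : a ≠ 1) :
    a = z := by
  obtain ⟨e, he⟩ := h.exists_equiv
  have := sl_invol (e ⟨a, ha⟩)
    (by rw [← map_mul, show (⟨a, ha⟩ : L) * ⟨a, ha⟩ = 1 from Subtype.ext h2, map_one])
    (fun e' => hne (congrArg Subtype.val ((MulEquiv.map_eq_one_iff e).1 e')))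
  exact congrArg Subtype.val (e.injective (this.trans he.symm))

theorem Factor.eq_one_of_sq (h : Factor L z) {a : G} (ha : a ∈ L) (h2 : a * a = 1) :
    a = 1 ∨ a = z :=
  (eq_or_ne a 1).imp id (h.invol ha h2)

theorem Factor.transfer_three (e : ↥L ≃* SL3) {x : G} (hx : x ∈ L) (h3 : x ^ 3 = 1)
    (hx1 : x ≠ 1) : e ⟨x, hx⟩ ^ 3 = 1 ∧ e ⟨x, hx⟩ ≠ 1 := by
  refine ⟨?_, fun e' => hx1 (congrArg Subtype.val ((MulEquiv.map_eq_one_iff e).1 e'))⟩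
  rw [← map_pow, show (⟨x, hx⟩ : L) ^ 3 = 1 from Subtype.ext h3, map_one]

theorem Factor.no_inv (h : Factor L z) {x a : G} (hx : x ∈ L) (ha : a ∈ L) (h3 : x ^ 3 = 1)
    (hx1 : x ≠ 1) : a * x * a⁻¹ ≠ x⁻¹ := by
  obtain ⟨e, -⟩ := h.exists_equiv
  obtain ⟨e1, e2⟩ := Factor.transfer_three e hx h3 hx1
  intro hc
  refine sl_no_inv _ (e ⟨a, ha⟩) e1 e2 ?_
  rw [← map_inv, ← map_inv, ← map_mul, ← map_mul]
  exact congrArg e (Subtype.ext hc)

theorem Factor.cent (h : Factor L z) {x a : G} (hx : x ∈ L) (ha : a ∈ L) (h3 : x ^ 3 = 1)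
    (hx1 : x ≠ 1) (hc : Commute a x) : ∃ i j : ℕ, a = x ^ i * z ^ j := by
  obtain ⟨e, he⟩ := h.exists_equiv
  obtain ⟨e1, e2⟩ := Factor.transfer_three e hx h3 hx1
  obtain ⟨i, hi⟩ := sl_cent _ (e ⟨a, ha⟩) e1 e2
    (by rw [← map_mul, ← map_mul]; exact congrArg e (Subtype.ext hc.eq))
  rcases hi with hi | hi
  · rw [← map_pow] at hi
    exact ⟨i, 0, by simpa using congrArg Subtype.val (e.injective hi)⟩
  · rw [← he, ← map_pow, ← map_mul] at hi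
    exact ⟨i, 1, by simpa using congrArg Subtype.val (e.injective hi)⟩

theorem Factor.four (h : Factor L z) {a b : G} (ha : a ∈ L) (hb : b ∈ L) (h4 : a ^ 4 = 1)
    (h4' : b ^ 4 = 1) : (a * b) ^ 4 = 1 := by
  obtain ⟨e, -⟩ := h.exists_equiv
  have := sl_four (e ⟨a, ha⟩)
    (by rw [← map_pow, show (⟨a, ha⟩ : L) ^ 4 = 1 from Subtype.ext h4, map_one]) (e ⟨b, hb⟩)
    (by rw [← map_pow, show (⟨b, hb⟩ : L) ^ 4 = 1 from Subtype.ext h4', map_one])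
  rw [← map_mul, ← map_pow, MulEquiv.map_eq_one_iff] at this
  exact congrArg Subtype.val this

theorem Factor.quat (h : Factor L z) {x : G} (hx : x ∈ L) (h3 : x ^ 3 = 1) (hx1 : x ≠ 1) :
    ∃ u ∈ L, u * u = z ∧ ¬ Commute u x := by
  obtain ⟨e, he⟩ := h.exists_equiv
  obtain ⟨e1, e2⟩ := Factor.transfer_three e hx h3 hx1
  obtain ⟨u, hu, hux⟩ := sl_quat _ e1 e2
  obtain ⟨⟨u, huL⟩, rfl⟩ := e.surjective u
  refine ⟨u, huL, ?_, fun hc => hux ?_⟩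
  · rw [← map_mul, ← he] at hu
    simpa using congrArg Subtype.val (e.injective hu)
  · rw [← map_mul, ← map_mul]
    exact congrArg e (Subtype.ext hc.eq)

theorem Factor.comm (h : Factor L z) {b : G} (hb : b ∈ L) (h3 : b ^ 3 = 1) (hb1 : b ≠ 1) :
    ∃ u ∈ L, (u * b * u⁻¹ * b⁻¹) ^ 4 = 1 ∧ u * b * u⁻¹ * b⁻¹ ≠ 1 := by
  obtain ⟨e, -⟩ := h.exists_equiv
  obtain ⟨e1, e2⟩ := Factor.transfer_three e hb h3 hb1
  obtain ⟨u, hu, hu'⟩ := sl_comm _ e1 e2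
  obtain ⟨⟨u, huL⟩, rfl⟩ := e.surjective u
  simp only [← map_inv, ← map_mul, ← map_pow, ne_eq, MulEquiv.map_eq_one_iff] at hu hu'
  exact ⟨u, huL, congrArg Subtype.val hu, fun h' => hu' (Subtype.ext h')⟩

theorem Factor.two_syl (h : Factor L z) {x : G} (hx : x ∈ L) (h3 : x ^ 3 = 1) (hx1 : x ≠ 1) :
    ∃ q ∈ L, (x * (q * x * q⁻¹)) ^ 3 = z := by
  obtain ⟨e, he⟩ := h.exists_equiv
  obtain ⟨e1, e2⟩ := Factor.transfer_three e hx h3 hx1
  obtain ⟨q, hq⟩ := sl_two_syl _ e1 e2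
  obtain ⟨⟨q, hqL⟩, rfl⟩ := e.surjective q
  rw [← map_inv, ← map_mul, ← map_mul, ← map_mul, ← map_pow, ← he] at hq
  exact ⟨q, hqL, by simpa using congrArg Subtype.val (e.injective hq)⟩

end CfsgLib.G2TwoLocal
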