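import Cfsg.Agent.Lib.G2TwoLocal.Defs
import Cfsg.Agent.Lib.G2TwoLocal.CoreFour
import Cfsg.Agent.Lib.G2TwoLocal.CoreSL

/-!
The structure of `H = C(z)` used in the signalizer argument.
-/

set_option autoImplicit false
set_option linter.style.haveILetI false

namespace CfsgLib.G2TwoLocal

open Subgroup
open scoped Pointwise
open CfsgLib.G2Three (cj)

universe u

variable {G : Type u} [Group G] [Finite G] {H H₁ H₂ : Subgroup G} {z t x₁ x₂ : G}

omit [Finite G] in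
theorem P₀_comm (a b : G) : P₀ a b = P₀ b a := by rw [P₀, P₀, Set.pair_comm]

omit [Finite G] in
/-- A subgroup with a normalising element is stable. -/
theorem cj_mem_iff {O : Subgroup G} {g a : G} (hg : g ∈ normalizer (O : Set G)) :
    cj g a ∈ O ↔ a ∈ O :=
  ((mem_normalizer_iff.1 hg) a).symm

theorem Setup.symm (h : Setup H H₁ H₂ z t x₁ x₂) : Setup H H₂ H₁ z t x₂ x₁ where
  cent_z := h.cent_z
  order_z := h.order_z
  card_H := h.card_H
  le₁ := h.le₂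
  le₂ := h.le₁
  norm₁ := h.norm₂
  norm₂ := h.norm₁
  iso₁ := h.iso₂
  iso₂ := h.iso₁
  inter := by rw [inf_comm]; exact h.inter
  comm := fun a ha b hb => (h.comm b hb a ha).symm
  index := by rw [sup_comm]; exact h.index
  mem₁ := h.mem₂
  mem₂ := h.mem₁
  order₁ := h.order₂
  order₂ := h.order₁
  mem_t := h.mem_t
  order_t := h.order_t
  outer_t := by rw [sup_comm]; exact h.outer_t
  inv₁ := h.inv₂
  inv₂ := h.inv₁
  small := h.small
  outer_of_small := fun i hi h2 hs => by rw [sup_comm]; exact h.outer_of_small i hi h2 hs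
  outer_conj := fun i hi h2 hs => h.outer_conj i hi h2 (by rw [sup_comm]; exact hs)
  invol := h.invol
  two_part := h.two_part
  seven := h.seven

variable (h : Setup H H₁ H₂ z t x₁ x₂)

include h

theorem Setup.zz : z * z = 1 := by rw [← pow_two, ← h.order_z]; exact pow_orderOf_eq_one z

theorem Setup.tt : t * t = 1 := by rw [← pow_two, ← h.order_t]; exact pow_orderOf_eq_one t

theorem Setup.z_ne : z ≠ 1 := fun e => by simpa [e] using h.order_z

theorem Setup.mem_H_iff {g : G} : g ∈ H ↔ Commute g z := by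
  rw [← h.cent_z, mem_centralizer_singleton_iff]; rfl

theorem Setup.z_mem_left : z ∈ H₁ := (mem_inf.1 (h.inter ▸ mem_zpowers z)).1

theorem Setup.factor₁ : Factor H₁ z := ⟨h.iso₁, h.z_mem_left, h.zz, h.z_ne⟩

theorem Setup.zt : Commute z t := (h.mem_H_iff.1 h.mem_t).symm

theorem Setup.x₁_cube : x₁ ^ 3 = 1 := by rw [← h.order₁]; exact pow_orderOf_eq_one _

theorem Setup.x₁_ne : x₁ ≠ 1 := fun e => by simpa [e] using h.order₁

theorem Setup.x₁_mem : x₁ ∈ H := h.le₁ h.mem₁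

theorem Setup.x_comm : Commute x₁ x₂ := h.comm x₁ h.mem₁ x₂ h.mem₂

theorem Setup.z_comm_x₁ : Commute z x₁ := (h.mem_H_iff.1 h.x₁_mem).symm

theorem Setup.exists_mul {k : G} (hk : k ∈ H₁ ⊔ H₂) : ∃ a ∈ H₁, ∃ b ∈ H₂, k = a * b := by
  have : ((H₁ ⊔ H₂ : Subgroup G) : Set G) = (H₁ : Set G) * (H₂ : Set G) :=
    coe_mul_of_right_le_normalizer_left _ _ (h.le₂.trans h.norm₁)
  obtain ⟨a, ha, b, hb, e⟩ := Set.mem_mul.1 (this ▸ (SetLike.mem_coe.2 hk))
  exact ⟨a, ha, b, hb, e.symm⟩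

theorem Setup.sq_mem {g : G} (hg : g ∈ H) : g * g ∈ H₁ ⊔ H₂ := by
  have := mul_self_mem_of_index_two (H := (H₁ ⊔ H₂).subgroupOf H) h.index ⟨g, hg⟩
  exact this

theorem Setup.outer_split {g : G} (hg : g ∈ H) (hgK : g ∉ H₁ ⊔ H₂) :
    ∃ k ∈ H₁ ⊔ H₂, g = k * t := by
  refine ⟨g * t, ?_, by rw [mul_assoc, h.tt, mul_one]⟩
  have := (mul_mem_iff_of_index_two (H := (H₁ ⊔ H₂).subgroupOf H) h.index
    (a := ⟨g, hg⟩) (b := ⟨t, h.mem_t⟩)).2 (iff_of_false hgK h.outer_t)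
  exact this

theorem Setup.inter_eq {a : G} (ha : a ∈ H₁) (ha' : a ∈ H₂) : a = 1 ∨ a = z := by
  have : a ∈ zpowers z := h.inter ▸ mem_inf.2 ⟨ha, ha'⟩
  obtain ⟨i, rfl⟩ := mem_zpowers_iff.1 this
  refine h.factor₁.eq_one_of_sq ha ?_
  rw [← zpow_add, show i + i = 2 * i by ring, zpow_mul, zpow_two, h.zz, one_zpow]

/-- An element of order three in one factor and in the other is trivial. -/
theorem Setup.eq_one_of_cube {a : G} (ha : a ∈ H₁) (ha' : a ∈ H₂) (h3 : a ^ 3 = 1) : a = 1 := by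
  rcases h.inter_eq ha ha' with e | e
  · exact e
  · rw [e, pow_succ, pow_two, h.zz, one_mul] at h3
    exact e.trans h3

theorem Setup.exp_twelve {k : G} (hk : k ∈ H₁ ⊔ H₂) : k ^ 12 = 1 := by
  obtain ⟨a, ha, b, hb, rfl⟩ := h.exists_mul hk
  rw [(h.comm a ha b hb).mul_pow, h.factor₁.exp ha, h.symm.factor₁.exp hb, one_mul]

theorem Setup.odd_cube {g : G} (hg : g ∈ H) (hodd : Odd (orderOf g)) : g ^ 3 = 1 := by
  obtain ⟨m, hm⟩ := hodd
  have hgK : g ∈ H₁ ⊔ H₂ := by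
    have e : g = (g * g) ^ (m + 1) := by
      rw [← pow_two, ← pow_mul, show 2 * (m + 1) = orderOf g + 1 by omega, pow_succ,
        pow_orderOf_eq_one, one_mul]
    rw [e]
    exact pow_mem (h.sq_mem hg) _
  have hd : orderOf g ∣ 12 := orderOf_dvd_of_pow_eq_one (h.exp_twelve hgK)
  have hd' : orderOf g ∣ 3 := Nat.Coprime.dvd_of_dvd_mul_left
    (Nat.Coprime.pow_right 2 (show Nat.Coprime (orderOf g) 2 from
      Nat.coprime_two_right.2 ⟨m, hm⟩)) (show orderOf g ∣ 2 ^ 2 * 3 from hd)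
  exact orderOf_dvd_iff_pow_eq_one.1 hd'

theorem Setup.mem_P₀_pow {y : G} : y ∈ P₀ x₁ x₂ ↔ ∃ i j : ℕ, y = x₁ ^ i * x₂ ^ j := by
  constructor
  · intro hy
    induction hy using closure_induction with
    | mem w hw =>
      rcases hw with rfl | rfl
      · exact ⟨1, 0, by simp⟩
      · exact ⟨0, 1, by simp⟩
    | one => exact ⟨0, 0, by simp⟩
    | mul a b _ _ ha hb =>
      obtain ⟨i, j, rfl⟩ := ha
      obtain ⟨k, l, rfl⟩ := hb
      refine ⟨i + k, j + l, ?_⟩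
      rw [pow_add, pow_add, mul_assoc, ← mul_assoc (x₂ ^ j),
        ((h.x_comm.pow_pow k j).symm).eq]
      group
    | inv a _ ha =>
      obtain ⟨i, j, rfl⟩ := ha
      refine ⟨2 * i, 2 * j, inv_eq_of_mul_eq_one_right ?_⟩
      calc x₁ ^ i * x₂ ^ j * (x₁ ^ (2 * i) * x₂ ^ (2 * j))
          = x₁ ^ i * (x₂ ^ j * x₁ ^ (2 * i)) * x₂ ^ (2 * j) := by group
        _ = x₁ ^ (3 * i) * x₂ ^ (3 * j) := by
          rw [← (h.x_comm.pow_pow (2 * i) j).eq, ← mul_assoc, ← pow_add, mul_assoc, ← pow_add,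
            show i + 2 * i = 3 * i by ring, show j + 2 * j = 3 * j by ring]
        _ = 1 := by rw [pow_mul, pow_mul, h.x₁_cube, h.symm.x₁_cube]; simp
  · rintro ⟨i, j, rfl⟩
    exact mul_mem (pow_mem (subset_closure (by simp)) i) (pow_mem (subset_closure (by simp)) j)

theorem Setup.pow_cube₁ (i : ℕ) : (x₁ ^ i) ^ 3 = 1 := by
  rw [← pow_mul, mul_comm, pow_mul, h.x₁_cube, one_pow]

theorem Setup.P₀_le_sup : P₀ x₁ x₂ ≤ H₁ ⊔ H₂ := fun y hy => by
  obtain ⟨i, j, rfl⟩ := h.mem_P₀_pow.1 hy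
  exact mul_mem (mem_sup_left (pow_mem h.mem₁ i)) (mem_sup_right (pow_mem h.mem₂ j))

theorem Setup.P₀_exp_three {y : G} (hy : y ∈ P₀ x₁ x₂) : y ^ 3 = 1 := by
  obtain ⟨i, j, rfl⟩ := h.mem_P₀_pow.1 hy
  rw [(h.x_comm.pow_pow i j).mul_pow, h.pow_cube₁, h.symm.pow_cube₁, one_mul]

theorem Setup.t_inv {y : G} (hy : y ∈ P₀ x₁ x₂) : cj t y = y⁻¹ := by
  obtain ⟨i, j, rfl⟩ := h.mem_P₀_pow.1 hy
  rw [cj_prod, cj_pow, cj_pow, h.inv₁, h.inv₂, inv_pow, inv_pow, mul_inv_rev]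
  exact ((h.x_comm.pow_pow i j).inv_inv).eq

theorem Setup.t_norm₁ : t ∈ normalizer (H₁ : Set G) := h.norm₁ h.mem_t

/-- Inner elements of `H` fix what they keep in `P₀`, factor by factor. -/
theorem Setup.inner_fix {a b : G} (ha : a ∈ H₁) (hb : b ∈ H₂) {i j : ℕ}
    (hP : cj (a * b) (x₁ ^ i * x₂ ^ j) ∈ P₀ x₁ x₂) :
    Commute a (x₁ ^ i) ∧ Commute b (x₂ ^ j) := by
  obtain ⟨k, l, e⟩ := h.mem_P₀_pow.1 hP
  have e' : cj a (x₁ ^ i) * cj b (x₂ ^ j) = x₁ ^ k * x₂ ^ l := by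
    rw [← e, cj_prod]
    congr 1
    · rw [← cj_comp]
      exact congrArg (cj a) (cj_eq_self_iff.2 (h.comm _ (pow_mem h.mem₁ i) b hb).symm).symm
    · rw [← cj_comp]
      exact (cj_eq_self_iff.2 (h.comm a ha (cj b (x₂ ^ j))
        (mul_mem (mul_mem hb (pow_mem h.mem₂ j)) (inv_mem hb)))).symm
  set p := cj a (x₁ ^ i) with hp
  set q := cj b (x₂ ^ j) with hq
  have hpm : p ∈ H₁ := mul_mem (mul_mem ha (pow_mem h.mem₁ i)) (inv_mem ha)
  have hqm : q ∈ H₂ := mul_mem (mul_mem hb (pow_mem h.mem₂ j)) (inv_mem hb)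
  have e1 : (x₁ ^ k)⁻¹ * p = x₂ ^ l * q⁻¹ := by
    calc (x₁ ^ k)⁻¹ * p = (x₁ ^ k)⁻¹ * (p * q) * q⁻¹ := by group
      _ = x₂ ^ l * q⁻¹ := by rw [e']; group
  have hm : (x₁ ^ k)⁻¹ * p ∈ H₁ := mul_mem (inv_mem (pow_mem h.mem₁ k)) hpm
  have hm' : (x₁ ^ k)⁻¹ * p ∈ H₂ := e1 ▸ mul_mem (pow_mem h.mem₂ l) (inv_mem hqm)
  have hp3 : p ^ 3 = 1 := by rw [hp, ← cj_pow, h.pow_cube₁, cj_one]
  have hpk : p = x₁ ^ k := by
    rcases h.inter_eq hm hm' with e2 | e2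
    · exact (inv_mul_eq_one.1 e2).symm
    · exfalso
      rw [inv_mul_eq_iff_eq_mul] at e2
      rw [e2, (h.z_comm_x₁.symm.pow_left k).mul_pow, h.pow_cube₁, one_mul, pow_succ, pow_two, h.zz,
        one_mul] at hp3
      exact h.z_ne hp3
  have hql : q = x₂ ^ l := by rw [hpk] at e'; exact mul_left_cancel e'
  refine ⟨?_, ?_⟩
  · rcases eq_or_ne (x₁ ^ i) 1 with e2 | e2
    · rw [e2]; exact Commute.one_right _
    · rcases (show i % 3 = 0 ∨ i % 3 = 1 ∨ i % 3 = 2 by omega) with e3 | e3 | e3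
      · exact absurd (by rw [pow_eq_pow_mod i h.x₁_cube, e3, pow_zero]) e2
      all_goals
        rcases (show k % 3 = 0 ∨ k % 3 = 1 ∨ k % 3 = 2 by omega) with e4 | e4 | e4
      all_goals
        rw [hp, pow_eq_pow_mod i h.x₁_cube, pow_eq_pow_mod k h.x₁_cube, e3, e4] at hpk
      all_goals rw [pow_eq_pow_mod i h.x₁_cube, e3]
      all_goals try simp only [pow_zero, pow_one] at hpk ⊢
      · exact absurd (congrArg (fun v => a⁻¹ * v * a) hpk) (by simp [cj, mul_assoc, h.x₁_ne])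
      · exact cj_eq_self_iff.1 hpk
      · exact absurd (hpk.trans (inv_eq_of_mul_eq_one_right (by rw [← pow_succ']; exact h.x₁_cube)).symm)
          (h.factor₁.no_inv h.mem₁ ha h.x₁_cube h.x₁_ne)
      · exact absurd (congrArg (fun v => a⁻¹ * v * a) hpk) (by
          simpa [cj, mul_assoc] using fun e5 : x₁ ^ 2 = 1 => h.x₁_ne (by
            have := h.x₁_cube; rwa [pow_succ, e5, one_mul] at this))
      · have h2 : x₁ ^ 2 = x₁⁻¹ :=
          (inv_eq_of_mul_eq_one_right (by rw [← pow_succ']; exact h.x₁_cube)).symm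
        rw [h2, cj_inv, inv_eq_iff_eq_inv] at hpk
        exact absurd hpk (h.factor₁.no_inv h.mem₁ ha h.x₁_cube h.x₁_ne)
      · exact cj_eq_self_iff.1 hpk
  · rcases eq_or_ne (x₂ ^ j) 1 with e2 | e2
    · rw [e2]; exact Commute.one_right _
    · have h2' := h.symm.x₁_cube
      rcases (show j % 3 = 0 ∨ j % 3 = 1 ∨ j % 3 = 2 by omega) with e3 | e3 | e3
      · exact absurd (by rw [pow_eq_pow_mod j h2', e3, pow_zero]) e2
      all_goals
        rcases (show l % 3 = 0 ∨ l % 3 = 1 ∨ l % 3 = 2 by omega) with e4 | e4 | e4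
      all_goals
        rw [hq, pow_eq_pow_mod j h2', pow_eq_pow_mod l h2', e3, e4] at hql
      all_goals rw [pow_eq_pow_mod j h2', e3]
      all_goals try simp only [pow_zero, pow_one] at hql ⊢
      · exact absurd (congrArg (fun v => b⁻¹ * v * b) hql) (by simp [cj, mul_assoc, h.symm.x₁_ne])
      · exact cj_eq_self_iff.1 hql
      · exact absurd (hql.trans (inv_eq_of_mul_eq_one_right (by rw [← pow_succ']; exact h2')).symm)
          (h.symm.factor₁.no_inv h.mem₂ hb h2' h.symm.x₁_ne)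
      · exact absurd (congrArg (fun v => b⁻¹ * v * b) hql) (by
          simpa [cj, mul_assoc] using fun e5 : x₂ ^ 2 = 1 => h.symm.x₁_ne (by
            rw [pow_succ, e5, one_mul] at h2'; exact h2'))
      · have h2 : x₂ ^ 2 = x₂⁻¹ := (inv_eq_of_mul_eq_one_right (by rw [← pow_succ']; exact h2')).symm
        rw [h2, cj_inv, inv_eq_iff_eq_inv] at hql
        exact absurd hql (h.symm.factor₁.no_inv h.mem₂ hb h2' h.symm.x₁_ne)
      · exact cj_eq_self_iff.1 hql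

/-- `H` fuses an element of `P₀` into `P₀` only up to inversion. -/
theorem Setup.fusion_H {g y : G} (hg : g ∈ H) (hy : y ∈ P₀ x₁ x₂) (hP : cj g y ∈ P₀ x₁ x₂) :
    cj g y = y ∧ g ∈ H₁ ⊔ H₂ ∨ cj g y = y⁻¹ ∧ g ∉ H₁ ⊔ H₂ := by
  have inner : ∀ k ∈ H₁ ⊔ H₂, ∀ w ∈ P₀ x₁ x₂, cj k w ∈ P₀ x₁ x₂ → cj k w = w := by
    intro k hk w hw hkw
    obtain ⟨a, ha, b, hb, rfl⟩ := h.exists_mul hk
    obtain ⟨i, j, rfl⟩ := h.mem_P₀_pow.1 hw
    obtain ⟨h1, h2⟩ := h.inner_fix ha hb hkw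
    have hb1 : Commute b (x₁ ^ i) := (h.comm _ (pow_mem h.mem₁ i) b hb).symm
    have ha2 : Commute a (x₂ ^ j) := h.comm a ha _ (pow_mem h.mem₂ j)
    exact cj_eq_self_iff.2 ((h1.mul_left hb1).mul_right (ha2.mul_left h2))
  by_cases hgK : g ∈ H₁ ⊔ H₂
  · exact Or.inl ⟨inner g hgK y hy hP, hgK⟩
  · obtain ⟨k, hk, rfl⟩ := h.outer_split hg hgK
    rw [← cj_comp, h.t_inv hy] at hP ⊢
    exact Or.inr ⟨inner k hk _ (inv_mem hy) hP, hgK⟩

/-- The centralizer of an element of `P₀` in `H`, factor by factor. -/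
theorem Setup.cent_split {g : G} (hg : g ∈ H) {i j : ℕ} (hne : x₁ ^ i * x₂ ^ j ≠ 1)
    (hc : Commute g (x₁ ^ i * x₂ ^ j)) :
    ∃ a ∈ H₁, ∃ b ∈ H₂, g = a * b ∧ Commute a (x₁ ^ i) ∧ Commute b (x₂ ^ j) := by
  have hy : x₁ ^ i * x₂ ^ j ∈ P₀ x₁ x₂ := h.mem_P₀_pow.2 ⟨i, j, rfl⟩
  have e := cj_eq_self_iff.2 hc
  have hP : cj g (x₁ ^ i * x₂ ^ j) ∈ P₀ x₁ x₂ := by rwa [e]
  rcases h.fusion_H hg hy hP with ⟨-, hgK⟩ | ⟨e', -⟩
  · obtain ⟨a, ha, b, hb, rfl⟩ := h.exists_mul hgK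
    exact ⟨a, ha, b, hb, rfl, h.inner_fix ha hb hP⟩
  · exfalso
    refine hne ?_
    have h2 : (x₁ ^ i * x₂ ^ j) * (x₁ ^ i * x₂ ^ j) = 1 := by
      conv_lhs => arg 1; rw [← e, e']
      exact inv_mul_cancel _
    have := h.P₀_exp_three hy
    rwa [pow_succ, pow_two, h2, one_mul] at this

theorem Setup.cent₁ {g : G} (hg : g ∈ H) (hc : Commute g x₁) :
    ∃ i : ℕ, ∃ b ∈ H₂, g = x₁ ^ i * b := by
  obtain ⟨a, ha, b, hb, rfl, h1, -⟩ := h.cent_split hg (i := 1) (j := 0)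
    (by simpa using h.x₁_ne) (by simpa using hc)
  rw [pow_one] at h1
  obtain ⟨i, j, rfl⟩ := h.factor₁.cent h.mem₁ ha h.x₁_cube h.x₁_ne h1
  exact ⟨i, z ^ j * b, mul_mem (pow_mem h.symm.z_mem_left j) hb, by group⟩

theorem Setup.cent₁₂ {g : G} (hg : g ∈ H) (hc : Commute g x₁) (hc' : Commute g x₂) :
    ∃ i j l : ℕ, g = x₁ ^ i * x₂ ^ j * z ^ l := by
  obtain ⟨i, b, hb, rfl⟩ := h.cent₁ hg hc
  have hb' : Commute b x₂ := by
    have h1 : Commute ((x₁ ^ i)⁻¹) x₂ := (h.x_comm.pow_left i).inv_left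
    simpa using h1.mul_left hc'
  obtain ⟨j, l, rfl⟩ := h.symm.factor₁.cent h.mem₂ hb h.symm.x₁_cube h.symm.x₁_ne hb'
  exact ⟨i, j, l, by group⟩

/-- The centralizer in `H` of a nontrivial element of `P₀` has only one involution. -/
theorem Setup.unique_invol {g y : G} (hy : y ∈ P₀ x₁ x₂) (hy1 : y ≠ 1) (hg : g ∈ H)
    (hc : Commute g y) (hg2 : g * g = 1) (hg1 : g ≠ 1) : g = z := by
  obtain ⟨i, j, rfl⟩ := h.mem_P₀_pow.1 hy
  obtain ⟨a, ha, b, hb, rfl, h1, h2⟩ := h.cent_split hg hy1 hc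
  have key : ∀ {K₁ K₂ : Subgroup G} {w₁ w₂ : G}, Setup H K₁ K₂ z t w₁ w₂ → ∀ (m : ℕ) {c d : G},
      c ∈ K₁ → d ∈ K₂ → Commute c (w₁ ^ m) → w₁ ^ m ≠ 1 → c * d * (c * d) = 1 → c * d ≠ 1 →
      c * d = z := by
    intro K₁ K₂ w₁ w₂ k m c d hc hd hcm hm1 h4 h5
    obtain ⟨p, q, rfl⟩ := k.factor₁.cent (pow_mem k.mem₁ m) hc (k.pow_cube₁ m) hm1 hcm
    have hp : (w₁ ^ m) ^ p = 1 := by
      have hcd : Commute ((w₁ ^ m) ^ p * z ^ q) d := k.comm _ hc _ hd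
      have e : ((w₁ ^ m) ^ p * z ^ q) * ((w₁ ^ m) ^ p * z ^ q) = (d * d)⁻¹ := by
        refine eq_inv_of_mul_eq_one_left ?_
        rw [← h4]
        exact hcd.mul_mul_mul_comm _ _
      have hzz : Commute ((w₁ ^ m) ^ p) (z ^ q) := ((k.z_comm_x₁.symm.pow_left m).pow_left p).pow_right q
      have e2 : ((w₁ ^ m) ^ p * z ^ q) * ((w₁ ^ m) ^ p * z ^ q) = (w₁ ^ m) ^ (2 * p) := by
        rw [hzz.symm.mul_mul_mul_comm, ← pow_add, ← pow_add, show q + q = 2 * q by ring,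
          pow_mul z, pow_two z, k.zz, one_pow, mul_one, two_mul]
      rw [e2] at e
      have h1' : (w₁ ^ m) ^ (2 * p) = 1 := k.eq_one_of_cube (pow_mem (pow_mem k.mem₁ m) _)
        (e ▸ inv_mem (mul_mem hd hd))
        (by rw [← pow_mul, mul_comm (2 * p), pow_mul, k.pow_cube₁, one_pow])
      calc (w₁ ^ m) ^ p = (w₁ ^ m) ^ p * ((w₁ ^ m) ^ (2 * p)) := by rw [h1', mul_one]
        _ = ((w₁ ^ m) ^ 3) ^ p := by rw [← pow_add, ← pow_mul _ 3, show p + 2 * p = 3 * p by ring]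
        _ = 1 := by rw [k.pow_cube₁, one_pow]
    rw [hp, one_mul] at h4 h5 ⊢
    exact k.symm.factor₁.invol (mul_mem (pow_mem k.symm.z_mem_left q) hd) h4 h5
  rcases eq_or_ne (x₁ ^ i) 1 with e | e
  · have e' : x₂ ^ j ≠ 1 := by rwa [e, one_mul] at hy1
    rw [(h.comm a ha b hb).eq] at hg2 hg1 ⊢
    exact key h.symm j hb ha h2 e' hg2 hg1
  · exact key h i ha hb h1 e hg2 hg1

/-- An element of the second factor moves `t` to `z t`. -/
theorem Setup.exists_swap : ∃ w ∈ H₂, cj w t = z * t := by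
  have f := h.symm.factor₁
  have tn : t ∈ normalizer (H₂ : Set G) := h.norm₂ h.mem_t
  have hz4 : ∀ u : G, u * u = z → u ^ 4 = 1 := fun u hu => by
    rw [show (4 : ℕ) = 2 + 2 from rfl, pow_add, pow_two, hu, h.zz]
  have ok : ∀ w ∈ H₂, cj t w = w⁻¹ → w * w = z → cj w t = z * t := by
    intro w _ e ew
    calc cj w t = w * (t * w * t⁻¹)⁻¹ * t := by simp only [cj]; group
      _ = z * t := by rw [show t * w * t⁻¹ = w⁻¹ from e, inv_inv, ew]
  have step : ∀ u ∈ H₂, u * u = z → cj t u ≠ u → ∃ w ∈ H₂, cj w t = z * t := by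
    intro u hu huz hne
    by_cases hv : cj t u = u⁻¹
    · exact ⟨u, hu, ok u hu hv huz⟩
    set v := cj t u with hvdef
    have hvm : v ∈ H₂ := cj_mem tn hu
    have hvz : v * v = z := by
      rw [hvdef, ← cj_prod, huz]
      exact cj_eq_self_iff.2 h.zt.symm
    have hzc : Commute z u := by rw [← huz]; exact (Commute.refl u).mul_left (Commute.refl u)
    have hinv : cj t (u * v) = (u * v)⁻¹ := by
      refine eq_inv_of_mul_eq_one_left ?_
      rw [cj_prod, ← hvdef, hvdef, cj_invol h.tt, ← hvdef]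
      calc v * u * (u * v) = v * (u * u) * v := by group
        _ = 1 := by
          rw [huz, show v * z = z * v by rw [← hvz]; group, mul_assoc, hvz, h.zz]
    refine ⟨u * v, mul_mem hu hvm, ok _ (mul_mem hu hvm) hinv ?_⟩
    have h4 := f.four hu hvm (hz4 u huz) (hz4 v hvz)
    rw [show (4 : ℕ) = 2 + 2 from rfl, pow_add, pow_two] at h4
    rcases f.eq_one_of_sq (mul_mem (mul_mem hu hvm) (mul_mem hu hvm)) h4 with e | e
    · exfalso
      rcases f.eq_one_of_sq (mul_mem hu hvm) e with e' | e'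
      · exact hv (eq_inv_of_mul_eq_one_right e')
      · refine hne ?_
        calc v = u⁻¹ * (u * v) := by group
          _ = u := by rw [e', ← huz]; group
    · exact e
  obtain ⟨u, hu, huz, hux⟩ := f.quat h.mem₂ h.symm.x₁_cube h.symm.x₁_ne
  by_cases hv : cj t u = u
  · refine step (cj x₂ u) (mul_mem (mul_mem h.mem₂ hu) (inv_mem h.mem₂)) ?_ fun e => hux ?_
    · rw [← cj_prod, huz]
      exact cj_eq_self_iff.2 h.symm.z_comm_x₁.symm
    · have e' : cj x₂⁻¹ u = cj x₂ u := by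
        calc cj x₂⁻¹ u = cj (cj t x₂) (cj t u) := by rw [h.inv₂, hv]
          _ = cj t (cj x₂ u) := by simp only [cj]; group
          _ = cj x₂ u := e
      have e2 : cj (x₂ * x₂) u = u := by
        calc cj (x₂ * x₂) u = cj x₂ (cj x₂⁻¹ u) := by rw [e', cj_comp]
          _ = u := by rw [cj_comp, mul_inv_cancel]; simp [cj]
      have hc := (cj_eq_self_iff.1 e2).pow_left 2
      rw [show (x₂ * x₂) ^ 2 = x₂ ^ 3 * x₂ by rw [← pow_two, ← pow_mul, ← pow_succ], h.symm.x₁_cube,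
        one_mul] at hc
      exact hc.symm
  · exact step u hu huz hv

end CfsgLib.G2TwoLocal
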