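import Cfsg.Agent.Lib.G2TwoLocal.CoreH
import Cfsg.Agent.Lib.Involutions.ZStar.Main
import Cfsg.Agent.Lib.Base.Cores

/-!
The centralisers of the elements of `P₀`: `z` is isolated in them, so they are an odd core times
their intersection with `H`.
-/

set_option autoImplicit false
set_option linter.style.haveILetI false

namespace CfsgLib.G2TwoLocal

open Subgroup Cfsg CfsgLib.Involutions
open CfsgLib.G2Three (cj)

universe u

variable {G : Type u} [Group G] [Finite G] {H H₁ H₂ : Subgroup G} {z t x₁ x₂ : G}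

omit [Finite G] in
theorem cj_eq_one_iff {g a : G} : cj g a = 1 ↔ a = 1 := by simp [cj]

omit [Finite G] in
theorem order_invol {v : G} (h1 : v * v = 1) (h2 : v ≠ 1) : orderOf v = 2 :=
  orderOf_eq_prime (by rw [pow_two, h1]) h2

omit [Finite G] in
/-- An element of odd order whose square is in a subgroup is in it. -/
theorem mem_of_sq {K : Subgroup G} {g : G} (hodd : Odd (orderOf g)) (h : g * g ∈ K) : g ∈ K := by
  obtain ⟨m, hm⟩ := hodd
  have e : g = (g * g) ^ (m + 1) := by
    rw [← pow_two, ← pow_mul, show 2 * (m + 1) = orderOf g + 1 by omega, pow_succ,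
      pow_orderOf_eq_one, one_mul]
  rw [e]
  exact pow_mem h _

omit [Finite G] in
theorem odd_order_of_mem {K : Subgroup G} (hK : Odd (Nat.card K)) {g : G} (hg : g ∈ K) :
    Odd (orderOf g) :=
  hK.of_dvd_nat (Subgroup.orderOf_mk g hg ▸ orderOf_dvd_natCard _)

/-- The data of a centraliser of odd core type. -/
structure LocalCore (H : Subgroup G) (z y : G) (O : Subgroup G) : Prop where
  le : O ≤ centralizer ({y} : Set G)
  odd : Odd (Nat.card O)
  norm : ∀ g : G, cj g y = y ∨ cj g y = y⁻¹ → g ∈ normalizer (O : Set G)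
  split : ∀ g ∈ centralizer ({y} : Set G), ∃ a ∈ O, ∃ c ∈ H, Commute c y ∧ g = a * c
  invol : ∀ v : G, Commute v y → orderOf v = 2 → ∃ c : G, Commute c y ∧ cj c v = z
  absorb : ∀ M : Subgroup G, M ≤ centralizer ({y} : Set G) → Odd (Nat.card M) →
    (∀ c ∈ H, Commute c y → c ∈ normalizer (M : Set G)) → M ≤ O

omit [Finite G] in
theorem mem_cent_iff {g y : G} : g ∈ centralizer ({y} : Set G) ↔ Commute g y :=
  mem_centralizer_singleton_iff

omit [Finite G] in
theorem norm_cent {g y : G} (hg : cj g y = y ∨ cj g y = y⁻¹) :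
    g ∈ normalizer ((centralizer ({y} : Set G) : Subgroup G) : Set G) := by
  refine mem_normalizer_iff.2 fun a => ?_
  rw [mem_centralizer_singleton_iff, mem_centralizer_singleton_iff]
  have e : Commute (cj g a) (cj g y) ↔ Commute a y := by
    constructor
    · intro hc
      have := congrArg (fun v => g⁻¹ * v * g) hc.eq
      simpa [cj, mul_assoc, Commute, SemiconjBy] using this
    · intro hc
      show cj g a * cj g y = cj g y * cj g a
      rw [← cj_prod, ← cj_prod, hc.eq]
  refine e.symm.trans ?_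
  rcases hg with hg | hg <;> rw [hg]
  · exact Iff.rfl
  · exact Commute.inv_right_iff

variable (h : Setup H H₁ H₂ z t x₁ x₂)

include h

theorem Setup.exists_localCore {y : G} (hy : y ∈ P₀ x₁ x₂) (hy1 : y ≠ 1) :
    ∃ O : Subgroup G, LocalCore H z y O := by
  set C := centralizer ({y} : Set G) with hC
  have hyH : y ∈ H := (sup_le h.le₁ h.le₂) (h.P₀_le_sup hy)
  have hzy : Commute z y := (h.mem_H_iff.1 hyH).symm
  have hzC : z ∈ C := mem_centralizer_singleton_iff.2 hzy
  let zC : C := ⟨z, hzC⟩
  have hz2 : orderOf zC = 2 := by rw [← Subgroup.orderOf_coe]; exact h.order_z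
  have huniq : ∀ v : G, Commute v y → Commute v z → v * v = 1 → v ≠ 1 → v = z :=
    fun v hvy hvz h1 h2 => h.unique_invol hy hy1 (h.mem_H_iff.2 hvz) hvy h1 h2
  have hiso : IsIsolatedInvolution zC := by
    refine ⟨hz2, fun g hg => Subtype.ext ?_⟩
    have hgz : Commute ((g * zC * g⁻¹ : C) : G) z := (congrArg Subtype.val hg.eq).symm
    refine huniq _ (mem_centralizer_singleton_iff.1 (g * zC * g⁻¹).2) hgz ?_ ?_
    · show (g : G) * z * (g : G)⁻¹ * ((g : G) * z * (g : G)⁻¹) = 1
      calc (g : G) * z * (g : G)⁻¹ * ((g : G) * z * (g : G)⁻¹) = g * (z * z) * (g : G)⁻¹ := by group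
        _ = 1 := by rw [h.zz]; group
    · intro e
      exact h.z_ne (cj_eq_one_iff.1 (show cj (g : G) z = 1 from e))
  refine ⟨(oddCore C).map C.subtype, Subgroup.map_subtype_le _, ?_, fun g hg => ?_, fun g hg => ?_,
    fun v hvy hv => ?_, fun M hM hodd hn => ?_⟩
  · rw [Base.card_map_subtype]
    exact (Nat.coprime_two_right.1 (Base.pPrimeCore_coprime 2 C))
  · exact Base.normalizer_le_normalizer_map_subtype C _ (norm_cent hg)
  · obtain ⟨a, ha, c, hc, e⟩ := ZStar.exists_mul_centralizer hiso (⟨g, hg⟩ : C)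
    refine ⟨a, mem_map_of_mem _ ha, c, h.mem_H_iff.2 ?_, mem_centralizer_singleton_iff.1 c.2,
      congrArg Subtype.val e⟩
    exact congrArg Subtype.val (mem_centralizer_singleton_iff.1 hc)
  · have hv2 : v * v = 1 := invol_mul_self hv
    rcases Nat.even_or_odd (orderOf (z * v)) with ⟨m, hm⟩ | hod
    · refine ⟨1, Commute.one_left _, ?_⟩
      have hm0 : 0 < m := by have := orderOf_pos (z * v); omega
      have huu : (z * v) ^ m * (z * v) ^ m = 1 := by rw [← pow_add, ← hm, pow_orderOf_eq_one]
      have hu1 : (z * v) ^ m ≠ 1 := fun e => by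
        have := orderOf_le_of_pow_eq_one hm0 e; omega
      have hzu : cj z ((z * v) ^ m) = (z * v) ^ m := by
        rw [cj_pow, show cj z (z * v) = (z * v)⁻¹ by
          simp [cj, mul_inv_rev, mul_assoc, invol_inv hv, invol_inv h.order_z]
          rw [← mul_assoc z z, h.zz, one_mul], inv_pow]
        exact inv_eq_of_mul_eq_one_right huu
      have huy : Commute ((z * v) ^ m) y := (hzy.mul_left hvy).pow_left m
      have huz := huniq _ huy (cj_eq_self_iff.1 hzu).symm huu hu1
      have hc : Commute z (z * v) := by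
        have := (Commute.refl (z * v)).pow_left m
        rwa [huz] at this
      have hzv : Commute v z := by
        have := (Commute.refl z).inv_right.mul_right hc
        rw [inv_mul_cancel_left] at this
        exact this.symm
      rw [huniq v hvy hzv hv2 (invol_ne_one hv)]
      simp [cj]
    · obtain ⟨k, hk⟩ := exists_zpow_conj_of_odd h.order_z hv hod
      refine ⟨((z * v) ^ k)⁻¹, ((hzy.mul_left hvy).zpow_left k).inv_left, ?_⟩
      generalize (z * v) ^ k = d at hk ⊢
      subst hk
      simp only [cj]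
      group
  · haveI : (oddCore C).Normal := pPrimeCore_normal 2 C
    set O := (oddCore C).map C.subtype with hO
    have hMn : (O ⊔ M).subgroupOf C ≤ oddCore C := by
      have hsplit : ∀ g ∈ C, g ∈ normalizer ((O ⊔ M : Subgroup G) : Set G) := by
        intro g hg
        obtain ⟨a, ha, c, hc, e⟩ := ZStar.exists_mul_centralizer hiso (⟨g, hg⟩ : C)
        have e' : g = (a : G) * c := congrArg Subtype.val e
        rw [e']
        refine mul_mem (le_normalizer (mem_sup_left (mem_map_of_mem _ ha))) ?_
        have hcH : (c : G) ∈ H :=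
          h.mem_H_iff.2 (congrArg Subtype.val (mem_centralizer_singleton_iff.1 hc))
        have hcO : (c : G) ∈ normalizer (O : Set G) :=
          Base.le_normalizer_map_pPrimeCore C c.2
        have hcM := hn c hcH (mem_centralizer_singleton_iff.1 c.2)
        refine mem_normalizer_iff.2 fun w => ⟨fun hw => ?_, fun hw => ?_⟩
        · have : cj (c : G) w ∈ (O ⊔ M).map (MulAut.conj (c : G)).toMonoidHom :=
            mem_map_of_mem _ hw
          rw [Subgroup.map_sup, Base.map_conj_eq_self_iff.2 hcO, Base.map_conj_eq_self_iff.2 hcM]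
            at this
          exact this
        · have : cj (c : G)⁻¹ ((c : G) * w * (c : G)⁻¹) ∈
              (O ⊔ M).map (MulAut.conj (c : G)⁻¹).toMonoidHom := mem_map_of_mem _ hw
          rw [Subgroup.map_sup, Base.map_conj_eq_self_iff.2 (inv_mem hcO),
            Base.map_conj_eq_self_iff.2 (inv_mem hcM)] at this
          simpa [cj, mul_assoc] using this
      haveI : ((O ⊔ M).subgroupOf C).Normal := normal_subgroupOf_of_le_normalizer hsplit
      refine Base.le_pPrimeCore ?_
      have hOle : O ≤ C := Subgroup.map_subtype_le _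
      have e : (O ⊔ M).subgroupOf C = M.subgroupOf C ⊔ oddCore C := by
        rw [sup_comm O M, subgroupOf_sup hM hOle]
        congr 1
        rw [hO, subgroupOf, comap_map_eq_self_of_injective C.subtype_injective]
      rw [e]
      refine Nat.Coprime.coprime_dvd_left (Base.card_sup_dvd _ _) (Nat.Coprime.mul_left ?_
        (Base.pPrimeCore_coprime 2 C))
      rw [Nat.card_congr (subgroupOfEquivOfLe hM).toEquiv]
      exact Nat.coprime_two_right.2 hodd
    intro w hw
    exact ⟨⟨w, hM hw⟩, hMn (mem_subgroupOf.2 (mem_sup_right hw)), rfl⟩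

/-- The fusion in `P₀`. -/
theorem Setup.fusion {x y : G} (hx : x ∈ P₀ x₁ x₂) (hy : y ∈ P₀ x₁ x₂) (hxy : IsConj x y) :
    y = x ∨ y = x⁻¹ := by
  rcases eq_or_ne x 1 with rfl | hx1
  · exact Or.inl (isConj_one_right.1 hxy)
  obtain ⟨g, hg⟩ := isConj_iff.1 hxy
  have hy1 : y ≠ 1 := fun e => hx1 (isConj_one_left.1 (e ▸ hxy))
  obtain ⟨O, hO⟩ := h.exists_localCore hy hy1
  have hzx : cj z x = x :=
    cj_eq_self_iff.2 (h.mem_H_iff.1 ((sup_le h.le₁ h.le₂) (h.P₀_le_sup hx))).symm
  have hvy : Commute (cj g z) y := by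
    rw [← hg]
    show cj g z * cj g x = cj g x * cj g z
    rw [← cj_prod, ← cj_prod, (cj_eq_self_iff.1 hzx).eq]
  have hv : orderOf (cj g z) = 2 := by
    refine order_invol ?_ fun e => h.z_ne (cj_eq_one_iff.1 e)
    rw [← cj_prod, h.zz, cj_one]
  obtain ⟨c, hcy, hc⟩ := hO.invol _ hvy hv
  have hH : c * g ∈ H := by
    refine h.mem_H_iff.2 (cj_eq_self_iff.1 ?_)
    rw [← cj_comp, hc]
  have e : cj (c * g) x = y := by
    rw [← cj_comp, show cj g x = y from hg]
    exact cj_eq_self_iff.2 hcy
  rcases h.fusion_H hH hx (e ▸ hy) with ⟨e', -⟩ | ⟨e', -⟩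
  · exact Or.inl (e.symm.trans e')
  · exact Or.inr (e.symm.trans e')

end CfsgLib.G2TwoLocal
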