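import Cfsg.Agent.Lib.G2TwoLocal.CoreLocal

/-!
The signalizer of `x₁` and the part of it centralising `x₂`.
-/

set_option autoImplicit false
set_option linter.style.haveILetI false

namespace CfsgLib.G2TwoLocal

open Subgroup Cfsg
open scoped Pointwise
open CfsgLib.G2Three (cj)

universe u

variable {G : Type u} [Group G] [Finite G] {H H₁ H₂ : Subgroup G} {z t x₁ x₂ : G}

omit [Finite G] in
theorem pow_three_inj {a b : ℕ} (h : 3 ^ a ≤ 3 ^ b) : a ≤ b :=
  (Nat.pow_le_pow_iff_right (by norm_num)).1 h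

/-- Odd subgroups fixed by an involution are small. -/
theorem Setup.odd_cent_invol (h : Setup H H₁ H₂ z t x₁ x₂) {i : G} (hi : orderOf i = 2)
    {K : Subgroup G} (hK : Odd (Nat.card K)) (hKi : ∀ g ∈ K, cj i g = g) :
    Nat.card K ∣ 9 ∧ ∀ g ∈ K, g ^ 3 = 1 := by
  obtain ⟨c, hc⟩ := isConj_iff.1 (h.invol i hi)
  have hle : K.map (MulAut.conj c⁻¹).toMonoidHom ≤ H := by
    rintro _ ⟨g, hg, rfl⟩
    refine h.mem_H_iff.2 ?_
    have e : Commute g i := (cj_eq_self_iff.1 (hKi g hg)).symm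
    have := congrArg (fun v => c⁻¹ * v * c) e.eq
    rw [← hc] at this
    simpa [Commute, SemiconjBy, mul_assoc] using this
  have hcard : Nat.card (K.map (MulAut.conj c⁻¹).toMonoidHom) = Nat.card K :=
    card_map_of_injective (MulAut.conj c⁻¹).injective
  refine ⟨?_, fun g hg => ?_⟩
  · have hd : Nat.card K ∣ 2 ^ 6 * 9 := by
      rw [← hcard, show (2 ^ 6 * 9 : ℕ) = Nat.card H by rw [h.card_H]; norm_num]
      exact Subgroup.card_dvd_of_le hle
    exact Nat.Coprime.dvd_of_dvd_mul_left (Nat.Coprime.pow_right 6 (Nat.coprime_two_right.2 hK)) hd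
  · have hm : cj c⁻¹ g ∈ H := hle (mem_map_of_mem _ hg)
    have ho : Odd (orderOf (cj c⁻¹ g)) :=
      odd_order_of_mem (hcard.symm ▸ hK) (mem_map_of_mem (MulAut.conj c⁻¹).toMonoidHom hg)
    have h3 := h.odd_cube hm ho
    rwa [← cj_pow, cj_eq_one_iff] at h3

theorem Setup.four_fix_trivial (h : Setup H H₁ H₂ z t x₁ x₂) {g : G} (hg : Odd (orderOf g))
    (hz : cj z g = g) (ht : cj t g = g) : g = 1 := by
  have hm : g ∈ centralizer ({z, t} : Set G) := by
    refine mem_centralizer_iff.2 ?_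
    rintro w (rfl | rfl)
    · exact (cj_eq_self_iff.1 hz).eq
    · exact (cj_eq_self_iff.1 ht).eq
  have hd : orderOf g ∣ 2 ^ 3 := by
    rw [show (2 ^ 3 : ℕ) = Nat.card (centralizer ({z, t} : Set G)) by rw [h.small]; norm_num]
    exact Subgroup.orderOf_mk g hm ▸ orderOf_dvd_natCard _
  exact orderOf_eq_one_iff.1
    (Nat.eq_one_of_dvd_coprimes (Nat.coprime_two_right.2 hg |>.pow_right 3) dvd_rfl hd)

theorem Setup.fourAct (h : Setup H H₁ H₂ z t x₁ x₂) {O : Subgroup G} (hO : Odd (Nat.card O))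
    (hz : z ∈ normalizer (O : Set G)) (ht : t ∈ normalizer (O : Set G)) : FourAct O z t where
  odd := hO
  zz := h.zz
  tt := h.tt
  comm := h.zt
  hz := hz
  ht := ht
  fix := fun _g hg => h.four_fix_trivial (odd_order_of_mem hO hg)

theorem Setup.order_zt (h : Setup H H₁ H₂ z t x₁ x₂) : orderOf (z * t) = 2 := by
  refine order_invol ?_ fun e => h.outer_t ?_
  · calc z * t * (z * t) = z * (t * z) * t := by group
      _ = z * z * (t * t) := by rw [← h.zt.eq]; group
      _ = 1 := by rw [h.zz, h.tt, mul_one]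
  · rw [← inv_eq_of_mul_eq_one_right e]
    exact inv_mem (mem_sup_left h.z_mem_left)

/-- Everything about the side of `x₁`. -/
theorem Setup.exists_side (h : Setup H H₁ H₂ z t x₁ x₂) :
    ∃ (R : Subgroup G) (k : ℕ), k ≤ 2 ∧ Side z t x₁ H₂ R k ∧
      Nat.card (centralizer ({x₁, x₂, t} : Set G)) *
          Nat.card (centralizer ({x₁, x₂, z * t} : Set G)) = 4 * 3 ^ k ∧
      (2 ∣ Nat.card (centralizer ({x₁, x₂, t} : Set G)) ∧
        Nat.card (centralizer ({x₁, x₂, t} : Set G)) ∣ 18) ∧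
      (2 ∣ Nat.card (centralizer ({x₁, x₂, z * t} : Set G)) ∧
        Nat.card (centralizer ({x₁, x₂, z * t} : Set G)) ∣ 18) := by
  haveI : Fact (Nat.Prime 3) := ⟨Nat.prime_three⟩
  have hx₁P : x₁ ∈ P₀ x₁ x₂ := subset_closure (by simp)
  obtain ⟨R, hR⟩ := h.exists_localCore hx₁P h.x₁_ne
  have commR : ∀ g ∈ R, Commute g x₁ := fun g hg => mem_cent_iff.1 (hR.le hg)
  -- normalisers
  have nz : z ∈ normalizer (R : Set G) := hR.norm z (Or.inl (cj_eq_self_iff.2 h.z_comm_x₁))
  have nt : t ∈ normalizer (R : Set G) := hR.norm t (Or.inr h.inv₁)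
  have nH₂ : ∀ b ∈ H₂, b ∈ normalizer (R : Set G) := fun b hb =>
    hR.norm b (Or.inl (cj_eq_self_iff.2 (h.comm x₁ h.mem₁ b hb).symm))
  have hx₁R : x₁ ∈ R := by
    refine (hR.absorb (zpowers x₁) ?_ ?_ fun c _ hc => ?_) (mem_zpowers x₁)
    · exact zpowers_le.2 (mem_cent_iff.2 (Commute.refl x₁))
    · rw [Nat.card_zpowers, h.order₁]; exact ⟨1, rfl⟩
    · refine mem_normalizer_iff.2 fun w => ?_
      constructor
      · intro hw
        obtain ⟨i, rfl⟩ := mem_zpowers_iff.1 hw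
        rw [(hc.zpow_right i).eq, mul_inv_cancel_right]
        exact zpow_mem (mem_zpowers x₁) i
      · intro hw
        obtain ⟨i, hi⟩ := mem_zpowers_iff.1 hw
        have : w = x₁ ^ i := by
          calc w = c⁻¹ * (c * w * c⁻¹) * c := by group
            _ = c⁻¹ * (x₁ ^ i * c) := by rw [← hi, mul_assoc]
            _ = x₁ ^ i := by rw [← (hc.zpow_right i).eq, inv_mul_cancel_left]
        exact this ▸ zpow_mem (mem_zpowers x₁) i
  -- the fixed points of `z`
  have hfz : R ⊓ centralizer ({z} : Set G) = zpowers x₁ := by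
    refine le_antisymm (fun g hg => ?_) (zpowers_le.2 (mem_inf.2 ⟨hx₁R, ?_⟩))
    · obtain ⟨hgR, hgz⟩ := mem_inf.1 hg
      rw [h.cent_z] at hgz
      have hg3 := h.odd_cube hgz (odd_order_of_mem hR.odd hgR)
      obtain ⟨i, b, hb, rfl⟩ := h.cent₁ hgz (commR g hgR)
      have hbR : b ∈ R := by
        simpa using mul_mem (inv_mem (pow_mem hx₁R i)) hgR
      have hb3 : b ^ 3 = 1 := by
        rwa [(h.comm _ (pow_mem h.mem₁ i) b hb).mul_pow, h.pow_cube₁, one_mul] at hg3
      by_cases hb1 : b = 1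
      · rw [hb1, mul_one]; exact pow_mem (mem_zpowers x₁) i
      · exfalso
        obtain ⟨u, hu, h4, hne⟩ := h.symm.factor₁.comm hb hb3 hb1
        have hm : u * b * u⁻¹ * b⁻¹ ∈ R := mul_mem (cj_mem (nH₂ u hu) hbR) (inv_mem hbR)
        refine hne (orderOf_eq_one_iff.1 ?_)
        exact Nat.eq_one_of_dvd_coprimes
          ((Nat.coprime_two_right.2 (odd_order_of_mem hR.odd hm)).pow_right 2) dvd_rfl
          (orderOf_dvd_of_pow_eq_one h4)
    · exact mem_centralizer_singleton_iff.2 h.z_comm_x₁.symm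
  have fixX : ∀ {c : G}, c ∈ R → cj z c = c → c ∈ zpowers x₁ := fun {c} hc hzc =>
    hfz ▸ mem_inf_cent_iff.2 ⟨hc, hzc⟩
  have centX : ∀ {c g : G}, c ∈ zpowers x₁ → g ∈ R → Commute g c := by
    intro c g hc hg
    obtain ⟨i, rfl⟩ := mem_zpowers_iff.1 hc
    exact (commR g hg).zpow_right i
  have zX : ∀ {c : G}, c ∈ zpowers x₁ → cj z c = c := fun {c} hc =>
    (mem_inf_cent_iff.1 (hfz.symm ▸ hc)).2
  have four := h.fourAct hR.odd nz nt
  -- commutators
  have hcomm : ∀ a ∈ R, ∀ b ∈ R, a * b * a⁻¹ * b⁻¹ ∈ zpowers x₁ := by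
    intro a ha b hb
    obtain ⟨c, hc, i, hi, hzc, hzi, rfl⟩ := exists_split hR.odd h.zz nz ha
    obtain ⟨c', hc', i', hi', hzc', hzi', rfl⟩ := exists_split hR.odd h.zz nz hb
    obtain ⟨d, hd, j, hj, hzd, hzj, e⟩ := exists_split hR.odd h.zz nz (mul_mem hi hi')
    have cc := fixX hc hzc
    have cc' := fixX hc' hzc'
    have cd := fixX hd hzd
    have e1 : i⁻¹ * i'⁻¹ = d * j⁻¹ := by
      rw [← hzi, ← hzi', ← cj_prod, e, cj_prod, hzd, hzj]
    have e2 : i * i' * i⁻¹ * i'⁻¹ = d * d := by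
      rw [mul_assoc (i * i'), e1, e]
      calc d * j * (d * j⁻¹) = d * (j * d) * j⁻¹ := by group
        _ = d * d := by rw [(centX cd hj).eq]; group
    have e3 : c * i * (c' * i') * (c * i)⁻¹ * (c' * i')⁻¹ =
        c * c' * (i * i' * i⁻¹ * i'⁻¹) * c⁻¹ * c'⁻¹ := by
      calc c * i * (c' * i') * (c * i)⁻¹ * (c' * i')⁻¹
          = c * (i * c') * i' * i⁻¹ * c⁻¹ * i'⁻¹ * c'⁻¹ := by group
        _ = c * c' * (i * i' * i⁻¹) * c⁻¹ * i'⁻¹ * c'⁻¹ := by rw [(centX cc' hi).eq]; group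
        _ = c * c' * (i * i' * i⁻¹ * i'⁻¹) * c⁻¹ * c'⁻¹ := by
          rw [mul_assoc _ c⁻¹ i'⁻¹, ← (centX (inv_mem cc) (inv_mem hi')).eq]; group
    rw [e3, e2]
    exact mul_mem (mul_mem (mul_mem (mul_mem cc cc') (mul_mem cd cd)) (inv_mem cc)) (inv_mem cc')
  -- the two other fixed point groups
  obtain ⟨w, hw, hwt⟩ := h.exists_swap
  have hzt2 := h.order_zt
  have hswap : Nat.card (R ⊓ centralizer ({z * t} : Set G) : Subgroup G) =
      Nat.card (R ⊓ centralizer ({t} : Set G) : Subgroup G) := by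
    have e : (R ⊓ centralizer ({t} : Set G)).map (MulAut.conj w).toMonoidHom =
        R ⊓ centralizer ({z * t} : Set G) := by
      refine le_antisymm ?_ fun g hg => ?_
      · rintro _ ⟨g, hg, rfl⟩
        obtain ⟨hgR, hgt⟩ := mem_inf_cent_iff.1 hg
        refine mem_inf_cent_iff.2 ⟨cj_mem (nH₂ w hw) hgR, ?_⟩
        show cj (z * t) (cj w g) = cj w g
        rw [← hwt, cj_eq_self_iff]
        show cj w t * cj w g = cj w g * cj w t
        rw [← cj_prod, ← cj_prod, (cj_eq_self_iff.1 hgt).eq]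
      · obtain ⟨hgR, hgt⟩ := mem_inf_cent_iff.1 hg
        refine ⟨cj w⁻¹ g, mem_inf_cent_iff.2 ⟨cj_mem (inv_mem (nH₂ w hw)) hgR, ?_⟩, ?_⟩
        · rw [← hwt] at hgt
          have e' := congrArg (fun v => w⁻¹ * v * w) hgt
          simp only [cj] at e' ⊢
          simpa [mul_assoc, mul_inv_rev] using e'
        · show cj w (cj w⁻¹ g) = g
          rw [cj_comp, mul_inv_cancel]; simp [cj]
    rw [← e]
    exact card_map_of_injective (MulAut.conj w).injective
  have small : ∀ {s : G}, orderOf s = 2 → ∀ K : Subgroup G, K ≤ R →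
      Nat.card (K ⊓ centralizer ({s} : Set G) : Subgroup G) ∣ 9 ∧
        ∀ g ∈ K, cj s g = g → g ^ 3 = 1 := by
    intro s hs K hK
    have hodd : Odd (Nat.card (K ⊓ centralizer ({s} : Set G) : Subgroup G)) :=
      hR.odd.of_dvd_nat (Subgroup.card_dvd_of_le (inf_le_left.trans hK))
    obtain ⟨h1, h2⟩ := h.odd_cent_invol hs hodd fun g hg => (mem_inf_cent_iff.1 hg).2
    exact ⟨h1, fun g hg hsg => h2 g (mem_inf_cent_iff.2 ⟨hg, hsg⟩)⟩
  obtain ⟨k, hk2, hk⟩ := (Nat.dvd_prime_pow Nat.prime_three).1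
    (show _ ∣ 3 ^ 2 from (small h.order_t R le_rfl).1)
  have hcard : Nat.card R = 3 ^ (2 * k + 1) := by
    rw [four.card_eq, hfz, Nat.card_zpowers, h.order₁, hswap, hk]; ring
  have hside : Side z t x₁ H₂ R k :=
    { le := hR.le
      mem := hx₁R
      card := hcard
      normal := fun g hg => hR.norm g (Or.inl (cj_eq_self_iff.2 (mem_cent_iff.1 hg)))
      norm_t := nt
      cent := by
        refine le_antisymm (fun g hg => ?_) (sup_le hR.le fun b hb =>
          mem_cent_iff.2 (h.comm x₁ h.mem₁ b hb).symm)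
        obtain ⟨a, ha, c, hcH, hcx, rfl⟩ := hR.split g hg
        obtain ⟨i, b, hb, rfl⟩ := h.cent₁ hcH hcx
        exact mul_mem (mem_sup_left ha) (mul_mem (mem_sup_left (pow_mem hx₁R i)) (mem_sup_right hb))
      fix_z := hfz
      fix_t := hk
      fix_zt := hswap.trans hk
      comm := hcomm
      absorb := fun g hg hodd hzg => by
        obtain ⟨a, ha, c, hcH, hcx, rfl⟩ := hR.split g (mem_cent_iff.2 hg)
        obtain ⟨i, b, hb, rfl⟩ := h.cent₁ hcH hcx
        have e : a * (x₁ ^ i * b) = a * x₁ ^ i * b := by group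
        rw [e] at hodd hzg ⊢
        have hr : a * x₁ ^ i ∈ R := mul_mem ha (pow_mem hx₁R i)
        generalize a * x₁ ^ i = r at hr hodd hzg ⊢
        have hzb : cj z b = b := cj_eq_self_iff.2 (h.mem_H_iff.1 (h.le₂ hb)).symm
        rw [cj_prod, hzb] at hzg
        have e2 : cj z r = b⁻¹ * r⁻¹ * b * (b * b)⁻¹ := by
          calc cj z r = cj z r * b * b⁻¹ := by group
            _ = b⁻¹ * r⁻¹ * b * (b * b)⁻¹ := by rw [hzg]; group
        have hbb : b * b ∈ R := by
          have h1 : b⁻¹ * r⁻¹ * b ∈ R := by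
            simpa [cj] using cj_mem (inv_mem (nH₂ b hb)) (inv_mem hr)
          have h2 : (cj z r)⁻¹ * (b⁻¹ * r⁻¹ * b) ∈ R := mul_mem (inv_mem (cj_mem nz hr)) h1
          rw [e2] at h2
          simpa [mul_assoc] using h2
        have hbb1 : b * b = 1 := by
          have hm := fixX hbb (by rw [cj_prod, hzb])
          obtain ⟨l, hl⟩ := mem_zpowers_iff.1 hm
          refine h.eq_one_of_cube (hl ▸ zpow_mem h.mem₁ l) (mul_mem hb hb) ?_
          rw [← hl, ← zpow_natCast, ← zpow_mul, mul_comm, zpow_mul, zpow_natCast, h.x₁_cube,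
            one_zpow]
        refine mem_of_sq hodd ?_
        rw [show r * b * (r * b) = r * (b * r * b⁻¹) * (b * b) by group, hbb1, mul_one]
        exact mul_mem hr (cj_mem (nH₂ b hb) hr) }
  -- the part centralising `x₂`
  set U := R ⊓ centralizer ({x₂} : Set G) with hU
  have hUR : U ≤ R := inf_le_left
  have hXR : zpowers x₁ ≤ R := zpowers_le.2 hx₁R
  have hXU : zpowers x₁ ≤ U :=
    le_inf hXR (zpowers_le.2 (mem_centralizer_singleton_iff.2 h.x_comm))
  have nU : ∀ {g : G}, g ∈ normalizer (R : Set G) → (cj g x₂ = x₂ ∨ cj g x₂ = x₂⁻¹) →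
      g ∈ normalizer (U : Set G) := by
    intro g hg hg2
    have h2 := norm_cent hg2
    refine mem_normalizer_iff.2 fun a => ?_
    rw [hU, mem_inf, mem_inf]
    exact and_congr (mem_normalizer_iff.1 hg a) (mem_normalizer_iff.1 h2 a)
  have nUz : z ∈ normalizer (U : Set G) := nU nz (Or.inl (cj_eq_self_iff.2 h.symm.z_comm_x₁))
  have nUt : t ∈ normalizer (U : Set G) := nU nt (Or.inr h.inv₂)
  have hUodd : Odd (Nat.card U) := hR.odd.of_dvd_nat (Subgroup.card_dvd_of_le hUR)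
  have hUz : Nat.card (U ⊓ centralizer ({z} : Set G) : Subgroup G) = 3 := by
    have : U ⊓ centralizer ({z} : Set G) = zpowers x₁ :=
      le_antisymm ((inf_le_inf_right _ hUR).trans hfz.le) (le_inf hXU (hfz.ge.trans inf_le_right))
    rw [this, Nat.card_zpowers, h.order₁]
  -- upper bound
  have upper : Nat.card U * Nat.card U ≤ 3 * Nat.card R := by
    obtain ⟨q, hq, hq3⟩ := h.symm.factor₁.two_syl h.mem₂ h.symm.x₁_cube h.symm.x₁_ne
    set U' := U.map (MulAut.conj q).toMonoidHom with hU'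
    have hU'R : U' ≤ R := by
      rintro _ ⟨g, hg, rfl⟩
      exact cj_mem (nH₂ q hq) (hUR hg)
    have hcU' : Nat.card U' = Nat.card U := card_map_of_injective (MulAut.conj q).injective
    have hint : U ⊓ U' ≤ zpowers x₁ := by
      rintro g ⟨hg, hg'⟩
      obtain ⟨g', hg'', e⟩ := hg'
      have h1 : Commute g x₂ := mem_centralizer_singleton_iff.1 (mem_inf.1 hg).2
      have h2 : Commute g (q * x₂ * q⁻¹) := by
        have h3 : Commute g' x₂ := mem_centralizer_singleton_iff.1 (mem_inf.1 hg'').2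
        have := h3.map (MulAut.conj q).toMonoidHom
        rwa [e] at this
      have h3 : Commute g z := hq3 ▸ (h1.mul_right h2).pow_right 3
      exact fixX (hUR hg) (cj_eq_self_iff.2 h3.symm)
    have e1 : Nat.card (U ⊓ U' : Subgroup G) * U'.relIndex U = Nat.card U := by
      rw [← inf_relIndex_right U' U, inf_comm U' U]
      have := relIndex_mul_relIndex ⊥ (U ⊓ U') U bot_le inf_le_left
      rwa [relIndex_bot_left, relIndex_bot_left] at this
    have e2 : Nat.card U' * U'.relIndex R = Nat.card R := by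
      have := relIndex_mul_relIndex ⊥ U' R bot_le hU'R
      rwa [relIndex_bot_left, relIndex_bot_left] at this
    have h3 : Nat.card (U ⊓ U' : Subgroup G) ≤ 3 := by
      calc _ ≤ Nat.card (zpowers x₁) := card_le_of_le hint
        _ = 3 := by rw [Nat.card_zpowers, h.order₁]
    have hne : U'.relIndex R ≠ 0 := fun e0 => by
      rw [e0, mul_zero] at e2
      exact (Nat.card_pos (α := R)).ne e2
    have h4 : U'.relIndex U ≤ U'.relIndex R := relIndex_le_of_le_right hUR hne
    calc Nat.card U * Nat.card U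
        = Nat.card (U ⊓ U' : Subgroup G) * U'.relIndex U * Nat.card U' := by rw [e1, hcU']
      _ ≤ 3 * U'.relIndex R * Nat.card U' := Nat.mul_le_mul_right _ (Nat.mul_le_mul h3 h4)
      _ = 3 * Nat.card R := by rw [mul_assoc, mul_comm (U'.relIndex R), e2]
  -- lower bound
  have lower : 9 * Nat.card R ≤ Nat.card U ^ 3 := by
    set X := (zpowers x₁).subgroupOf R with hX
    haveI : X.Normal := ⟨fun n hn g => by
      have hn' : (n : G) ∈ zpowers x₁ := mem_subgroupOf.1 hn
      rw [hX, mem_subgroupOf]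
      show (g : G) * n * (g : G)⁻¹ ∈ _
      rwa [(centX hn' g.2).eq, mul_inv_cancel_right]⟩
    letI : CommGroup (R ⧸ X) :=
      { (inferInstance : Group (R ⧸ X)) with
        mul_comm := fun a b => by
          induction a using QuotientGroup.induction_on with
          | H a =>
            induction b using QuotientGroup.induction_on with
            | H b =>
              refine (QuotientGroup.eq_iff_div_mem.2 ?_ :
                ((a * b : R) : R ⧸ X) = ((b * a : R) : R ⧸ X))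
              rw [hX, mem_subgroupOf, div_eq_mul_inv]
              simpa [mul_assoc] using hcomm a a.2 b b.2 }
    let φ : R →* R := MonoidHom.mk' (fun g => ⟨cj x₂ g, cj_mem (nH₂ x₂ h.mem₂) g.2⟩)
      fun a b => Subtype.ext (cj_prod _ _ _)
    have hφX : X ≤ X.comap φ := fun g hg => by
      have hg' : (g : G) ∈ zpowers x₁ := mem_subgroupOf.1 hg
      rw [mem_comap, hX, mem_subgroupOf]
      show cj x₂ (g : G) ∈ _
      obtain ⟨i, hi⟩ := mem_zpowers_iff.1 hg'
      rw [← hi, cj_eq_self_iff.2 (h.x_comm.symm.zpow_right i)]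
      exact zpow_mem (mem_zpowers x₁) i
    let α : R ⧸ X →* R ⧸ X := QuotientGroup.map X X φ hφX
    have hα : ∀ a, α (α (α a)) = a := by
      intro a
      induction a using QuotientGroup.induction_on with
      | H a =>
        show ((φ (φ (φ a)) : R) : R ⧸ X) = _
        congr 1
        refine Subtype.ext ?_
        show cj x₂ (cj x₂ (cj x₂ (a : G))) = a
        rw [cj_comp, cj_comp, ← pow_two, ← pow_succ, h.symm.x₁_cube]
        simp [cj]
    have h3 : ∀ a : R ⧸ X, a ^ 3 = 1 := by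
      intro a
      induction a using QuotientGroup.induction_on with
      | H g =>
        obtain ⟨c, hc, a, ha, b, hb, hzc, hta, hub, e⟩ := four.exists_decomp g.2
        have e' : g = (⟨c, hc⟩ : R) * (⟨a, ha⟩ * ⟨b, hb⟩ * ⟨a, ha⟩) := Subtype.ext e
        have hc1 : ((⟨c, hc⟩ : R) : R ⧸ X) = 1 :=
          (QuotientGroup.eq_one_iff _).2 (mem_subgroupOf.2 (fixX hc hzc))
        have ha3 : ((⟨a, ha⟩ : R) : R ⧸ X) ^ 3 = 1 := by
          rw [← QuotientGroup.mk_pow, show (⟨a, ha⟩ : R) ^ 3 = 1 from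
            Subtype.ext ((small h.order_t R le_rfl).2 a ha hta), QuotientGroup.mk_one]
        have hb3 : ((⟨b, hb⟩ : R) : R ⧸ X) ^ 3 = 1 := by
          rw [← QuotientGroup.mk_pow, show (⟨b, hb⟩ : R) ^ 3 = 1 from
            Subtype.ext ((small hzt2 R le_rfl).2 b hb hub), QuotientGroup.mk_one]
        rw [e', QuotientGroup.mk_mul, QuotientGroup.mk_mul, QuotientGroup.mk_mul, hc1, one_mul,
          mul_pow, mul_pow, ha3, hb3, mul_one, mul_one]
    set F := (U.subgroupOf R).map (QuotientGroup.mk' X) with hF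
    have hfix : ∀ a, α a = a → a ∈ F := by
      intro a
      induction a using QuotientGroup.induction_on with
      | H g =>
        intro e
        have e' : ((φ g : R) : R ⧸ X) = (g : R ⧸ X) := e
        obtain ⟨c, hc, i, hi, hzc, hzi, hg⟩ := exists_split hR.odd h.zz nz g.2
        have hmem : ((g : G))⁻¹ * cj x₂ (g : G) ∈ zpowers x₁ :=
          mem_subgroupOf.1 (QuotientGroup.eq.1 e'.symm)
        have hc2 : cj x₂ c = c := by
          obtain ⟨l, rfl⟩ := mem_zpowers_iff.1 (fixX hc hzc)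
          exact cj_eq_self_iff.2 (h.x_comm.symm.zpow_right l)
        rw [hg, cj_prod, hc2] at hmem
        have hd : i⁻¹ * cj x₂ i ∈ zpowers x₁ := by simpa [mul_assoc] using hmem
        have hzd := zX hd
        rw [cj_prod, cj_inv, hzi, inv_inv, cj_comp, (h.symm.z_comm_x₁).eq, ← cj_comp, hzi, cj_inv] at hzd
        have hxi : cj x₂ i = i := by
          have hxR : cj x₂ i ∈ R := cj_mem (nH₂ x₂ h.mem₂) hi
          have h1 : cj x₂ i = i * (i⁻¹ * cj x₂ i) := (mul_inv_cancel_left _ _).symm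
          have h2 : (cj x₂ i)⁻¹ = i⁻¹ * (i⁻¹ * cj x₂ i) := by
            calc (cj x₂ i)⁻¹ = i⁻¹ * (i * (cj x₂ i)⁻¹) := by group
              _ = _ := by rw [hzd]
          have h3 : (i⁻¹ * cj x₂ i) * (i⁻¹ * cj x₂ i) = 1 := by
            calc (i⁻¹ * cj x₂ i) * (i⁻¹ * cj x₂ i)
                = (i⁻¹ * cj x₂ i) * i * (i⁻¹ * (i⁻¹ * cj x₂ i)) := by group
              _ = i * (i⁻¹ * cj x₂ i) * (i⁻¹ * (i⁻¹ * cj x₂ i)) := by
                rw [(centX hd hi).eq]
              _ = 1 := by rw [← h1, ← h2, mul_inv_cancel]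
          rw [h1, sq_inj hR.odd (mul_mem (inv_mem hi) hxR) (one_mem R) (by rw [h3, one_mul]),
            mul_one]
        refine ⟨g, mem_subgroupOf.2 (mem_inf.2 ⟨g.2, ?_⟩), rfl⟩
        rw [mem_centralizer_singleton_iff, hg]
        exact ((cj_eq_self_iff.1 hc2).mul_right (cj_eq_self_iff.1 hxi)).symm
    have hA := card_le_fix_cube α hα h3 F hfix
    have hXc : Nat.card X = 3 := by
      rw [hX, Nat.card_congr (subgroupOfEquivOfLe hXR).toEquiv, Nat.card_zpowers, h.order₁]
    have hFc : Nat.card U = 3 * Nat.card F := by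
      rw [← Nat.card_congr (subgroupOfEquivOfLe hUR).toEquiv, ← hXc, ← Base.card_comap_mk', hF,
        comap_map_eq_self]
      rw [QuotientGroup.ker_mk']
      exact fun g hg => mem_subgroupOf.2 (hXU (mem_subgroupOf.1 hg))
    rw [Subgroup.card_eq_card_quotient_mul_card_subgroup X, hXc, hFc]
    calc 9 * (Nat.card (R ⧸ X) * 3) = 27 * Nat.card (R ⧸ X) := by ring
      _ ≤ 27 * Nat.card F ^ 3 := Nat.mul_le_mul_left _ hA
      _ = (3 * Nat.card F) ^ 3 := by ring
  obtain ⟨n, hn, hnU⟩ := (Nat.dvd_prime_pow Nat.prime_three).1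
    (hcard ▸ Subgroup.card_dvd_of_le hUR)
  have hnk : n = k + 1 := by
    rw [hnU, hcard] at upper lower
    rw [← pow_add, show 3 * 3 ^ (2 * k + 1) = 3 ^ (2 * k + 2) by ring] at upper
    rw [← pow_mul, show 9 * 3 ^ (2 * k + 1) = 3 ^ (2 * k + 3) by ring] at lower
    have := pow_three_inj upper
    have := pow_three_inj lower
    omega
  have hprodU : Nat.card (U ⊓ centralizer ({t} : Set G) : Subgroup G) *
      Nat.card (U ⊓ centralizer ({z * t} : Set G) : Subgroup G) = 3 ^ k := by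
    have := (h.fourAct hUodd nUz nUt).card_eq
    rw [hnU, hnk, hUz, pow_succ', mul_assoc] at this
    exact (Nat.eq_of_mul_eq_mul_left (by norm_num) this).symm
  -- the centralisers of `x₁, x₂` and an involution
  have count : ∀ {s : G}, orderOf s = 2 → cj s z = z → cj s x₂ = x₂⁻¹ →
      s ∈ normalizer (R : Set G) →
      Nat.card (centralizer ({x₁, x₂, s} : Set G)) =
        2 * Nat.card (U ⊓ centralizer ({s} : Set G) : Subgroup G) := by
    intro s _ hsz hsx hsR
    have key : ∀ g : G, g ∈ centralizer ({x₁, x₂, s} : Set G) ↔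
        Commute g x₁ ∧ Commute g x₂ ∧ Commute g s := by
      intro g
      rw [mem_centralizer_iff]
      constructor
      · intro hg
        exact ⟨(hg x₁ (by simp)).symm, (hg x₂ (by simp)).symm, (hg s (by simp)).symm⟩
      · rintro ⟨e1, e2, e3⟩ v (rfl | rfl | rfl)
        · exact e1.eq.symm
        · exact e2.eq.symm
        · exact e3.eq.symm
    have hzR : z ∉ R := fun hz' => by
      obtain ⟨m, hm⟩ := odd_order_of_mem hR.odd hz'
      rw [h.order_z] at hm; omega
    rw [show 2 = Nat.card (Fin 2) by simp, ← Nat.card_prod]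
    refine (Nat.card_eq_of_bijective
      (fun p : Fin 2 × (U ⊓ centralizer ({s} : Set G) : Subgroup G) =>
        (⟨(p.2 : G) * z ^ (p.1 : ℕ), (key _).2 ⟨?_, ?_, ?_⟩⟩ :
          centralizer ({x₁, x₂, s} : Set G))) ⟨?_, ?_⟩).symm
    · exact (commR _ (hUR (mem_inf.1 p.2.2).1)).mul_left (h.z_comm_x₁.pow_left _)
    · exact Commute.mul_left (mem_centralizer_singleton_iff.1 (mem_inf.1 (mem_inf.1 p.2.2).1).2)
        (h.symm.z_comm_x₁.pow_left _)
    · exact Commute.mul_left (mem_centralizer_singleton_iff.1 (mem_inf.1 p.2.2).2)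
        ((cj_eq_self_iff.1 hsz).symm.pow_left _)
    · rintro ⟨l, r, hr⟩ ⟨l', r', hr'⟩ e
      have e' : r * z ^ (l : ℕ) = r' * z ^ (l' : ℕ) := congrArg Subtype.val e
      have hll : l = l' := by
        by_contra hne
        refine hzR ?_
        rcases (show ((l : ℕ) = 0 ∧ (l' : ℕ) = 1) ∨ ((l : ℕ) = 1 ∧ (l' : ℕ) = 0) by omega) with
            ⟨a0, a1⟩ | ⟨a0, a1⟩ <;> rw [a0, a1, pow_zero, pow_one, mul_one] at e'
        · rw [show z = r'⁻¹ * r by rw [e', inv_mul_cancel_left]]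
          exact mul_mem (inv_mem (hUR (mem_inf.1 hr').1)) (hUR (mem_inf.1 hr).1)
        · rw [show z = r⁻¹ * r' by rw [← e', inv_mul_cancel_left]]
          exact mul_mem (inv_mem (hUR (mem_inf.1 hr).1)) (hUR (mem_inf.1 hr').1)
      subst hll
      exact Prod.ext rfl (Subtype.ext (mul_right_cancel e'))
    · rintro ⟨g, hg⟩
      obtain ⟨g1, g2, g3⟩ := (key g).1 hg
      have hgC : g ∈ R ⊔ H₂ := hside.cent ▸ mem_cent_iff.2 g1
      have hco : ((R ⊔ H₂ : Subgroup G) : Set G) = (R : Set G) * (H₂ : Set G) :=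
        coe_mul_of_right_le_normalizer_left _ _ fun b hb => nH₂ b hb
      obtain ⟨r, hr, b, hb, rfl⟩ := Set.mem_mul.1 (hco ▸ SetLike.mem_coe.2 hgC)
      have inter : ∀ {v : G}, v ∈ R → v ∈ H₂ → v = 1 := fun {v} hv hv2 => by
        obtain ⟨l, rfl⟩ := mem_zpowers_iff.1 (fixX hv (cj_eq_self_iff.2
          (h.mem_H_iff.1 (h.le₂ hv2)).symm))
        refine h.eq_one_of_cube (zpow_mem h.mem₁ l) hv2 ?_
        rw [← zpow_natCast, ← zpow_mul, mul_comm, zpow_mul, zpow_natCast, h.x₁_cube, one_zpow]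
      have e2 : cj x₂ r * cj x₂ b = r * b := by rw [← cj_prod, cj_eq_self_iff]; exact g2.symm
      have e3 : r⁻¹ * cj x₂ r = b * (cj x₂ b)⁻¹ := by
        calc r⁻¹ * cj x₂ r = r⁻¹ * (cj x₂ r * cj x₂ b) * (cj x₂ b)⁻¹ := by group
          _ = b * (cj x₂ b)⁻¹ := by rw [e2]; group
      have hm1 : r⁻¹ * cj x₂ r ∈ R := mul_mem (inv_mem hr) (cj_mem (nH₂ x₂ h.mem₂) hr)
      have hm2 : b * (cj x₂ b)⁻¹ ∈ H₂ :=
        mul_mem hb (inv_mem (mul_mem (mul_mem h.mem₂ hb) (inv_mem h.mem₂)))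
      have e4 := inter hm1 (e3 ▸ hm2)
      have hr2 : cj x₂ r = r := (inv_mul_eq_one.1 e4).symm
      have hb2 : Commute b x₂ := by
        rw [e4] at e3
        exact (cj_eq_self_iff.1 (mul_inv_eq_one.1 e3.symm).symm).symm
      obtain ⟨j, l, rfl⟩ := h.symm.factor₁.cent h.mem₂ hb h.symm.x₁_cube h.symm.x₁_ne hb2
      have e5 : cj s r * x₂⁻¹ ^ j = r * x₂ ^ j := by
        have e6 : cj s (r * (x₂ ^ j * z ^ l)) = r * (x₂ ^ j * z ^ l) := cj_eq_self_iff.2 g3.symm
        rw [cj_prod, cj_prod, cj_pow, cj_pow, hsx, hsz, ← mul_assoc, ← mul_assoc] at e6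
        exact mul_right_cancel e6
      have e7 : r⁻¹ * cj s r = x₂ ^ (2 * j) := by
        calc r⁻¹ * cj s r = r⁻¹ * (cj s r * x₂⁻¹ ^ j) * x₂ ^ j := by
              rw [inv_pow, ← mul_assoc, inv_mul_cancel_right]
          _ = x₂ ^ (2 * j) := by rw [e5, two_mul, pow_add]; group
      have e8 := inter (mul_mem (inv_mem hr) (cj_mem hsR hr)) (e7 ▸ pow_mem h.mem₂ _)
      have hxj : x₂ ^ j = 1 := by
        rw [e8] at e7
        calc x₂ ^ j = x₂ ^ j * x₂ ^ (2 * j) := by rw [← e7, mul_one]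
          _ = (x₂ ^ 3) ^ j := by rw [← pow_add, ← pow_mul, show j + 2 * j = 3 * j by ring]
          _ = 1 := by rw [h.symm.x₁_cube, one_pow]
      refine ⟨(⟨l % 2, Nat.mod_lt _ two_pos⟩, ⟨r, mem_inf_cent_iff.2
        ⟨mem_inf_cent_iff.2 ⟨hr, hr2⟩, (inv_mul_eq_one.1 e8).symm⟩⟩), Subtype.ext ?_⟩
      show r * z ^ (l % 2) = r * (x₂ ^ j * z ^ l)
      rw [hxj, one_mul, pow_eq_pow_mod l (show z ^ 2 = 1 by rw [pow_two, h.zz])]
  have hztz : cj (z * t) z = z := by
    rw [cj_eq_self_iff]; exact (Commute.refl z).mul_left h.zt.symm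
  have hztx : cj (z * t) x₂ = x₂⁻¹ := by
    rw [← cj_comp, h.inv₂, cj_inv, cj_eq_self_iff.2 h.symm.z_comm_x₁]
  have c1 := count h.order_t (cj_eq_self_iff.2 h.zt.symm) h.inv₂ nt
  have c2 := count hzt2 hztz hztx (mul_mem nz nt)
  refine ⟨R, k, hk2, hside, ?_, ⟨⟨_, c1⟩, ?_⟩, ⟨⟨_, c2⟩, ?_⟩⟩
  · rw [c1, c2, ← hprodU]; ring
  · rw [c1]; exact mul_dvd_mul_left 2 (small h.order_t U hUR).1
  · rw [c2]; exact mul_dvd_mul_left 2 (small hzt2 U hUR).1

end CfsgLib.G2TwoLocal
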