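import Mathlib
import Cfsg.Agent.Lib.G2Three.Defs
import Cfsg.Prelude.Def_LieTypeDatum

/-!
# `G₂(3)` from the centraliser of an involution and `2³·L₃(2)` (statement S2917): interface

`H = C(z) = (H₁ ∘ H₂).2`; `t` is an outer involution inverting `x₁ ∈ H₁` and `x₂ ∈ H₂` of order
three.  The plan is in `tools/S2917_plan.md`.
-/

set_option autoImplicit false
set_option linter.style.haveILetI false

namespace CfsgLib.G2TwoLocal

open Cfsg Subgroup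
open CfsgLib.G2Three (cj)

universe u

/-- The hypotheses of S2917. -/
structure Hyp {G : Type u} [Group G] [Finite G] (H H₁ H₂ M : Subgroup G) : Prop where
  le₁ : H₁ ≤ H
  le₂ : H₂ ≤ H
  normal₁ : (H₁.subgroupOf H).Normal
  normal₂ : (H₂.subgroupOf H).Normal
  iso₁ : Nonempty (↥H₁ ≃* Matrix.SpecialLinearGroup (Fin 2) (ZMod 3))
  iso₂ : Nonempty (↥H₂ ≃* Matrix.SpecialLinearGroup (Fin 2) (ZMod 3))
  index : (H₁ ⊔ H₂).relIndex H = 2
  inter₁ : H₁ ⊓ H₂ = H₁ ⊓ centralizer (H₁ : Set G)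
  inter₂ : H₁ ⊓ H₂ = H₂ ⊓ centralizer (H₂ : Set G)
  cent : H = centralizer ((H₁ ⊓ H₂ : Subgroup G) : Set G)
  normalM : (pCore 2 ↥M).Normal
  quotM : Nonempty ((↥M ⧸ pCore 2 ↥M) ≃* Matrix.SpecialLinearGroup (Fin 3) (ZMod 2))
  elemM : IsElementaryAbelian 2 (pCore 2 ↥M)
  cardM : Nat.card ↥(pCore 2 ↥M) = 8
  zM : H₁ ⊓ H₂ ≤ (pCore 2 ↥M).map M.subtype

/-- The structure of the centraliser of `z`, with the global facts coming from `M`. -/
structure Setup {G : Type u} [Group G] [Finite G] (H H₁ H₂ : Subgroup G) (z t x₁ x₂ : G) :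
    Prop where
  cent_z : centralizer ({z} : Set G) = H
  order_z : orderOf z = 2
  card_H : Nat.card H = 576
  le₁ : H₁ ≤ H
  le₂ : H₂ ≤ H
  norm₁ : H ≤ normalizer (H₁ : Set G)
  norm₂ : H ≤ normalizer (H₂ : Set G)
  iso₁ : Nonempty (↥H₁ ≃* Matrix.SpecialLinearGroup (Fin 2) (ZMod 3))
  iso₂ : Nonempty (↥H₂ ≃* Matrix.SpecialLinearGroup (Fin 2) (ZMod 3))
  inter : H₁ ⊓ H₂ = zpowers z
  comm : ∀ a ∈ H₁, ∀ b ∈ H₂, Commute a b
  index : (H₁ ⊔ H₂).relIndex H = 2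
  mem₁ : x₁ ∈ H₁
  mem₂ : x₂ ∈ H₂
  order₁ : orderOf x₁ = 3
  order₂ : orderOf x₂ = 3
  mem_t : t ∈ H
  order_t : orderOf t = 2
  outer_t : t ∉ H₁ ⊔ H₂
  inv₁ : cj t x₁ = x₁⁻¹
  inv₂ : cj t x₂ = x₂⁻¹
  small : Nat.card (centralizer ({z, t} : Set G)) = 8
  outer_of_small : ∀ i ∈ H, orderOf i = 2 → Nat.card (centralizer ({z, i} : Set G)) = 8 →
    i ∉ H₁ ⊔ H₂
  outer_conj : ∀ i ∈ H, orderOf i = 2 → i ∉ H₁ ⊔ H₂ → ∃ h ∈ H, cj h t = i
  invol : ∀ i : G, orderOf i = 2 → IsConj z i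
  two_part : ¬ 2 ^ 7 ∣ Nat.card G
  seven : 7 ∣ Nat.card G

/-- The Sylow three-subgroup of `H` attached to a setup. -/
def P₀ {G : Type u} [Group G] (x₁ x₂ : G) : Subgroup G := closure {x₁, x₂}

/-- The structure of the centraliser of `x`, an element of order three in one of the factors;
`L` is the other factor. -/
structure Side {G : Type u} [Group G] [Finite G] (z t x : G) (L R : Subgroup G) (k : ℕ) : Prop where
  le : R ≤ centralizer ({x} : Set G)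
  mem : x ∈ R
  card : Nat.card R = 3 ^ (2 * k + 1)
  normal : centralizer ({x} : Set G) ≤ normalizer (R : Set G)
  norm_t : t ∈ normalizer (R : Set G)
  cent : centralizer ({x} : Set G) = R ⊔ L
  fix_z : R ⊓ centralizer ({z} : Set G) = zpowers x
  fix_t : Nat.card (R ⊓ centralizer ({t} : Set G) : Subgroup G) = 3 ^ k
  fix_zt : Nat.card (R ⊓ centralizer ({z * t} : Set G) : Subgroup G) = 3 ^ k
  comm : ∀ a ∈ R, ∀ b ∈ R, a * b * a⁻¹ * b⁻¹ ∈ zpowers x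
  absorb : ∀ g : G, Commute g x → Odd (orderOf g) → cj z g = g⁻¹ → g ∈ R

/-- What the signalizer argument gives. -/
structure Core {G : Type u} [Group G] [Finite G] (H H₁ H₂ : Subgroup G) (z t x₁ x₂ : G)
    (R₁ R₂ : Subgroup G) (k : ℕ) : Prop where
  k_le : k ≤ 2
  side₁ : Side z t x₁ H₂ R₁ k
  side₂ : Side z t x₂ H₁ R₂ k
  diag : ∀ y ∈ P₀ x₁ x₂, y ∉ zpowers x₁ → y ∉ zpowers x₂ → ∃ O : Subgroup G,
    IsPGroup 3 O ∧ Nat.card O ∣ 3 ^ 6 ∧ centralizer ({y} : Set G) ≤ normalizer (O : Set G) ∧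
      centralizer ({y} : Set G) = O ⊔ zpowers z ∧
      O ⊓ centralizer ({z} : Set G) = P₀ x₁ x₂
  fusion : ∀ x ∈ P₀ x₁ x₂, ∀ y ∈ P₀ x₁ x₂, IsConj x y → y = x ∨ y = x⁻¹
  prod : Nat.card (centralizer ({x₁, x₂, t} : Set G)) *
    Nat.card (centralizer ({x₁, x₂, z * t} : Set G)) = 4 * 3 ^ k
  dvd_t : 2 ∣ Nat.card (centralizer ({x₁, x₂, t} : Set G)) ∧
    Nat.card (centralizer ({x₁, x₂, t} : Set G)) ∣ 18
  dvd_zt : 2 ∣ Nat.card (centralizer ({x₁, x₂, z * t} : Set G)) ∧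
    Nat.card (centralizer ({x₁, x₂, z * t} : Set G)) ∣ 18
  zero : k = 0 → (∀ x ∈ P₀ x₁ x₂, x ≠ 1 → centralizer ({x} : Set G) ≤ H) ∧
    ¬ 3 ^ 3 ∣ Nat.card G

/-! ## The pieces -/

/-- Piece A: the setup. -/
def StmtSetup : Prop := ∀ (G : Type u) [Group G] [Finite G] (H H₁ H₂ M : Subgroup G),
  Hyp H H₁ H₂ M → ∃ z t x₁ x₂ : G, Setup H H₁ H₂ z t x₁ x₂

/-- Piece A': the group is transitive on triples made of a small pair of involutions and a Sylow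
three-subgroup inverted by the second and centralised by the first. -/
def StmtMove : Prop := ∀ (G : Type u) [Group G] [Finite G] (H H₁ H₂ : Subgroup G) (z t x₁ x₂ : G),
  Setup H H₁ H₂ z t x₁ x₂ → ∀ (a b : G) (P : Subgroup G), orderOf a = 2 → orderOf b = 2 →
    Commute a b → Nat.card (centralizer ({a, b} : Set G)) = 8 → Nat.card P = 9 →
    P ≤ centralizer ({a} : Set G) → (∀ p ∈ P, cj b p = p⁻¹) →
    ∃ g : G, cj g z = a ∧ (cj g t = b ∨ cj g t = a * b) ∧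
      (P₀ x₁ x₂).map (MulAut.conj g).toMonoidHom = P

/-- Piece B: signalizers and classes. -/
def StmtCore : Prop := ∀ (G : Type u) [Group G] [Finite G] (H H₁ H₂ : Subgroup G) (z t x₁ x₂ : G),
  Setup H H₁ H₂ z t x₁ x₂ → ∃ R₁ R₂ k, Core H H₁ H₂ z t x₁ x₂ R₁ R₂ k

/-- Piece C: the elements of order three are not all local to `H` (characters). -/
def StmtNotZero : Prop := ∀ (G : Type u) [Group G] [Finite G] (H H₁ H₂ : Subgroup G)
  (z t x₁ x₂ : G), Setup H H₁ H₂ z t x₁ x₂ →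
    (∀ x ∈ P₀ x₁ x₂, x ≠ 1 → centralizer ({x} : Set G) ≤ H) →
    (∀ x ∈ P₀ x₁ x₂, ∀ y ∈ P₀ x₁ x₂, IsConj x y → y = x ∨ y = x⁻¹) →
    ¬ 3 ^ 3 ∣ Nat.card G → False

/-- Piece D: the centre of the centraliser is not one dimensional. -/
def StmtNotOne : Prop := StmtCore.{u} → StmtMove.{u} →
  ∀ (G : Type u) [Group G] [Finite G] (H H₁ H₂ : Subgroup G) (z t x₁ x₂ : G),
  Setup H H₁ H₂ z t x₁ x₂ →
    Nat.card (centralizer ({x₁, x₂, t} : Set G)) = 6 →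
    Nat.card (centralizer ({x₁, x₂, z * t} : Set G)) = 2 → False

/-- Piece E: the two dimensions are not at one involution. -/
def StmtNotSame : Prop := StmtCore.{u} → StmtMove.{u} →
  ∀ (G : Type u) [Group G] [Finite G] (H H₁ H₂ : Subgroup G) (z t x₁ x₂ : G),
  Setup H H₁ H₂ z t x₁ x₂ →
    Nat.card (centralizer ({x₁, x₂, t} : Set G)) = 18 →
    Nat.card (centralizer ({x₁, x₂, z * t} : Set G)) = 2 → False

/-- Piece F: the amalgam. -/
def StmtMixed : Prop := StmtCore.{u} → StmtMove.{u} →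
  ∀ (G : Type u) [Group G] [Finite G] (H H₁ H₂ : Subgroup G) (z t x₁ x₂ : G),
  Setup H H₁ H₂ z t x₁ x₂ →
    Nat.card (centralizer ({x₁, x₂, t} : Set G)) = 6 →
    Nat.card (centralizer ({x₁, x₂, z * t} : Set G)) = 6 →
    ∃ A₁ A₂ : Subgroup G, G2Three.Hyp A₁ A₂

/-- Piece G: the two models. -/
def StmtBridge : Prop := ∀ (F : Type) [Field F] [Fintype F], Fintype.card F = 3 →
  Nonempty (↥(Lie.chevG2.group F) ≃* ↥(Lie.G2 F))

end CfsgLib.G2TwoLocal
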