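import Cfsg.Agent.Lib.G2TwoLocal.NotSame

/-!
# `G₂(3)` from 2-local data: Sylow subgroups at a small pair through a given element
-/

set_option autoImplicit false
set_option linter.style.haveILetI false
set_option linter.unusedSectionVars false

namespace CfsgLib.G2TwoLocal

open Cfsg Subgroup
open CfsgLib.G2Three (cj)
open scoped Pointwise

universe u

variable {G : Type u} [Group G] [Finite G] {H H₁ H₂ : Subgroup G} {z t x₁ x₂ : G}

namespace Setup

variable (S : Setup H H₁ H₂ z t x₁ x₂)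
include S

theorem order_three {a : G} (h : a ^ 3 = 1) (h1 : a ≠ 1) : orderOf a = 3 :=
  haveI : Fact (Nat.Prime 3) := ⟨Nat.prime_three⟩
  orderOf_eq_prime h h1

/-- Other generators of inverted subgroups of order three. -/
theorem replace {a b : G} (ha : a ∈ H₁) (hb : b ∈ H₂) (oa : orderOf a = 3) (ob : orderOf b = 3)
    (ia : cj t a = a⁻¹) (ib : cj t b = b⁻¹) : Setup H H₁ H₂ z t a b :=
  ⟨S.cent_z, S.order_z, S.card_H, S.le₁, S.le₂, S.norm₁, S.norm₂, S.iso₁, S.iso₂, S.inter, S.comm,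
    S.index, ha, hb, oa, ob, S.mem_t, S.order_t, S.outer_t, ia, ib, S.small, S.outer_of_small,
    S.outer_conj, S.invol, S.two_part, S.seven⟩

/-- An element of order dividing three of `H` inverted by `t` lies in an inverted Sylow subgroup. -/
theorem exists_setup_mem {v : G} (hv : v ^ 3 = 1) (hvH : v ∈ H) (hvt : cj t v = v⁻¹) :
    ∃ y₁ y₂ : G, Setup H H₁ H₂ z t y₁ y₂ ∧ v ∈ P₀ y₁ y₂ := by
  set K := H₁ ⊔ H₂ with hK
  have hKH : K ≤ H := sup_le S.le₁ S.le₂
  haveI : (K.subgroupOf H).Normal := normal_of_index_eq_two S.index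
  have hsq : (⟨v, hvH⟩ : H) * ⟨v, hvH⟩ ∈ K.subgroupOf H := mul_self_mem_of_index_two S.index _
  have hvK : v ∈ K := by
    have h2 : v * v ∈ K := hsq
    have h4 : v * v * (v * v) ∈ K := mul_mem h2 h2
    rwa [show v * v * (v * v) = v ^ 3 * v by simp only [pow_succ, pow_zero, one_mul, mul_assoc], hv,
      one_mul] at h4
  have hnorm : H₂ ≤ normalizer (H₁ : Set G) := S.le₂.trans S.norm₁
  obtain ⟨a₀, ha₀, b₀, hb₀, hab⟩ := Set.mem_mul.1
    (show v ∈ (H₁ : Set G) * (H₂ : Set G) by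
      rw [← coe_mul_of_right_le_normalizer_left H₁ H₂ hnorm]; exact hvK)
  have hc₀ : Commute a₀ b₀ := S.comm _ ha₀ _ hb₀
  have hprod : a₀ ^ 3 * b₀ ^ 3 = 1 := by rw [← hc₀.mul_pow, hab, hv]
  have hzp : ∀ w ∈ zpowers z, w ^ 4 = 1 := by
    intro w hw
    have hd := orderOf_dvd_natCard (⟨w, hw⟩ : zpowers z)
    rw [Nat.card_zpowers, S.order_z, orderOf_mk] at hd
    exact orderOf_dvd_iff_pow_eq_one.1 (hd.trans (by norm_num))
  have ha3 : a₀ ^ 3 ∈ zpowers z := S.inter ▸ Subgroup.mem_inf.2 ⟨pow_mem ha₀ 3, by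
    rw [eq_inv_of_mul_eq_one_left hprod]; exact inv_mem (pow_mem hb₀ 3)⟩
  have hb3 : b₀ ^ 3 ∈ zpowers z := by
    rw [eq_inv_of_mul_eq_one_right hprod]; exact inv_mem ha3
  set a := a₀ ^ 4 with ha_def
  set b := b₀ ^ 4 with hb_def
  have ha : a ∈ H₁ := pow_mem ha₀ 4
  have hb : b ∈ H₂ := pow_mem hb₀ 4
  have hae : a ^ 3 = 1 := by rw [ha_def, ← pow_mul, pow_mul']; exact hzp _ ha3
  have hbe : b ^ 3 = 1 := by rw [hb_def, ← pow_mul, pow_mul']; exact hzp _ hb3
  have hcab : Commute a b := S.comm _ ha _ hb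
  have hv' : a * b = v := by
    rw [ha_def, hb_def, ← hc₀.mul_pow, hab, show 4 = 3 + 1 from rfl, pow_succ, hv, one_mul]
  -- both factors are inverted
  have hta : cj t a ∈ H₁ := (mem_normalizer_iff.1 (S.norm₁ S.mem_t) a).1 ha
  have htb : cj t b ∈ H₂ := (mem_normalizer_iff.1 (S.norm₂ S.mem_t) b).1 hb
  have hmeet : cj t a * a = (cj t b * b)⁻¹ := by
    apply eq_inv_of_mul_eq_one_left
    rw [(S.comm a ha _ htb).mul_mul_mul_comm, ← cj_hom, hv', hvt, inv_mul_cancel]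
  have hm₁ : cj t a * a ∈ H₁ := mul_mem hta ha
  have hinva : cj t a = a⁻¹ ∧ cj t b = b⁻¹ := by
    have hmz : cj t a * a ∈ zpowers z := S.inter ▸ Subgroup.mem_inf.2 ⟨hm₁, by
      rw [hmeet]; exact inv_mem (mul_mem htb hb)⟩
    obtain ⟨n, hn⟩ := mem_zpowers_iff.1 hmz
    have hzn : Commute (z ^ n) a := (S.comm_z (S.le₁ ha) |> fun h => (show Commute a z from h)).symm.zpow_left n
    have hta' : cj t a = z ^ n * a⁻¹ := by rw [hn, mul_inv_cancel_right]
    have hz1 : z ^ n = 1 := by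
      have h3 : (z ^ n) ^ 3 = 1 := by
        have h := congrArg (· ^ 3) hta'
        simp only [cj_eq, ← map_pow, hae, map_one, hzn.inv_right.mul_pow, inv_pow, inv_one, mul_one] at h
        exact h.symm
      have h4 := hzp _ (zpow_mem (mem_zpowers z) n)
      rwa [show (4 : ℕ) = 3 + 1 from rfl, pow_succ, h3, one_mul] at h4
    have hA : cj t a * a = 1 := by rw [← hn, hz1]
    exact ⟨eq_inv_of_mul_eq_one_left hA,
      eq_inv_of_mul_eq_one_left (inv_eq_one.1 (hmeet.symm.trans hA))⟩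
  -- non trivial generators
  have pick : ∀ (L : Subgroup G) (x a : G), x ∈ L → orderOf x = 3 → cj t x = x⁻¹ → a ∈ L → a ^ 3 = 1 →
      cj t a = a⁻¹ → ∃ y ∈ L, orderOf y = 3 ∧ cj t y = y⁻¹ ∧ a ∈ zpowers y := by
    intro L x a hx ox ix ha ha3 ia
    by_cases h : a = 1
    · exact ⟨x, hx, ox, ix, h ▸ one_mem _⟩
    · exact ⟨a, ha, S.order_three ha3 h, ia, mem_zpowers a⟩
  obtain ⟨y₁, h1, o1, i1, m1⟩ := pick H₁ x₁ a S.mem₁ S.order₁ S.inv₁ ha hae hinva.1
  obtain ⟨y₂, h2, o2, i2, m2⟩ := pick H₂ x₂ b S.mem₂ S.order₂ S.inv₂ hb hbe hinva.2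
  refine ⟨y₁, y₂, S.replace h1 h2 o1 o2 i1 i2, hv' ▸ mul_mem ?_ ?_⟩
  · exact zpowers_le.2 (show y₁ ∈ P₀ y₁ y₂ from Subgroup.subset_closure (Or.inl rfl)) m1
  · exact zpowers_le.2 (show y₂ ∈ P₀ y₁ y₂ from Subgroup.subset_closure (Or.inr rfl)) m2

/-- A Sylow subgroup at a small pair through a given element. -/
theorem exists_sylow {a b v : G} (hab : Small a b) (hv : v ^ 3 = 1) (hva : Commute v a)
    (hvb : cj b v = v⁻¹) : ∃ P : Subgroup G, Nat.card P = 9 ∧ (∀ p ∈ P, Commute p a) ∧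
      (∀ p ∈ P, cj b p = p⁻¹) ∧ v ∈ P := by
  obtain ⟨g, hg⟩ := isConj_iff.1 (S.invol a hab.order_a)
  have hga : cj g z = a := hg
  set i := cj g⁻¹ b with hi
  have hib : cj g i = b := by rw [hi, cj_cj, mul_inv_cancel]; simp [cj]
  have hiz : Commute i z := by
    have h := hab.comm.symm
    rw [← hga, ← hib] at h
    exact h.of_map (f := (MulAut.conj g).toMonoidHom) (MulAut.conj g).injective
  have hiH : i ∈ H := S.cent_z ▸ mem_centralizer_singleton_iff.2 hiz
  have hio : orderOf i = 2 := by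
    rw [← hab.order_b, ← hib]
    exact (orderOf_injective (MulAut.conj g).toMonoidHom (MulAut.conj g).injective i).symm
  have hi8 : Nat.card (centralizer ({z, i} : Set G)) = 8 := by
    rw [← card_centralizer_cj g ({z, i} : Set G), Set.image_pair, hga, hib, hab.card]
  obtain ⟨h, hh, hht⟩ := S.outer_conj i hiH hio (S.outer_of_small i hiH hio hi8)
  set w := g * h with hw
  have hwz : cj w z = a := by
    rw [hw, ← cj_cj, show cj h z = z from cj_eq_self.2 (S.comm_z hh), hga]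
  have hwt : cj w t = b := by rw [hw, ← cj_cj, hht, hib]
  set v' := cj w⁻¹ v with hv'_def
  have hv' : cj w v' = v := by rw [hv'_def, cj_cj, mul_inv_cancel]; simp [cj]
  have hinj : Function.Injective (cj w) := (MulAut.conj w).injective
  have hv3 : v' ^ 3 = 1 := by rw [hv'_def, cj_eq, ← map_pow, hv, map_one]
  have hvH : v' ∈ H := S.cent_z ▸ mem_centralizer_singleton_iff.2 (hinj (by
    rw [cj_hom, cj_hom, hv', hwz, hva.eq]))
  have hvt : cj t v' = v'⁻¹ := hinj (by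
    rw [cj_inv' w v', hv', show cj w (cj t v') = cj (cj w t) (cj w v') by simp only [cj]; group,
      hwt, hv', hvb])
  obtain ⟨y₁, y₂, S₁, hmem⟩ := S.exists_setup_mem hv3 hvH hvt
  refine ⟨(P₀ y₁ y₂).map (MulAut.conj w).toMonoidHom, ?_, ?_, ?_, ⟨v', hmem, hv'⟩⟩
  · rw [card_map_of_injective (MulAut.conj w).injective, S₁.card_P₀]
  · rintro _ ⟨p, hp, rfl⟩
    rw [← hwz]
    exact (S₁.P₀_commute_z hp).map (MulAut.conj w).toMonoidHom
  · rintro _ ⟨p, hp, rfl⟩
    show cj b (cj w p) = (cj w p)⁻¹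
    rw [← hwt, ← cj_inv', ← S₁.P₀_inv hp]
    simp only [cj]
    group

end Setup

end CfsgLib.G2TwoLocal
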