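import Cfsg.Agent.Lib.G2TwoLocal.Defs
import Cfsg.Agent.Lib.G2Three.Main

/-!
# `G₂(3)` from 2-local data: assembly
-/

set_option autoImplicit false
set_option linter.style.haveILetI false

namespace CfsgLib.G2TwoLocal

open Cfsg Subgroup
open CfsgLib.G2Three (cj)

universe u

variable {G : Type u} [Group G] [Finite G] {H H₁ H₂ : Subgroup G} {z t x₁ x₂ : G}

theorem Setup.sq_z (S : Setup H H₁ H₂ z t x₁ x₂) : z * z = 1 := by
  rw [← sq, ← S.order_z, pow_orderOf_eq_one]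

theorem Setup.sq_t (S : Setup H H₁ H₂ z t x₁ x₂) : t * t = 1 := by
  rw [← sq, ← S.order_t, pow_orderOf_eq_one]

theorem Setup.comm_z (S : Setup H H₁ H₂ z t x₁ x₂) {h : G} (hh : h ∈ H) : h * z = z * h := by
  rw [← S.cent_z, mem_centralizer_singleton_iff] at hh
  exact hh

theorem Setup.z_memH₁ (S : Setup H H₁ H₂ z t x₁ x₂) : z ∈ H₁ :=
  (S.inter.ge (mem_zpowers z)).1

/-- The setup is symmetric in `t` and `z * t`. -/
theorem Setup.swap (S : Setup H H₁ H₂ z t x₁ x₂) : Setup H H₁ H₂ z (z * t) x₁ x₂ := by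
  have hzt : t * z = z * t := S.comm_z S.mem_t
  have hzH : z ∈ H := S.le₁ S.z_memH₁
  have hzS : z ∈ H₁ ⊔ H₂ := le_sup_left (a := H₁) S.z_memH₁
  have hzi : z⁻¹ = z := inv_eq_of_mul_eq_one_right S.sq_z
  have hcj : ∀ x : G, x ∈ H → cj (z * t) x = cj t x := by
    intro x hx
    have h : t * x * t⁻¹ ∈ H := mul_mem (mul_mem S.mem_t hx) (inv_mem S.mem_t)
    calc cj (z * t) x = z * (t * x * t⁻¹) * z⁻¹ := by rw [cj]; group
      _ = cj t x := by rw [← S.comm_z h, mul_inv_cancel_right, cj]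
  have hord : orderOf (z * t) = 2 := by
    rw [orderOf_eq_prime_iff]
    refine ⟨?_, fun h => S.outer_t ?_⟩
    · rw [sq, show z * t * (z * t) = z * (t * z) * t by group, hzt,
        show z * (z * t) * t = (z * z) * (t * t) by group, S.sq_z, S.sq_t, mul_one]
    · have : t = z := by rw [← hzi]; exact (inv_eq_of_mul_eq_one_right h).symm
      exact this ▸ hzS
  have hout : z * t ∉ H₁ ⊔ H₂ := fun h => S.outer_t (by
    simpa [← mul_assoc, S.sq_z] using mul_mem hzS h)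
  refine ⟨S.cent_z, S.order_z, S.card_H, S.le₁, S.le₂, S.norm₁, S.norm₂, S.iso₁, S.iso₂, S.inter,
    S.comm, S.index, S.mem₁, S.mem₂, S.order₁, S.order₂, mul_mem hzH S.mem_t, hord, hout, ?_, ?_, ?_,
    S.outer_of_small, ?_, S.invol, S.two_part, S.seven⟩
  · rw [hcj _ (S.le₁ S.mem₁), S.inv₁]
  · rw [hcj _ (S.le₂ S.mem₂), S.inv₂]
  · have hc : centralizer ({z, z * t} : Set G) = centralizer ({z, t} : Set G) := by
      ext g
      simp only [mem_centralizer_iff, Set.mem_insert_iff, Set.mem_singleton_iff, forall_eq_or_imp,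
        forall_eq]
      constructor
      · rintro ⟨h1, h2⟩
        exact ⟨h1, mul_left_cancel (show z * (t * g) = z * (g * t) by
          rw [← mul_assoc, h2, ← mul_assoc, ← h1, mul_assoc])⟩
      · rintro ⟨h1, h2⟩
        exact ⟨h1, by rw [mul_assoc, h2, ← mul_assoc, h1, mul_assoc]⟩
    rw [hc]
    exact S.small
  · intro i hi hi2 hio
    obtain ⟨a, ha, ha'⟩ := S.outer_conj i hi hi2 hio
    obtain ⟨b, hb, hb'⟩ := S.outer_conj (z * t) (mul_mem hzH S.mem_t) hord hout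
    refine ⟨a * b⁻¹, mul_mem ha (inv_mem hb), ?_⟩
    rw [← ha', ← hb']
    simp only [cj]
    group

/-- The assembly. -/
theorem main (hS : StmtSetup.{u}) (hV : StmtMove.{u}) (hC : StmtCore.{u}) (h0 : StmtNotZero.{u})
    (h1 : StmtNotOne.{u}) (h2 : StmtNotSame.{u}) (hM : StmtMixed.{u}) (hB : StmtBridge)
    (hG : ∀ (G : Type u) [Group G] [Finite G] (A₁ A₂ : Subgroup G), G2Three.Hyp A₁ A₂ →
      ∀ (F : Type) [Field F] [Fintype F], Fintype.card F = 3 → Nonempty (G ≃* Lie.G2 F))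
    (G : Type u) [Group G] [Finite G] (H H₁ H₂ M : Subgroup G) (h : Hyp H H₁ H₂ M) :
    ∃ (F : Type) (_ : Field F) (_ : Fintype F),
      Fintype.card F = 3 ∧ Nonempty (G ≃* ↥(Lie.chevG2.group F)) := by
  haveI : Fact (Nat.Prime 3) := ⟨Nat.prime_three⟩
  obtain ⟨z, t, x₁, x₂, S⟩ := hS G H H₁ H₂ M h
  obtain ⟨R₁, R₂, k, C⟩ := hC G H H₁ H₂ z t x₁ x₂ S
  set i := Nat.card (centralizer ({x₁, x₂, t} : Set G)) with hi
  set j := Nat.card (centralizer ({x₁, x₂, z * t} : Set G)) with hj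
  have hcases : ∀ n : ℕ, 2 ∣ n → n ∣ 18 → n = 2 ∨ n = 6 ∨ n = 18 := by
    intro n hn hn'
    have : n ≤ 18 := Nat.le_of_dvd (by norm_num) hn'
    interval_cases n <;> omega
  have hzz : z * (z * t) = t := by rw [← mul_assoc, S.sq_z, one_mul]
  obtain ⟨A₁, A₂, hA⟩ : ∃ A₁ A₂ : Subgroup G, G2Three.Hyp A₁ A₂ := by
    have hp := C.prod
    rw [← hi, ← hj] at hp
    have hk := C.k_le
    rcases hcases i C.dvd_t.1 C.dvd_t.2 with e | e | e <;>
      rcases hcases j C.dvd_zt.1 C.dvd_zt.2 with e' | e' | e' <;> rw [e, e'] at hp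
    · have hk0 : k = 0 := by
        rcases (by omega : k = 0 ∨ k = 1 ∨ k = 2) with h' | h' | h' <;> subst h' <;> first | rfl | norm_num at hp
      obtain ⟨hc, hs⟩ := C.zero hk0
      exact (h0 G H H₁ H₂ z t x₁ x₂ S hc C.fusion hs).elim
    · exact (h1 hC hV G H H₁ H₂ z (z * t) x₁ x₂ S.swap e' (by rw [hzz]; exact e)).elim
    · exact (h2 hC hV G H H₁ H₂ z (z * t) x₁ x₂ S.swap e' (by rw [hzz]; exact e)).elim
    · exact (h1 hC hV G H H₁ H₂ z t x₁ x₂ S e e').elim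
    · exact hM hC hV G H H₁ H₂ z t x₁ x₂ S e e'
    · exfalso; interval_cases k <;> omega
    · exact (h2 hC hV G H H₁ H₂ z t x₁ x₂ S e e').elim
    · exfalso; interval_cases k <;> omega
    · exfalso; interval_cases k <;> omega
  obtain ⟨e₁⟩ := hG G A₁ A₂ hA (ZMod 3) (ZMod.card 3)
  obtain ⟨e₂⟩ := hB (ZMod 3) (ZMod.card 3)
  exact ⟨ZMod 3, inferInstance, inferInstance, ZMod.card 3, ⟨e₁.trans e₂.symm⟩⟩

end CfsgLib.G2TwoLocal
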