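import Cfsg.Agent.Lib.G2TwoLocal.MixedFrame

/-!
# `G₂(3)` from 2-local data, the amalgam: the pattern at every small pair
-/

set_option autoImplicit false
set_option linter.style.haveILetI false
set_option linter.unusedSectionVars false

namespace CfsgLib.G2TwoLocal.Mixed

open Cfsg Subgroup
open CfsgLib.G2Three (cj)

universe u

variable {G : Type u} [Group G] [Finite G] {H H₁ H₂ : Subgroup G} {z t x₁ x₂ : G}
  {R₁ R₂ : Subgroup G} {k : ℕ}

theorem cent_insert_P₀ (x₁ x₂ b : G) :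
    centralizer (insert b (P₀ x₁ x₂ : Set G)) = centralizer ({x₁, x₂, b} : Set G) := by
  rw [P₀, cent_insert_closure]
  congr 1
  ext g
  simp only [Set.mem_insert_iff, Set.mem_singleton_iff]
  tauto

theorem k_eq_two (C : Core H H₁ H₂ z t x₁ x₂ R₁ R₂ k)
    (h6 : Nat.card (centralizer ({x₁, x₂, t} : Set G)) = 6)
    (h6' : Nat.card (centralizer ({x₁, x₂, z * t} : Set G)) = 6) : k = 2 := by
  have := C.prod
  rw [h6, h6'] at this
  have := C.k_le
  interval_cases k <;> omega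

theorem inter_three (S : Setup H H₁ H₂ z t x₁ x₂) {w : G} (h1 : w ∈ zpowers x₁)
    (h2 : w ∈ zpowers x₂) : w = 1 := by
  by_contra hw
  have e1 := zpowers_eq_of_mem S.order₁ h1 hw
  have e2 := zpowers_eq_of_mem S.order₂ h2 hw
  have hx : x₁ ∈ H₁ ⊓ H₂ :=
    ⟨S.mem₁, zpowers_le.2 S.mem₂ ((e1.symm.trans e2) ▸ mem_zpowers x₁)⟩
  rw [S.inter] at hx
  have := orderOf_dvd_natCard (⟨x₁, hx⟩ : zpowers z)
  rw [Nat.card_zpowers, S.order_z, orderOf_mk, S.order₁] at this
  omega

/-- Elements of order three centralising `P₀` and `t`, respectively `z * t`, commute. -/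
theorem commute_of_core (S : Setup H H₁ H₂ z t x₁ x₂) (C : Core H H₁ H₂ z t x₁ x₂ R₁ R₂ k)
    (h6 : Nat.card (centralizer ({x₁, x₂, t} : Set G)) = 6)
    (h6' : Nat.card (centralizer ({x₁, x₂, z * t} : Set G)) = 6) {u v : G}
    (ou : orderOf u = 3) (ov : orderOf v = 3)
    (hu : u ∈ centralizer (insert t (P₀ x₁ x₂ : Set G)))
    (hv : v ∈ centralizer (insert (z * t) (P₀ x₁ x₂ : Set G))) : Commute u v := by
  have main : ∀ b w : G, Small z b → Nat.card (centralizer ({x₁, x₂, b} : Set G)) = 6 →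
      orderOf w = 3 → w ∈ centralizer (insert b (P₀ x₁ x₂ : Set G)) → w ∈ R₁ ∧ w ∈ R₂ := by
    intro b w hb hc ow hw
    obtain ⟨hwb, hwP⟩ := mem_cent_insert.1 hw
    have hzb : cj z b = b := cj_eq_self.2 hb.comm.eq
    have hzw : cj z w ∈ centralizer (insert b (P₀ x₁ x₂ : Set G)) := by
      refine mem_cent_insert.2 ⟨?_, fun p hp => ?_⟩
      · have h : Commute (cj z w) (cj z b) := hwb.map (MulAut.conj z).toMonoidHom
        rwa [hzb] at h
      · have h : Commute (cj z w) (cj z p) := (hwP p hp).map (MulAut.conj z).toMonoidHom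
        rwa [cj_eq_self.2 (S.P₀_commute_z hp).symm.eq] at h
    have hcard : Nat.card (centralizer (insert b (P₀ x₁ x₂ : Set G))) = 6 := by
      rw [cent_insert_P₀]; exact hc
    rcases six_unique hcard hw hzw ow ((MulEquiv.orderOf_eq (MulAut.conj z) w).trans ow) with h | h
    · exfalso
      have := hb.eq_one (cj_eq_self.1 h).symm hwb (by rw [ow]; decide)
      rw [this, orderOf_one] at ow
      omega
    · exact ⟨C.side₁.absorb w (hwP _ (subset_closure (Or.inl rfl))) (by rw [ow]; decide) h,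
        C.side₂.absorb w (hwP _ (subset_closure (Or.inr rfl))) (by rw [ow]; decide) h⟩
  obtain ⟨hu1, hu2⟩ := main t u S.small_zt h6 ou hu
  obtain ⟨hv1, hv2⟩ := main (z * t) v (S.small_zt.prod S) h6' ov hv
  have h := inter_three S (C.side₁.comm u hu1 v hv1) (C.side₂.comm u hu2 v hv2)
  rw [mul_inv_eq_one, mul_inv_eq_iff_eq_mul] at h
  exact h

/-- The pattern holds at every small pair. -/
theorem pattern (hC : StmtCore.{u}) (hV : StmtMove.{u}) (S : Setup H H₁ H₂ z t x₁ x₂)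
    (h6 : Nat.card (centralizer ({x₁, x₂, t} : Set G)) = 6)
    (h6' : Nat.card (centralizer ({x₁, x₂, z * t} : Set G)) = 6) : Pat G := by
  intro a b P hab hP hPa hPb
  obtain ⟨H', H₁', H₂', y₁, y₂, S', rfl, -, -, hpat⟩ := S.transport hV hab hP hPa hPb
  have hb : Nat.card (centralizer ({y₁, y₂, b} : Set G)) = 6 ∧
      Nat.card (centralizer ({y₁, y₂, a * b} : Set G)) = 6 := by
    rcases hpat with ⟨e1, e2⟩ | ⟨e1, e2⟩ <;> rw [e1, e2]
    · exact ⟨h6, h6'⟩
    · exact ⟨h6', h6⟩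
  obtain ⟨R₁', R₂', k', C'⟩ := hC G H' H₁' H₂' a b y₁ y₂ S'
  refine ⟨by rw [cent_insert_P₀]; exact hb.1, fun u v ou ov hu hv => ?_, fun p hp => S'.P₀_pow_three hp⟩
  exact commute_of_core S' C' hb.1 hb.2 ou ov hu hv

/-- The frame at the first factor. -/
theorem frame₁ (S : Setup H H₁ H₂ z t x₁ x₂) (C : Core H H₁ H₂ z t x₁ x₂ R₁ R₂ k)
    (h6 : Nat.card (centralizer ({x₁, x₂, t} : Set G)) = 6)
    (h6' : Nat.card (centralizer ({x₁, x₂, z * t} : Set G)) = 6) (hp : Pat G) :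
    Frame z t x₁ x₂ H₂ R₁ where
  side := k_eq_two C h6 h6' ▸ C.side₁
  small := S.small_zt
  le_z := fun l hl => (S.comm_z (S.le₂ hl) : Commute l z)
  z_mem := (S.inter.ge (mem_zpowers z)).2
  iso := S.iso₂
  t_norm := S.norm₂ S.mem_t
  y_mem := S.mem₂
  order_x := S.order₁
  order_y := S.order₂
  inv_x := S.inv₁
  inv_y := S.inv₂
  card_t := h6
  card_zt := h6'
  pat := hp

/-- The frame at the second factor. -/
theorem frame₂ (S : Setup H H₁ H₂ z t x₁ x₂) (C : Core H H₁ H₂ z t x₁ x₂ R₁ R₂ k)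
    (h6 : Nat.card (centralizer ({x₁, x₂, t} : Set G)) = 6)
    (h6' : Nat.card (centralizer ({x₁, x₂, z * t} : Set G)) = 6) (hp : Pat G) :
    Frame z t x₂ x₁ H₁ R₂ where
  side := k_eq_two C h6 h6' ▸ C.side₂
  small := S.small_zt
  le_z := fun l hl => (S.comm_z (S.le₁ hl) : Commute l z)
  z_mem := S.z_memH₁
  iso := S.iso₁
  t_norm := S.norm₁ S.mem_t
  y_mem := S.mem₁
  order_x := S.order₂
  order_y := S.order₁
  inv_x := S.inv₂
  inv_y := S.inv₁
  card_t := by rw [Set.insert_comm]; exact h6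
  card_zt := by rw [Set.insert_comm]; exact h6'
  pat := hp

end CfsgLib.G2TwoLocal.Mixed
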