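import Cfsg.Agent.Lib.G2TwoLocal.MixedPar
import Cfsg.Agent.Lib.G2TwoLocal.MixedPattern

/-!
# `G₂(3)` from 2-local data: the amalgam (piece F)

With `U = ⟨d⟩ × ⟨e⟩`, `d` central in `R₁`, the parabolics are `A₁ = N(⟨x₁⟩)` and `A₂ = N(⟨d⟩)`;
the latter is a conjugate of `N(⟨x₂⟩)`.
-/

set_option autoImplicit false
set_option linter.style.haveILetI false
set_option linter.unusedSectionVars false

universe u

namespace CfsgLib.G2TwoLocal.Mixed

open Cfsg Subgroup
open CfsgLib.G2Three (cj)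
open scoped Pointwise commutatorElement

variable {G : Type u} [Group G] [Finite G]

namespace Frame

variable {z t x y : G} {L R : Subgroup G} (F : Frame z t x y L R)
include F

theorem three_mem {w : G} (ow : orderOf w = 3) (hx : Commute w x) (hy : Commute w y)
    (ht : Commute w t) : w ∈ Frame.A t R := by
  have hmem : ∀ {v : G}, Commute v x → Commute v y → Commute v t →
      v ∈ centralizer ({x, y, t} : Set G) := by
    intro v h1 h2 h3
    rw [mem_cent]
    rintro _ (rfl | rfl | rfl)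
    exacts [h1.symm, h2.symm, h3.symm]
  have hz : ∀ {v q : G}, Commute v q → Commute q z → Commute (cj z v) q := by
    intro v q hvq hq
    have h : Commute (cj z v) (cj z q) := hvq.map (MulAut.conj z).toMonoidHom
    rwa [cj_eq_self.2 hq.symm.eq] at h
  rcases six_unique F.card_t (hmem hx hy ht)
      (hmem (hz hx F.x_z) (hz hy (F.le_z y F.y_mem)) (hz ht F.small.comm.symm)) ow
      ((MulEquiv.orderOf_eq (MulAut.conj z) w).trans ow) with h | h
  · exfalso
    have := F.small.eq_one (cj_eq_self.1 h).symm ht (by rw [ow]; decide)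
    rw [this, orderOf_one] at ow
    omega
  · exact mem_A.2 ⟨F.side.absorb w hx (by rw [ow]; decide) h, ht⟩

/-- If `y` fixes `tau`, the elements of `C(x, y, t)` of order three are central. -/
theorem central_of_fix (hy : Commute y F.tau) {w : G} (ow : orderOf w = 3) (hx : Commute w x)
    (hwy : Commute w y) (ht : Commute w t) : w ∈ Frame.Zr R := by
  have hτ : F.tau ∈ centralizer ({x, y, t} : Set G) := by
    rw [mem_cent]
    rintro _ (rfl | rfl | rfl)
    exacts [(F.comm_x (F.A_le F.tau_mem)).symm, hy, (mem_A.1 F.tau_mem).2.symm]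
  have hw : w ∈ centralizer ({x, y, t} : Set G) := by
    rw [mem_cent]
    rintro _ (rfl | rfl | rfl)
    exacts [hx.symm, hwy.symm, ht.symm]
  rcases six_unique F.card_t hτ hw F.tau_order ow with rfl | rfl
  exacts [F.tau_central, inv_mem F.tau_central]

theorem mem_closure (K : Subgroup G) (hA : Frame.A t R ≤ K) (hB : Frame.A (z * t) R ≤ K)
    (hx : x ∈ K) : R ≤ K := fun r hr => by
  obtain ⟨a, ha, b, hb, k, hk, rfl⟩ := F.decompose hr
  exact mul_mem (mul_mem (hA ha) (hB hb)) (zpowers_le.2 hx hk)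

theorem y_not_R : y ∉ R := fun h => F.y_ne (F.Levi_inf_R (F.L_le_Levi F.y_mem) h)

end Frame

/-- Half of the amalgam hypotheses follow from a frame. -/
theorem hyp_of_frames {z t x y z' t' x' y' : G} {L R L' R' : Subgroup G}
    (F : Frame z t x y L R) (F' : Frame z' t' x' y' L' R')
    (hncj : ∀ g : G, (Par x).map (MulAut.conj g).toMonoidHom ≠ Par x')
    (hR : R ≤ Par x') (hy : y ∈ Par x') (hy' : y ∈ Par x)
    (hZ : Frame.Zr R ≤ R') (hne : ¬ R ≤ R') (hne' : ¬ R' ≤ R) (hxx' : x ∈ Frame.Zr R')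
    (hx'x : x' ∈ Frame.Zr R) (hZne : ¬ Frame.Zr R ≤ Frame.Zr R') :
    G2Three.Hyp (Par x) (Par x') := by
  haveI : Fact (Nat.Prime 3) := ⟨Nat.prime_three⟩
  have hsyl : 729 ∣ Nat.card ↥(Par x ⊓ Par x') := by
    have hP : IsPGroup 3 (zpowers y ⊔ R : Subgroup G) :=
      IsPGroup.to_sup_of_normal_right'
        (IsPGroup.of_card (n := 1) (by rw [Nat.card_zpowers, F.order_y]; norm_num)) F.isPGroup_R
        (zpowers_le.2 (F.Par_le_normalizer_R hy'))
    have hle : zpowers y ⊔ R ≤ Par x ⊓ Par x' :=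
      sup_le (zpowers_le.2 ⟨hy', hy⟩) (le_inf F.R_le_Par hR)
    have hlt : Nat.card R < Nat.card (zpowers y ⊔ R : Subgroup G) := by
      by_contra h
      have := Subgroup.eq_of_le_of_card_ge (le_sup_right : R ≤ zpowers y ⊔ R) (not_lt.1 h)
      exact F.y_not_R (this.ge (mem_sup_left (mem_zpowers y)))
    obtain ⟨n, hn⟩ := IsPGroup.iff_card.1 hP
    have hdvd : 3 ^ n ∣ 11664 := by
      rw [← hn, ← F.card_Par]
      exact Subgroup.card_dvd_of_le (hle.trans inf_le_left)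
    rw [hn, F.card_R] at hlt
    have hn6 : n = 6 := by
      have h1 : n ≤ 6 := by
        by_contra h
        have := (pow_dvd_pow 3 (show 7 ≤ n by omega)).trans hdvd
        norm_num at this
      have h2 : 5 < n := by
        by_contra h
        have := Nat.pow_le_pow_right (show 0 < 3 by norm_num) (show n ≤ 5 by omega)
        norm_num at this
        omega
      omega
    rw [hn6] at hn
    have := Subgroup.card_dvd_of_le hle
    rwa [hn] at this
  have hidx : ∀ A : Subgroup G, Nat.card A = 11664 → Par x ⊓ Par x' ≤ A →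
      ¬ 3 ∣ ((Par x ⊓ Par x').subgroupOf A).index := by
    intro A hA hle h3
    have h := ((Par x ⊓ Par x').subgroupOf A).card_mul_index
    rw [Nat.card_congr (subgroupOfEquivOfLe hle).toEquiv, hA] at h
    have := (mul_dvd_mul hsyl h3).trans (dvd_of_eq h)
    norm_num at this
  have hcore : ∀ N : Subgroup G, N ≤ Par x ⊓ Par x' → Par x ≤ normalizer (N : Set G) →
      Par x' ≤ normalizer (N : Set G) → N = ⊥ := by
    intro N hN hn hn'
    have hnc : ∀ g ∈ Par x, ∀ n ∈ N, cj g n ∈ N := fun g hg n h =>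
      (mem_normalizer_iff.1 (hn hg) n).1 h
    have hnc' : ∀ g ∈ Par x', ∀ n ∈ N, cj g n ∈ N := fun g hg n h =>
      (mem_normalizer_iff.1 (hn' hg) n).1 h
    -- the three-core lies in both
    set O := (pCore 3 N).map N.subtype with hO
    have hOR : O ≤ R ∧ O ≤ R' := by
      have hp : IsPGroup 3 O := Base.isPGroup_map_pCore 3 N
      have hnorm : normalizer (N : Set G) ≤ normalizer (O : Set G) :=
        Base.normalizer_le_normalizer_map_subtype N _
      have hON : O ≤ N := map_subtype_le _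
      exact ⟨F.mem_R_of_three (hON.trans (hN.trans inf_le_left))
          (fun g hg n h => (mem_normalizer_iff.1 (hnorm (hn hg)) n).1 h) hp,
        F'.mem_R_of_three (hON.trans (hN.trans inf_le_right))
          (fun g hg n h => (mem_normalizer_iff.1 (hnorm (hn' hg)) n).1 h) hp⟩
    have hNR : N ⊓ R ≤ R' := by
      refine le_trans (Base.le_map_pCore inf_le_left ?_ (F.isPGroup_R.to_le inf_le_right)) hOR.2
      intro g hg
      rw [mem_normalizer_iff]
      have hgx : g ∈ Par x := (hN hg).1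
      refine fun r => ⟨fun h => ⟨N.mul_mem (N.mul_mem hg h.1) (N.inv_mem hg), F.Par_normal_R hgx h.2⟩,
        fun h => ?_⟩
      have h2 := F.Par_normal_R (inv_mem hgx) h.2
      have h1 := N.mul_mem (N.mul_mem (N.inv_mem hg) h.1) hg
      exact ⟨by simpa [mul_assoc] using h1, by simpa [cj, mul_assoc] using h2⟩
    have hNR' : ¬ R ≤ (N ⊓ R) ⊔ Frame.Zr R := fun h => hne (h.trans (sup_le hNR hZ))
    -- `N ≤ R`
    let M : Subgroup G := (N ⊔ R) ⊓ Levi t L
    have hM : M = ⊥ := by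
      refine F.faithful inf_le_right (fun k hk m hm => ⟨?_, ?_⟩) (fun hzM => ?_)
      · have hle : N ⊔ R ≤ (N ⊔ R).comap (MulAut.conj k).toMonoidHom :=
          sup_le (fun n hn'' => mem_sup_left (hnc k (F.Levi_le_Par hk) n hn''))
            (fun r hr => mem_sup_right (F.Par_normal_R (F.Levi_le_Par hk) hr))
        exact hle hm.1
      · exact (Levi t L).mul_mem ((Levi t L).mul_mem hk hm.2) ((Levi t L).inv_mem hk)
      · apply hNR'
        intro r hr
        have hNn : N ≤ normalizer (R : Set G) :=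
          (hN.trans inf_le_left).trans F.Par_le_normalizer_R
        obtain ⟨n, hnN, r₀, hr₀, e⟩ := Set.mem_mul.1 (show z ∈ (N : Set G) * (R : Set G) by
          rw [← coe_mul_of_left_le_normalizer_right N R hNn]; exact hzM.1)
        -- the commutator with `n` lies in `N ⊓ R`
        have hc : n * r * n⁻¹ * r⁻¹ ∈ N ⊓ R := by
          refine ⟨?_, ?_⟩
          · rw [show n * r * n⁻¹ * r⁻¹ = n * cj r n⁻¹ by rw [cj]; group]
            exact mul_mem hnN (hnc r (F.R_le_Par hr) _ (inv_mem hnN))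
          · exact R.mul_mem ((mem_normalizer_iff.1 (hNn hnN) r).1 hr) (R.inv_mem hr)
        have hn : n = z * r₀⁻¹ := by rw [← e, mul_inv_cancel_right]
        have hcomm : r₀⁻¹ * r * r₀⁻¹⁻¹ * r⁻¹ ∈ Frame.Zr R :=
          zpowers_le.2 F.x_mem_Zr (F.comm_R (inv_mem hr₀) hr)
        have hzc : cj z (r₀⁻¹ * r * r₀⁻¹⁻¹ * r⁻¹) ∈ Frame.Zr R := F.Levi_Zr F.z_mem_Levi hcomm
        have hzr := F.sq_mem (Frame.Zr R) le_rfl r hr
        set K := (N ⊓ R) ⊔ Frame.Zr R
        have e1 : n * r * n⁻¹ * r⁻¹ =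
            cj z (r₀⁻¹ * r * r₀⁻¹⁻¹ * r⁻¹) * (cj z r * r) * (r⁻¹ * r⁻¹) := by
          simp only [hn, cj]; group
        have h1 : r⁻¹ * r⁻¹ ∈ K := by
          have := mul_mem (inv_mem (mem_sup_right (mul_mem hzc hzr) : _ ∈ K)) (mem_sup_left hc : _ ∈ K)
          rwa [e1, ← mul_assoc, inv_mul_cancel, one_mul] at this
        have h2 := mul_mem (mem_sup_right (F.cube_mod hr) : _ ∈ K) h1
        have : r ^ 3 * (r⁻¹ * r⁻¹) = r := by
          rw [pow_succ, pow_two]; group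
        rwa [this] at h2
    have hNleR : N ≤ R := by
      intro n hnN
      obtain ⟨r, hr, k, hk, rfl⟩ := F.Par_decompose (hN hnN).1
      have hkM : k ∈ M := ⟨by
        have := mul_mem (mem_sup_right (inv_mem hr) : r⁻¹ ∈ N ⊔ R) (mem_sup_left hnN : r * k ∈ N ⊔ R)
        rwa [inv_mul_cancel_left] at this, hk⟩
      rw [hM, mem_bot] at hkM
      rw [hkM, mul_one]; exact hr
    have hNleR' : N ≤ R' := fun n hn'' => hNR ⟨hn'', hNleR hn''⟩
    have hlev : ∀ k ∈ Levi t L, ∀ n ∈ N, cj k n ∈ N := fun k hk => hnc k (F.Levi_le_Par hk)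
    have hlev' : ∀ k ∈ Levi t' L', ∀ n ∈ N, cj k n ∈ N := fun k hk => hnc' k (F'.Levi_le_Par hk)
    have hNZ : N ≤ Frame.Zr R := (F.normal_cases hNleR hlev).resolve_right fun h =>
      hne (h.trans (sup_le hNleR' hZ))
    have hNZ' : N ≤ Frame.Zr R' := by
      refine (F'.normal_cases hNleR' hlev').resolve_right fun h => ?_
      -- then `R' = N·Z(R')` would be abelian
      obtain ⟨a, ha, hna⟩ := F'.exists_noncentral
      refine hna (Frame.mem_Zr.2 ⟨F'.A_le ha, fun s hs => ?_⟩)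
      have hcomm : N ⊔ Frame.Zr R' ≤ centralizer ((N ⊔ Frame.Zr R' : Subgroup G) : Set G) := by
        have hN1 : ∀ n ∈ N, ∀ m ∈ N, Commute n m := fun n hn1 m hm1 =>
          (Frame.mem_Zr.1 (hNZ hn1)).2 m (hNleR hm1)
        refine sup_le ?_ ?_
        · intro n hn1
          rw [mem_cent]
          intro m hm
          have : m ∈ centralizer ({n} : Set G) :=
            (sup_le (fun q hq => mem_cent_single.2 (hN1 q hq n hn1))
              (fun q hq => mem_cent_single.2 ((Frame.mem_Zr.1 hq).2 n (hNleR' hn1))) :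
                N ⊔ Frame.Zr R' ≤ centralizer ({n} : Set G)) hm
          exact mem_cent_single.1 this
        · intro n hn1
          rw [mem_cent]
          intro m hm
          exact ((Frame.mem_Zr.1 hn1).2 m ((sup_le hNleR' inf_le_left : N ⊔ Frame.Zr R' ≤ R') hm)).symm
      exact (mem_cent.1 (hcomm (h (F'.A_le ha))) s (h hs)).symm
    have hxle : zpowers x ≤ Frame.Zr R' := zpowers_le.2 hxx'
    have hN1 : N ≤ zpowers x := (F.central_cases hNZ hlev).resolve_right fun h =>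
      hZne (h.trans (sup_le hNZ' hxle))
    have hZne' : ¬ Frame.Zr R' ≤ Frame.Zr R := fun h => hZne
      (Subgroup.eq_of_le_of_card_ge h (by rw [F.card_Zr, F'.card_Zr])).ge
    have hN2 : N ≤ zpowers x' := (F'.central_cases hNZ' hlev').resolve_right fun h =>
      hZne' (h.trans (sup_le hNZ (zpowers_le.2 hx'x)))
    rw [Subgroup.eq_bot_iff_forall]
    intro n hn''
    by_contra h1
    have e1 := zpowers_eq_of_mem F.order_x (hN1 hn'') h1
    have e2 := zpowers_eq_of_mem F'.order_x (hN2 hn'') h1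
    refine hncj 1 ?_
    rw [Par, Par, ← e2.symm.trans e2, ← e2, ← e1]
    ext g
    constructor
    · rintro ⟨w, hw, rfl⟩; simpa using hw
    · intro hg; exact ⟨g, hg, by simp⟩
  exact
    { ncj := hncj
      syl₁ := hidx _ F.card_Par inf_le_left
      syl₂ := hidx _ F'.card_Par inf_le_right
      core := hcore
      card₁ := by rw [F.pCore_eq, F.card_R]; norm_num
      card₂ := by rw [F'.pCore_eq, F'.card_R]; norm_num
      normal₁ := F.normal_pCore
      normal₂ := F'.normal_pCore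
      quot₁ := by haveI := F.normal_pCore; exact F.quot_pCore
      quot₂ := by haveI := F'.normal_pCore; exact F'.quot_pCore
      mod₁ := F.mod_spec
      mod₂ := F'.mod_spec
      norm₁ := F.norm_commutator
      norm₂ := F'.norm_commutator }

section

variable {H H₁ H₂ : Subgroup G} {z t x₁ x₂ : G}

theorem mixed_central (hC : StmtCore.{u}) (hV : StmtMove.{u}) (S : Setup H H₁ H₂ z t x₁ x₂)
    {R₁ R₂ : Subgroup G} (F : Frame z t x₁ x₂ H₂ R₁) (F₂ : Frame z t x₂ x₁ H₁ R₂)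
    (hfus : ∀ x ∈ P₀ x₁ x₂, ∀ y ∈ P₀ x₁ x₂, IsConj x y → y = x ∨ y = x⁻¹)
    (hy : Commute x₂ F.tau) : ∃ A₁ A₂ : Subgroup G, G2Three.Hyp A₁ A₂ := by
  haveI : Fact (Nat.Prime 3) := ⟨Nat.prime_three⟩
  have hx1P : x₁ ∈ P₀ x₁ x₂ := subset_closure (Or.inl rfl)
  have hx2P : x₂ ∈ P₀ x₁ x₂ := subset_closure (Or.inr rfl)
  obtain ⟨d, hd, od⟩ := exists_order_three_of_six F.card_t
  have hdc : Commute d x₁ ∧ Commute d x₂ ∧ Commute d t := by
    rw [mem_cent] at hd
    exact ⟨(hd _ (Or.inl rfl)).symm, (hd _ (Or.inr (Or.inl rfl))).symm,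
      (hd _ (Or.inr (Or.inr rfl))).symm⟩
  obtain ⟨hdx₁, hdx₂, hdt⟩ := hdc
  have hdA : d ∈ Frame.A t R₁ := F.three_mem od hdx₁ hdx₂ hdt
  have hdA₂ : d ∈ Frame.A t R₂ := F₂.three_mem od hdx₂ hdx₁ hdt
  have hdZ : d ∈ Frame.Zr R₁ := F.central_of_fix hy od hdx₁ hdx₂ hdt
  have hd1 : d ≠ 1 := fun h => by rw [h, orderOf_one] at od; omega
  obtain ⟨e, he, oe⟩ := exists_order_three_of_six F.card_zt
  have hec : Commute e x₁ ∧ Commute e x₂ ∧ Commute e (z * t) := by
    rw [mem_cent] at he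
    exact ⟨(he _ (Or.inl rfl)).symm, (he _ (Or.inr (Or.inl rfl))).symm,
      (he _ (Or.inr (Or.inr rfl))).symm⟩
  obtain ⟨hex₁, hex₂, hezt⟩ := hec
  have heB : e ∈ Frame.A (z * t) R₁ := F.swap.three_mem oe hex₁ hex₂ hezt
  have he1 : e ≠ 1 := fun h => by rw [h, orderOf_one] at oe; omega
  have heZ : e ∉ Frame.Zr R₁ := fun h => by
    refine F.y_not_fix_both ⟨hy, ?_⟩
    have hs : zpowers e = zpowers F.sigma :=
      zpowers_eq_of_mem F.sigma_order (F.mem_B_central heB h) he1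
    obtain ⟨i, hi⟩ : F.sigma ∈ zpowers e := hs ▸ mem_zpowers _
    rw [← hi]
    exact hex₂.symm.zpow_right i
  -- the setup at the vertex `t`
  obtain ⟨H', H₁', H₂', y₁, y₂, S', hP', hc₁, hc₂, hpat⟩ :=
    S.transport hV S.small_zt.symm F.card_A (fun p hp => (Frame.mem_A.1 hp).2)
      (fun p hp => F.z_inv hp)
  have h6 : Nat.card (centralizer ({y₁, y₂, z} : Set G)) = 6 ∧
      Nat.card (centralizer ({y₁, y₂, t * z} : Set G)) = 6 := by
    rcases hpat with ⟨e1, e2⟩ | ⟨e1, e2⟩ <;> rw [e1, e2]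
    exacts [⟨F.card_t, F.card_zt⟩, ⟨F.card_zt, F.card_t⟩]
  obtain ⟨R₁', R₂', k', C'⟩ := hC G H' H₁' H₂' t z y₁ y₂ S'
  have hp := F.pat
  have G₁ := frame₁ S' C' h6.1 h6.2 hp
  have G₂ := frame₂ S' C' h6.1 h6.2 hp
  have hdP : d ∈ P₀ y₁ y₂ := hP'.symm ▸ hdA
  -- `d` is not diagonal
  have hAne : Frame.A t R₂ ≠ Frame.A t R₁ := by
    intro h
    have hle : Frame.A t R₁ ≤ centralizer ({x₁, x₂, t} : Set G) := by
      intro a ha
      rw [mem_cent]
      rintro _ (rfl | rfl | rfl)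
      exacts [(F.comm_x (F.A_le ha)).symm, (F₂.comm_x (F₂.A_le (h.symm ▸ ha))).symm,
        (Frame.mem_A.1 ha).2.symm]
    have := Subgroup.card_dvd_of_le hle
    rw [F.card_A, F.card_t] at this
    norm_num at this
  have hside : d ∈ zpowers y₁ ∨ d ∈ zpowers y₂ := by
    by_contra hcon
    push Not at hcon
    refine hAne (Subgroup.eq_of_le_of_card_ge ?_ (by rw [F.card_A, F₂.card_A]))
    intro p hp
    rw [← hP']
    exact C'.mem_P₀_of_diag S' hdP hcon.1 hcon.2 (F₂.A_comm hp hdA₂) (Frame.mem_A.1 hp).2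
      (odd_of_cube (F₂.cube_A hp))
  -- the elements at the vertex `z * t`
  obtain ⟨w, hwB, hwZ, hw1⟩ : ∃ w, w ∈ Frame.A (z * t) R₁ ∧ w ∈ Frame.Zr R₁ ∧ w ≠ 1 :=
    ⟨F.sigma, F.sigma_mem, F.sigma_central, fun h => by
      have := F.sigma_order; rw [h, orderOf_one] at this; omega⟩
  have hdw : IsConj d w := F.isConj_AB hdA hdZ hd1 hwB hwZ hw1
  have hwe : w ≠ e ∧ w ≠ e⁻¹ :=
    ⟨fun h => heZ (h ▸ hwZ), fun h => heZ (by simpa using inv_mem (h ▸ hwZ : e⁻¹ ∈ Frame.Zr R₁))⟩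
  -- everything at the side containing `d`
  have aux : ∀ (y y' : G) (L' R' : Subgroup G), Frame t z y y' L' R' → d ∈ zpowers y →
      x₁ ∈ Frame.Zr R' ∧ x₂ ∈ R' ∧ Frame.A (z * t) R₁ ≤ R' ∧ e ∈ Frame.Zr R' ∧ IsConj x₁ e := by
    intro y y' L' R' F' hdy
    have hyd : zpowers d = zpowers y := zpowers_eq_of_mem F'.order_x hdy hd1
    have hcy : ∀ {q : G}, Commute q d → Commute q y := fun {q} hq => by
      obtain ⟨i, hi⟩ : y ∈ zpowers d := hyd.symm ▸ mem_zpowers y
      rw [← hi]; exact hq.zpow_right i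
    have habs : ∀ {q : G}, Commute q d → Odd (orderOf q) → cj t q = q⁻¹ → q ∈ R' :=
      fun hq ho hi => F'.side.absorb _ (hcy hq) ho hi
    have hx2 : x₂ ∈ R' := habs hdx₂.symm (by rw [S.order₂]; decide) S.inv₂
    have hx1 : x₁ ∈ R' := habs hdx₁.symm (by rw [S.order₁]; decide) S.inv₁
    have hB : Frame.A (z * t) R₁ ≤ R' := fun b hb => habs
      ((Frame.mem_Zr.1 hdZ).2 b (Frame.mem_A.1 hb).1).symm (odd_of_cube (F.cube_B hb)) (F.t_invB hb)
    have htz : t * z = z * t := F.small.comm.symm.eq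
    -- the two other vertices
    have hAz : Frame.A z R' = P₀ x₁ x₂ := by
      refine (Subgroup.eq_of_le_of_card_ge ?_ (by rw [F'.card_A, S.card_P₀])).symm
      rw [P₀, closure_le]
      rintro q (rfl | rfl)
      · exact Frame.mem_A.2 ⟨hx1, F.x_z⟩
      · exact Frame.mem_A.2 ⟨hx2, F₂.x_z⟩
    have hAzt : Frame.A (t * z) R' = Frame.A (z * t) R₁ := by
      refine (Subgroup.eq_of_le_of_card_ge (fun b hb => ?_) (by rw [F'.card_B, F.card_B])).symm
      exact Frame.mem_A.2 ⟨hB hb, htz ▸ (Frame.mem_A.1 hb).2⟩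
    have central : ∀ q, q ∈ R' → Commute q d → (∀ p ∈ P₀ x₁ x₂, Commute q p) →
        (∀ b ∈ Frame.A (z * t) R₁, Commute q b) → q ∈ Frame.Zr R' := fun q hq hqd hqP hqB =>
      Frame.mem_Zr.2 ⟨hq, fun r hr => F'.commute_gens (fun a ha => hqP a (hAz ▸ ha))
        (fun b hb => hqB b (hAzt ▸ hb)) (hcy hqd) hr⟩
    have hPc : ∀ {q : G}, Commute q x₁ → Commute q x₂ → ∀ p ∈ P₀ x₁ x₂, Commute q p := by
      intro q h1 h2 p hp
      refine (mem_cent_single.1 (show p ∈ centralizer ({q} : Set G) from ?_)).symm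
      refine (closure_le _).2 ?_ hp
      rintro _ (rfl | rfl)
      exacts [mem_cent_single.2 h1.symm, mem_cent_single.2 h2.symm]
    have hx1Z : x₁ ∈ Frame.Zr R' := central x₁ hx1 hdx₁.symm (hPc (Commute.refl _) S.commute₁₂)
      (fun b hb => (F.comm_x (Frame.mem_A.1 hb).1).symm)
    have heZ' : e ∈ Frame.Zr R' := central e (hB heB)
      ((Frame.mem_Zr.1 hdZ).2 e (Frame.mem_A.1 heB).1).symm (hPc hex₁ hex₂)
      (fun b hb => F.swap.A_comm heB hb)
    refine ⟨hx1Z, hx2, hB, heZ', ?_⟩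
    exact F'.isConj_AB (hAz ▸ hx1P) hx1Z S.ne₁ (hAzt.symm ▸ heB) heZ' he1
  rcases hside with hd₁ | hd₂
  · exfalso
    obtain ⟨-, -, -, -, hx₁e⟩ := aux y₁ y₂ H₂' R₁' G₁ hd₁
    obtain ⟨H'', H₁'', H₂'', u₁, u₂, S'', hP'', hu₁, -, -⟩ :=
      S.transport hV (Small.symm (S.small_zt.prod S)) F.card_B
        (fun p hp => (Frame.mem_A.1 hp).2) (fun p hp => F.z_invB hp)
    obtain ⟨R₁'', R₂'', k'', C''⟩ := hC G H'' H₁'' H₂'' (z * t) z u₁ u₂ S''
    have heP : e ∈ P₀ u₁ u₂ := hP''.symm ▸ heB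
    have hwP : w ∈ P₀ u₁ u₂ := hP''.symm ▸ hwB
    -- `d` is conjugate to `x₁` or its inverse
    have hdx : IsConj x₁ d ∨ IsConj x₁ d⁻¹ := by
      rcases mem_zpowers_three (S'.cube₁) hd₁ with h | h | h
      · exact absurd h hd1
      · exact Or.inl (h ▸ hc₁)
      · exact Or.inr (by rw [h, inv_inv]; exact hc₁)
    rcases hdx with h | h
    · rcases C''.unique_class heP hwP hx₁e (h.trans hdw) with h' | h'
      exacts [hwe.1 h', hwe.2 h']
    · obtain ⟨g, hg⟩ := isConj_iff.1 hdw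
      have hinv : IsConj d⁻¹ w⁻¹ := isConj_iff.2 ⟨g, by rw [← hg]; group⟩
      rcases C''.unique_class heP (inv_mem hwP) hx₁e (h.trans hinv) with h' | h'
      exacts [hwe.2 (by rw [← h', inv_inv]), hwe.1 (inv_injective h')]
  obtain ⟨hx₁Z', hx₂R', hB', heZ', -⟩ := aux y₂ y₁ H₁' R₂' G₂ hd₂
  have hyd : zpowers d = zpowers y₂ := zpowers_eq_of_mem G₂.order_x hd₂ hd1
  obtain ⟨i, hi⟩ : y₂ ∈ zpowers d := hyd.symm ▸ mem_zpowers y₂
  have hcy : ∀ {q : G}, Commute q d → Commute q y₂ := fun hq => hi ▸ hq.zpow_right i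
  have hfix : ∀ {q : G}, Commute q d → q ∈ Par y₂ := by
    intro q hq
    rw [Par, ← hyd, mem_normalizer_iff]
    have hc : ∀ v ∈ zpowers d, q * v * q⁻¹ = v := by
      rintro _ ⟨j, rfl⟩
      rw [(hq.zpow_right j).eq, mul_inv_cancel_right]
    refine fun v => ⟨fun h => (hc v h).symm ▸ h, fun h => ?_⟩
    have e' := hc _ h
    have : q * v * q⁻¹ = v := by
      have := mul_left_cancel (mul_right_cancel e')
      simpa using this
    rwa [this] at h
  refine ⟨Par x₁, Par y₂, hyp_of_frames F G₂ ?_ ?_ ?_ ?_ ?_ ?_ ?_ hx₁Z' ?_ ?_⟩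
  · -- not conjugate
    intro g hg
    have h1 : ((⁅pCoreOf 3 (Par x₁), pCoreOf 3 (Par x₁)⁆ : Subgroup G)) = zpowers x₁ := by
      rw [F.pCore_eq, F.comm_eq]
    have hcore : (pCoreOf 3 (Par x₁)).map (MulAut.conj g).toMonoidHom = pCoreOf 3 (Par y₂) := by
      rw [F.pCore_eq, G₂.pCore_eq]
      refine Subgroup.eq_of_le_of_card_ge ?_ ?_
      · refine G₂.mem_R_of_three ?_ ?_ (F.isPGroup_R.map _)
        · rw [← hg]; exact map_mono F.R_le_Par
        · intro q hq n hn
          rw [← hg] at hq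
          obtain ⟨q₀, hq₀, rfl⟩ := hq
          obtain ⟨n₀, hn₀, rfl⟩ := hn
          exact ⟨cj q₀ n₀, F.Par_normal_R hq₀ hn₀, by simp [cj, mul_assoc]⟩
      · rw [Subgroup.card_map_of_injective (MulAut.conj g).injective, F.card_R, G₂.card_R]
    have h2 := congrArg (fun K : Subgroup G => ⁅K, K⁆) hcore
    rw [← Subgroup.map_commutator, h1, G₂.pCore_eq, G₂.comm_eq, MonoidHom.map_zpowers] at h2
    have hy2 : y₂ ∈ zpowers (cj g x₁) := by
      show y₂ ∈ zpowers ((MulAut.conj g).toMonoidHom x₁)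
      rw [h2]; exact mem_zpowers _
    have h3 : (cj g x₁) ^ 3 = 1 := by rw [cj_eq_conj, ← map_pow, S.cube₁, map_one]
    have hne : x₂ ≠ x₁ ∧ x₂ ≠ x₁⁻¹ := by
      constructor <;> intro h
      · exact S.ne₂ (inter_three S (h ▸ mem_zpowers x₁) (mem_zpowers x₂))
      · exact S.ne₂ (inter_three S (h ▸ inv_mem (mem_zpowers x₁)) (mem_zpowers x₂))
    rcases mem_zpowers_three h3 hy2 with h | h | h
    · exact G₂.x_ne h
    · have hcon : IsConj x₁ x₂ := (isConj_cj g x₁).trans (h ▸ hc₂.symm)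
      rcases hfus x₁ hx1P x₂ hx2P hcon with h' | h'
      exacts [hne.1 h', hne.2 h']
    · have hcon : IsConj x₁⁻¹ x₂ := (isConj_cj g x₁⁻¹).trans (by rw [cj_inv', ← h]; exact hc₂.symm)
      rcases hfus _ (inv_mem hx1P) x₂ hx2P hcon with h' | h'
      exacts [hne.2 h', hne.1 (by rw [h', inv_inv])]
  · exact fun r hr => hfix ((Frame.mem_Zr.1 hdZ).2 r hr).symm
  · exact hfix hdx₂.symm
  · exact F.Levi_le_Par (F.L_le_Levi F.y_mem)
  · -- the centre of `R₁` lies in `R_d`
    intro r hr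
    obtain ⟨a, ha, b, hb, k, hk, rfl⟩ := F.mem_Zr_iff.1 hr
    have hτ : F.tau ∈ zpowers d := by
      rw [zpowers_eq_of_mem F.tau_order (F.mem_A_central hdA hdZ) hd1]; exact mem_zpowers _
    refine mul_mem (mul_mem ?_ (hB' (zpowers_le.2 F.sigma_mem hb))) ?_
    · exact zpowers_le.2 (zpowers_le.2 (zpowers_le.2 G₂.side.mem hd₂ : d ∈ R₂') hτ) ha
    · exact zpowers_le.2 (Frame.mem_Zr.1 hx₁Z').1 hk
  · exact fun h => F.y_not_R (by
      rw [Subgroup.eq_of_le_of_card_ge h (by rw [F.card_R, G₂.card_R])]; exact hx₂R')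
  · exact fun h => F.y_not_R (h hx₂R')
  · rw [← hi]; exact zpow_mem hdZ i
  · exact fun h => heZ (by
      rw [Subgroup.eq_of_le_of_card_ge h (by rw [F.card_Zr, G₂.card_Zr])]; exact heZ')

end

end Mixed

open Mixed

/-- Piece F. -/
theorem mixed : StmtMixed.{u} := by
  intro hC hV G _ _ H H₁ H₂ z t x₁ x₂ S h6 h6'
  obtain ⟨R₁, R₂, k, C⟩ := hC G H H₁ H₂ z t x₁ x₂ S
  have hp := pattern hC hV S h6 h6'
  have F := frame₁ S C h6 h6' hp
  have F₂ := frame₂ S C h6 h6' hp
  rcases F.eigen_dichotomy with h | h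
  · exact mixed_central hC hV S F F₂ C.fusion h
  · exact mixed_central hC hV S.swap F.swap F₂.swap C.fusion h

end CfsgLib.G2TwoLocal
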