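import Cfsg.Agent.Lib.G2TwoLocal.Defs
import Cfsg.Agent.Lib.Base.Cores

/-!
# `G₂(3)` from 2-local data, the amalgam: small groups and elementary lemmas
-/

set_option autoImplicit false
set_option linter.style.haveILetI false
set_option maxRecDepth 100000

namespace CfsgLib.G2TwoLocal.Mixed

open Cfsg Subgroup
open CfsgLib.G2Three (cj)

universe u

/-- `SL₂(3)` -/
abbrev SL : Type := Matrix.SpecialLinearGroup (Fin 2) (ZMod 3)

theorem sl_card : Nat.card SL = 24 := by
  rw [Nat.card_eq_fintype_card]; decide +kernel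

theorem sl_invol : ∀ u : SL, u * u = 1 → u = 1 ∨ u = -1 := by decide +kernel

theorem sl_neg_one : (-1 : SL) ≠ 1 ∧ (-1 : SL) * -1 = 1 := by decide +kernel

theorem sl_central : ∀ u : SL, (∀ v : SL, u * v = v * u) → u ^ 3 = 1 → u = 1 := by decide +kernel

theorem sl_no_inverting : ∀ y : SL, y ^ 3 = 1 → y ≠ 1 → ∀ u : SL, u * y * u⁻¹ ≠ y⁻¹ := by
  decide +kernel

theorem sl_neg_gen : ∃ u v w : SL, u ^ 3 = 1 ∧ v ^ 3 = 1 ∧ w ^ 3 = 1 ∧ u * v * w = -1 := by
  decide +kernel

theorem sl_reach_neg : ∀ u : SL, u ≠ 1 → u = -1 ∨ u * u = -1 ∨ u * u * u = -1 ∨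
    ∃ g : SL, u * g * u⁻¹ * g⁻¹ * (u * g * u⁻¹ * g⁻¹) = -1 := by
  decide +kernel

set_option synthInstance.maxSize 2000 in
set_option synthInstance.maxHeartbeats 200000 in
theorem gl_trans_entries : ∀ a b c d : ZMod 3, (a ≠ 0 ∨ b ≠ 0) → (c ≠ 0 ∨ d ≠ 0) →
    ∃ p q r s : ZMod 3, p * s - q * r ≠ 0 ∧ p * a + q * b = c ∧ r * a + s * b = d := by
  decide +kernel

theorem gl_trans (u v : Fin 2 → ZMod 3) (hu : u ≠ 0) (hv : v ≠ 0) :
    ∃ M : Matrix (Fin 2) (Fin 2) (ZMod 3), M.det ≠ 0 ∧ M.mulVec u = v := by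
  have nz : ∀ w : Fin 2 → ZMod 3, w ≠ 0 → w 0 ≠ 0 ∨ w 1 ≠ 0 := fun w hw => by
    by_contra h
    push Not at h
    exact hw (funext fun i => by fin_cases i <;> simp [h.1, h.2])
  obtain ⟨p, q, r, s, h1, h2, h3⟩ := gl_trans_entries _ _ _ _ (nz u hu) (nz v hv)
  refine ⟨!![p, q; r, s], by rwa [Matrix.det_fin_two_of], funext fun i => ?_⟩
  fin_cases i <;> simp [Matrix.mulVec, dotProduct, Fin.sum_univ_two, h2, h3]

theorem gl_card : Nat.card (GL (Fin 2) (ZMod 3)) = 48 := by
  rw [Matrix.card_GL_field]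
  simp [Fin.prod_univ_two, ZMod.card]

variable {G : Type u} [Group G]

theorem cj_def (g x : G) : cj g x = g * x * g⁻¹ := rfl

theorem cj_eq_conj (g x : G) : cj g x = MulAut.conj g x := rfl

theorem cj_mul_left (g h x : G) : cj (g * h) x = cj g (cj h x) := by simp only [cj]; group

theorem cj_hom (g x y : G) : cj g (x * y) = cj g x * cj g y := by simp only [cj]; group

theorem cj_inv (g x : G) : cj g x⁻¹ = (cj g x)⁻¹ := by simp only [cj]; group

theorem cj_eq_self_iff {g x : G} : cj g x = x ↔ Commute g x := by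
  rw [cj, mul_inv_eq_iff_eq_mul]; rfl

theorem mem_cent {g : G} {s : Set G} : g ∈ centralizer s ↔ ∀ h ∈ s, Commute h g :=
  mem_centralizer_iff

theorem mem_cent_single {g a : G} : g ∈ centralizer ({a} : Set G) ↔ Commute g a :=
  mem_centralizer_singleton_iff

theorem mem_cent_pair {g a b : G} :
    g ∈ centralizer ({a, b} : Set G) ↔ Commute g a ∧ Commute g b := by
  simp only [mem_cent, Set.mem_insert_iff, Set.mem_singleton_iff, forall_eq_or_imp, forall_eq]
  exact ⟨fun h => ⟨h.1.symm, h.2.symm⟩, fun h => ⟨h.1.symm, h.2.symm⟩⟩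

theorem mem_cent_insert {g b : G} {P : Subgroup G} :
    g ∈ centralizer (insert b (P : Set G)) ↔ Commute g b ∧ ∀ p ∈ P, Commute g p := by
  simp only [mem_cent, Set.mem_insert_iff, forall_eq_or_imp, SetLike.mem_coe]
  exact ⟨fun h => ⟨h.1.symm, fun p hp => (h.2 p hp).symm⟩,
    fun h => ⟨h.1.symm, fun p hp => (h.2 p hp).symm⟩⟩

theorem cent_insert_closure (b : G) (s : Set G) :
    centralizer (insert b ((closure s : Subgroup G) : Set G)) = centralizer (insert b s) := by
  refine le_antisymm (centralizer_le (Set.insert_subset_insert subset_closure)) fun g hg => ?_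
  rw [mem_cent] at hg
  rw [mem_cent_insert]
  refine ⟨(hg b (Set.mem_insert _ _)).symm, fun p hp => ?_⟩
  have : p ∈ centralizer ({g} : Set G) := by
    refine (closure_le _).2 (fun q hq => ?_) hp
    exact mem_cent_single.2 (hg q (Set.mem_insert_of_mem _ hq))
  exact (mem_cent_single.1 this).symm

theorem cent_zpowers (x : G) :
    centralizer ((zpowers x : Subgroup G) : Set G) = centralizer ({x} : Set G) := by
  rw [zpowers_eq_closure, centralizer_closure]

theorem zpowers_eq_of_mem {x y : G} (hx : orderOf x = 3) (hy : y ∈ zpowers x) (h1 : y ≠ 1) :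
    zpowers y = zpowers x := by
  haveI : Fact (Nat.Prime 3) := ⟨Nat.prime_three⟩
  obtain ⟨i, rfl⟩ := hy
  have hfin : IsOfFinOrder x := orderOf_pos_iff.1 (by rw [hx]; norm_num)
  haveI : Finite (zpowers x) := hfin.finite_zpowers
  refine Subgroup.eq_of_le_of_card_ge (zpowers_le.2 ⟨i, rfl⟩) ?_
  rw [Nat.card_zpowers, Nat.card_zpowers, hx]
  have : orderOf (x ^ i) = 3 := orderOf_eq_prime (by rw [← zpow_natCast, ← zpow_mul, mul_comm,
    zpow_mul, zpow_natCast, ← hx, pow_orderOf_eq_one, one_zpow]) h1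
  exact this.ge

theorem mem_zpowers_three {x y : G} (hx : x ^ 3 = 1) (hy : y ∈ zpowers x) :
    y = 1 ∨ y = x ∨ y = x⁻¹ := by
  obtain ⟨i, rfl⟩ := hy
  show x ^ i = 1 ∨ x ^ i = x ∨ x ^ i = x⁻¹
  have h3 : x ^ (3 : ℤ) = 1 := by exact_mod_cast hx
  have e : x ^ i = x ^ (i % 3) := by
    conv_lhs => rw [← Int.mul_ediv_add_emod i 3]
    rw [zpow_add, zpow_mul, h3, one_zpow, one_mul]
  rcases (by omega : i % 3 = 0 ∨ i % 3 = 1 ∨ i % 3 = 2) with h | h | h <;> rw [e, h]
  · exact Or.inl (zpow_zero x)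
  · exact Or.inr (Or.inl (zpow_one x))
  · refine Or.inr (Or.inr (eq_inv_of_mul_eq_one_left ?_))
    rw [← zpow_add_one]; exact h3

variable [Finite G]

/-- A group of order `9`: any two elements commute. -/
theorem commute_of_card_nine {A : Subgroup G} (hA : Nat.card A = 9) {a b : G} (ha : a ∈ A)
    (hb : b ∈ A) : Commute a b := by
  haveI : Fact (Nat.Prime 3) := ⟨Nat.prime_three⟩
  have h := IsPGroup.isMulCommutative_of_card_eq_prime_sq (p := 3) (G := A) (by rw [hA]; norm_num)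
  exact congrArg Subtype.val (h.is_comm.comm ⟨a, ha⟩ ⟨b, hb⟩)

/-- In a subgroup of order six, the elements of order three generate the same subgroup. -/
theorem six_unique {C : Subgroup G} (hC : Nat.card C = 6) {u v : G} (hu : u ∈ C) (hv : v ∈ C)
    (ou : orderOf u = 3) (ov : orderOf v = 3) : v = u ∨ v = u⁻¹ := by
  have hu3 : u ^ 3 = 1 := by rw [← ou, pow_orderOf_eq_one]
  have hv1 : v ≠ 1 := fun h => by rw [h, orderOf_one] at ov; omega
  by_cases hmem : v ∈ zpowers u
  · exact (mem_zpowers_three hu3 hmem).resolve_left hv1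
  exfalso
  have hle : ∀ {x : G}, x ∈ C → zpowers x ≤ C := fun h => zpowers_le.2 h
  have hdisj : zpowers u ⊓ zpowers v = ⊥ := by
    rw [Subgroup.eq_bot_iff_forall]
    intro x hx
    by_contra hx1
    have h1 := zpowers_eq_of_mem ou hx.1 hx1
    have h2 := zpowers_eq_of_mem ov hx.2 hx1
    exact hmem (h1 ▸ h2 ▸ mem_zpowers v)
  have hinj : Function.Injective fun q : zpowers u × zpowers v =>
      (⟨(q.1 : G) * q.2, mul_mem (hle hu q.1.2) (hle hv q.2.2)⟩ : C) := by
    rintro ⟨a, b⟩ ⟨a', b'⟩ e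
    have e' : (a : G) * b = a' * b' := congrArg Subtype.val e
    have : (a' : G)⁻¹ * a ∈ zpowers u ⊓ zpowers v := by
      refine ⟨(zpowers u).mul_mem ((zpowers u).inv_mem a'.2) a.2, ?_⟩
      have : (a' : G)⁻¹ * a = b' * (b : G)⁻¹ := by
        rw [eq_mul_inv_iff_mul_eq, mul_assoc, e', inv_mul_cancel_left]
      rw [this]; exact (zpowers v).mul_mem b'.2 ((zpowers v).inv_mem b.2)
    rw [hdisj, mem_bot, inv_mul_eq_one] at this
    have ha : a = a' := Subtype.ext this.symm
    subst ha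
    exact Prod.ext rfl (Subtype.ext (mul_left_cancel e'))
  have := Nat.card_le_card_of_injective _ hinj
  rw [Nat.card_prod, Nat.card_zpowers, Nat.card_zpowers, ou, ov, hC] at this
  omega

theorem exists_order_three_of_six {C : Subgroup G} (hC : Nat.card C = 6) :
    ∃ u ∈ C, orderOf u = 3 := by
  haveI : Fact (Nat.Prime 3) := ⟨Nat.prime_three⟩
  obtain ⟨⟨u, hu⟩, ho⟩ := exists_prime_orderOf_dvd_card' (G := C) 3 (by rw [hC]; norm_num)
  exact ⟨u, hu, by rwa [Subgroup.orderOf_mk] at ho⟩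

/-- An element of order dividing two and three is trivial; in a group of order eight so is an
element with trivial cube. -/
theorem eq_one_of_pow_three {C : Subgroup G} (hC : Nat.card C = 8) {u : G} (hu : u ∈ C)
    (h3 : u ^ 3 = 1) : u = 1 := by
  have h8 := Subgroup.orderOf_dvd_natCard C hu
  rw [hC] at h8
  have := Nat.dvd_gcd h8 (orderOf_dvd_of_pow_eq_one h3)
  norm_num at this
  exact this

/-- An automorphism of order dividing three of a section of order three is trivial. -/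
theorem section_three {M M₀ : Subgroup G} {u m : G} (hcard : Nat.card M = 3 * Nat.card M₀)
    (hle : M₀ ≤ M) (hnM₀ : ∀ x ∈ M₀, cj u x ∈ M₀) (hnM : ∀ x ∈ M, cj u x ∈ M)
    (hM₀M : ∀ x ∈ M, ∀ y ∈ M₀, cj x y ∈ M₀)
    (hu : u ^ 3 = 1) (hm : m ∈ M) : cj u m * m⁻¹ ∈ M₀ := by
  haveI hN : (M₀.subgroupOf M).Normal :=
    ⟨fun n hn g => by
      rw [Subgroup.mem_subgroupOf] at hn ⊢
      exact hM₀M g g.2 n hn⟩
  have hidx : Nat.card (M ⧸ M₀.subgroupOf M) = 3 := by
    have := (M₀.subgroupOf M).card_mul_index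
    rw [Nat.card_congr (Subgroup.subgroupOfEquivOfLe hle).toEquiv, hcard] at this
    rw [← Subgroup.index_eq_card]
    exact Nat.eq_of_mul_eq_mul_left Nat.card_pos (this.trans (Nat.mul_comm _ _))
  let π := QuotientGroup.mk' (M₀.subgroupOf M)
  let c : M → M := fun x => ⟨cj u x, hnM x x.2⟩
  have hker : ∀ x : M, π x = 1 ↔ (x : G) ∈ M₀ := fun x => by
    rw [← MonoidHom.mem_ker, QuotientGroup.ker_mk', Subgroup.mem_subgroupOf]
  have hc : ∀ x y : M, c (x * y) = c x * c y := fun x y => Subtype.ext (cj_hom u x y)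
  have hck : ∀ x : M, π x = 1 → π (c x) = 1 := fun x hx => (hker _).2 (hnM₀ _ ((hker x).1 hx))
  have hccong : ∀ x y : M, π x = π y → π (c x) = π (c y) := by
    intro x y h
    have h' : π (x * y⁻¹) = 1 := by rw [map_mul, map_inv, h, mul_inv_cancel]
    have := hck _ h'
    rw [hc, map_mul, mul_eq_one_iff_eq_inv] at this
    rw [this, ← map_inv]
    congr 1
    refine inv_eq_of_mul_eq_one_right ?_
    apply Subtype.ext
    show cj u (y⁻¹ : M) * cj u y = 1
    rw [← cj_hom]; simp [cj]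
  have hc3 : ∀ x : M, c (c (c x)) = x := fun x => Subtype.ext (by
    show cj u (cj u (cj u x)) = x
    rw [← cj_mul_left, ← cj_mul_left, show u * u * u = 1 by rw [← hu, pow_succ, pow_two]]; simp [cj])
  set y : M := ⟨m, hm⟩
  suffices h : π (c y) = π y by
    have h' : π (c y * y⁻¹) = 1 := by rw [map_mul, map_inv, h, mul_inv_cancel]
    exact (hker _).1 h'
  by_cases hy : π y = 1
  · rw [hy, hck y hy]
  haveI : Fact (Nat.Prime 3) := ⟨Nat.prime_three⟩
  have ho : orderOf (π y) = 3 := by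
    refine orderOf_eq_prime ?_ hy
    rw [← hidx]; exact pow_card_eq_one'
  have hgen : zpowers (π y) = ⊤ := by
    refine Subgroup.eq_top_of_card_eq _ ?_
    rw [Nat.card_zpowers, ho, hidx]
  have hcases : π (c y) = 1 ∨ π (c y) = π y ∨ π (c y) = (π y)⁻¹ :=
    mem_zpowers_three (by rw [← ho, pow_orderOf_eq_one]) (hgen ▸ mem_top _)
  rcases hcases with h | h | h
  · exfalso
    have := hck _ (hck _ h)
    rw [hc3] at this
    exact hy this
  · exact h
  · exfalso
    rw [← map_inv] at h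
    have h2 := hccong _ _ h
    have hcinv : c y⁻¹ = (c y)⁻¹ := Subtype.ext (cj_inv u y)
    rw [hcinv, map_inv, h, map_inv, inv_inv] at h2
    have h3 := hccong _ _ h2
    rw [hc3] at h3
    -- `π y = π (c y) = (π y)⁻¹`
    rw [h, map_inv] at h3
    have : (π y) ^ 2 = 1 := by rw [sq]; exact mul_eq_one_iff_eq_inv.2 h3
    have hd := orderOf_dvd_of_pow_eq_one this
    rw [ho] at hd
    omega

end CfsgLib.G2TwoLocal.Mixed
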