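import Cfsg.Agent.Lib.G2TwoLocal.Defs
import Cfsg.Agent.Lib.G2TwoLocal.Main

/-!
# `G₂(3)` from 2-local data: moving setups around

Small pairs of involutions, the Sylow subgroups attached to them, classes and patterns.
-/

set_option autoImplicit false
set_option linter.style.haveILetI false
set_option linter.unusedSectionVars false

namespace CfsgLib.G2TwoLocal

open Cfsg Subgroup
open CfsgLib.G2Three (cj)
open scoped Pointwise

universe u

variable {G : Type u} [Group G]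

theorem cj_eq (g x : G) : cj g x = MulAut.conj g x := rfl

theorem cj_hom (g x y : G) : cj g (x * y) = cj g x * cj g y := by simp only [cj]; group

theorem cj_inv' (g x : G) : cj g x⁻¹ = (cj g x)⁻¹ := by simp only [cj]; group

theorem cj_cj (g h x : G) : cj g (cj h x) = cj (g * h) x := by simp only [cj]; group

theorem cj_eq_self {g x : G} : cj g x = x ↔ g * x = x * g := by
  rw [cj, mul_inv_eq_iff_eq_mul]

theorem isConj_cj (g x : G) : IsConj x (cj g x) := isConj_iff.2 ⟨g, rfl⟩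

theorem map_centralizer (g : G) (s : Set G) :
    (centralizer s).map (MulAut.conj g).toMonoidHom = centralizer ((fun x => cj g x) '' s) := by
  ext y
  constructor
  · rintro ⟨x, hx, rfl⟩
    rw [mem_centralizer_iff]
    rintro _ ⟨w, hw, rfl⟩
    show cj g w * cj g x = cj g x * cj g w
    rw [← cj_hom, ← cj_hom, mem_centralizer_iff.1 hx w hw]
  · intro hy
    refine ⟨cj g⁻¹ y, mem_centralizer_iff.2 fun w hw => ?_, ?_⟩
    · have h := mem_centralizer_iff.1 hy (cj g w) ⟨w, hw, rfl⟩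
      have h' := congrArg (cj g⁻¹) h
      rw [cj_hom, cj_hom, cj_cj, inv_mul_cancel] at h'
      simpa [cj] using h'
    · show cj g (cj g⁻¹ y) = y
      rw [cj_cj, mul_inv_cancel]; simp [cj]

theorem card_centralizer_cj [Finite G] (g : G) (s : Set G) :
    Nat.card (centralizer ((fun x => cj g x) '' s)) = Nat.card (centralizer s) := by
  rw [← map_centralizer, card_map_of_injective (MulAut.conj g).injective]

/-- An involution pair with common centraliser of order eight. -/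
structure Small (a b : G) : Prop where
  order_a : orderOf a = 2
  order_b : orderOf b = 2
  comm : Commute a b
  card : Nat.card (centralizer ({a, b} : Set G)) = 8

theorem sq_of_order {a : G} (h : orderOf a = 2) : a * a = 1 := by
  rw [← sq, ← h, pow_orderOf_eq_one]

theorem eq_one_of_odd {a : G} (h : orderOf a ∣ 2) (ho : Odd (orderOf a)) : a = 1 := by
  rcases (Nat.dvd_prime Nat.prime_two).1 h with h | h
  · exact orderOf_eq_one_iff.1 h
  · rw [h] at ho; exact absurd ho (by decide)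

theorem odd_of_cube {q : G} (h : q ^ 3 = 1) : Odd (orderOf q) := by
  rcases (Nat.dvd_prime Nat.prime_three).1 (orderOf_dvd_of_pow_eq_one h) with h | h <;> rw [h]
  · exact odd_one
  · exact ⟨1, rfl⟩

theorem Small.symm {a b : G} (h : Small a b) : Small b a :=
  ⟨h.order_b, h.order_a, h.comm.symm, by rw [Set.pair_comm]; exact h.card⟩

theorem centralizer_mul_right {a b : G} (ha : a * a = 1) :
    centralizer ({a, a * b} : Set G) = centralizer ({a, b} : Set G) := by
  have key : ∀ b : G, centralizer ({a, b} : Set G) ≤ centralizer ({a, a * b} : Set G) := by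
    intro b g hg
    simp only [mem_centralizer_iff, Set.mem_insert_iff, Set.mem_singleton_iff, forall_eq_or_imp,
      forall_eq] at hg ⊢
    exact ⟨hg.1, by rw [mul_assoc, hg.2, ← mul_assoc, hg.1, mul_assoc]⟩
  refine le_antisymm ?_ (key b)
  have h := key (a * b)
  rwa [← mul_assoc, ha, one_mul] at h

section Finite

variable [Finite G] {H H₁ H₂ : Subgroup G} {z t x₁ x₂ : G}

theorem Setup.small_zt (S : Setup H H₁ H₂ z t x₁ x₂) : Small z t :=
  ⟨S.order_z, S.order_t, (S.comm_z S.mem_t).symm, S.small⟩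

theorem Small.ne {a b : G} (h : Small a b) (S : Setup H H₁ H₂ z t x₁ x₂) : a ≠ b := by
  rintro rfl
  obtain ⟨g, hg⟩ := isConj_iff.1 (S.invol a h.order_a)
  have hc := h.card
  rw [Set.pair_eq_singleton, show ({a} : Set G) = (fun x => cj g x) '' {z} by
    rw [Set.image_singleton]; exact congrArg _ hg.symm, card_centralizer_cj, S.cent_z, S.card_H] at hc
  norm_num at hc

theorem Small.prod {a b : G} (h : Small a b) (S : Setup H H₁ H₂ z t x₁ x₂) : Small a (a * b) := by
  have ha := sq_of_order h.order_a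
  refine ⟨h.order_a, ?_, (Commute.refl a).mul_right h.comm, by rw [centralizer_mul_right ha]; exact h.card⟩
  rw [orderOf_eq_prime_iff]
  refine ⟨by rw [sq, ← sq, h.comm.mul_pow, sq, sq, ha, sq_of_order h.order_b, mul_one], fun e => h.ne S ?_⟩
  calc a = a * (a * b) := by rw [e, mul_one]
    _ = b := by rw [← mul_assoc, ha, one_mul]

/-- An element of odd order centralising a small pair is trivial. -/
theorem Small.eq_one {a b g : G} (h : Small a b) (ha : Commute g a) (hb : Commute g b)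
    (ho : Odd (orderOf g)) : g = 1 := by
  have hg : g ∈ centralizer ({a, b} : Set G) := mem_centralizer_iff.2 (by
    rintro x (rfl | rfl)
    exacts [ha.symm, hb.symm])
  have h8 : orderOf g ∣ 2 ^ 3 := by
    have := orderOf_dvd_natCard (⟨g, hg⟩ : centralizer ({a, b} : Set G))
    rw [h.card, orderOf_mk] at this
    exact this
  rw [← orderOf_eq_one_iff]
  exact (Nat.Coprime.pow_right 3 (Nat.coprime_two_right.2 ho)).eq_one_of_dvd h8

/-- A subgroup of odd order centralised by one involution of a small pair and normalised by the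
other is inverted by the latter. -/
theorem Small.inverted {a b : G} (h : Small a b) {Q : Subgroup G} (hodd : Odd (Nat.card Q))
    (hb : ∀ q ∈ Q, Commute q b) (ha : ∀ q ∈ Q, cj a q ∈ Q) {q : G} (hq : q ∈ Q) :
    cj a q = q⁻¹ := by
  let φ : Q →* Q :=
    { toFun := fun p => ⟨cj a p, ha p p.2⟩
      map_one' := Subtype.ext (by simp [cj])
      map_mul' := fun p r => Subtype.ext (cj_hom a p r) }
  have hfix : MonoidHom.FixedPointFree φ := by
    intro p hp
    have hp' : cj a (p : G) = p := congrArg Subtype.val hp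
    exact Subtype.ext (h.eq_one (cj_eq_self.1 hp').symm (hb p p.2) (by
      rw [orderOf_coe]
      exact hodd.of_dvd_nat (orderOf_dvd_natCard p)))
  have hinv : Function.Involutive φ := fun p => Subtype.ext (by
    show cj a (cj a p) = p
    rw [cj_cj, sq_of_order h.order_a]; simp [cj])
  exact congrArg Subtype.val (congrFun (hfix.coe_eq_inv_of_involutive hinv) ⟨q, hq⟩)

/-- An element of odd order of an extension of `O` by an involution lies in `O`. -/
theorem mem_of_odd {O : Subgroup G} {s g : G} (hs : s * s = 1) (hn : s ∈ normalizer (O : Set G))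
    (hg : g ∈ O ⊔ zpowers s) (ho : Odd (orderOf g)) : g ∈ O := by
  have hle : zpowers s ≤ normalizer (O : Set G) := zpowers_le.2 hn
  obtain ⟨o, hoO, w, hw, rfl⟩ := Set.mem_mul.1
    (show g ∈ (O : Set G) * (zpowers s : Set G) by
      rw [← coe_mul_of_right_le_normalizer_left O (zpowers s) hle]; exact hg)
  obtain ⟨n, rfl⟩ := mem_zpowers_iff.1 (SetLike.mem_coe.1 hw)
  have hsq : (o * s ^ n) * (o * s ^ n) ∈ O := by
    have h1 : s ^ n * o * (s ^ n)⁻¹ ∈ O := (mem_normalizer_iff.1 (zpow_mem hn n) o).1 hoO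
    have h2 : s ^ n * s ^ n = 1 := by
      rw [← (Commute.refl s).mul_zpow, hs, one_zpow]
    have : o * s ^ n * (o * s ^ n) = o * (s ^ n * o * (s ^ n)⁻¹) * (s ^ n * s ^ n) := by group
    rw [this, h2, mul_one]
    exact mul_mem hoO h1
  obtain ⟨m, hm⟩ := ho
  have hpow : ((o * s ^ n) * (o * s ^ n)) ^ (m + 1) = o * s ^ n := by
    rw [← sq, ← pow_mul, show 2 * (m + 1) = orderOf (o * s ^ n) + 1 by omega, pow_succ,
      pow_orderOf_eq_one, one_mul]
  exact hpow ▸ pow_mem hsq _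

namespace Setup

variable (S : Setup H H₁ H₂ z t x₁ x₂)
include S

theorem cube₁ : x₁ ^ 3 = 1 := S.order₁ ▸ pow_orderOf_eq_one x₁
theorem cube₂ : x₂ ^ 3 = 1 := S.order₂ ▸ pow_orderOf_eq_one x₂
theorem ne₁ : x₁ ≠ 1 := by
  intro h
  have := S.order₁
  rw [h, orderOf_one] at this
  norm_num at this
theorem ne₂ : x₂ ≠ 1 := by
  intro h
  have := S.order₂
  rw [h, orderOf_one] at this
  norm_num at this
theorem commute₁₂ : Commute x₁ x₂ := S.comm _ S.mem₁ _ S.mem₂

theorem mem_P₀_fin {p : G} : p ∈ P₀ x₁ x₂ ↔ ∃ i j : ℕ, i < 3 ∧ j < 3 ∧ p = x₁ ^ i * x₂ ^ j := by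
  constructor
  · intro hp
    induction hp using closure_induction with
    | mem x hx =>
      rcases hx with rfl | rfl
      · exact ⟨1, 0, by norm_num, by norm_num, by simp⟩
      · exact ⟨0, 1, by norm_num, by norm_num, by simp⟩
    | one => exact ⟨0, 0, by norm_num, by norm_num, by simp⟩
    | mul a b _ _ ha hb =>
      obtain ⟨i, j, -, -, rfl⟩ := ha
      obtain ⟨k, l, -, -, rfl⟩ := hb
      refine ⟨(i + k) % 3, (j + l) % 3, Nat.mod_lt _ (by norm_num), Nat.mod_lt _ (by norm_num), ?_⟩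
      rw [← pow_eq_pow_mod _ S.cube₁, ← pow_eq_pow_mod _ S.cube₂, pow_add, pow_add]
      exact ((S.commute₁₂.pow_pow k j).symm).mul_mul_mul_comm _ _
    | inv a _ ha =>
      obtain ⟨i, j, -, -, rfl⟩ := ha
      refine ⟨2 * i % 3, 2 * j % 3, Nat.mod_lt _ (by norm_num), Nat.mod_lt _ (by norm_num), ?_⟩
      rw [← pow_eq_pow_mod _ S.cube₁, ← pow_eq_pow_mod _ S.cube₂, mul_inv_rev,
        (S.commute₁₂.pow_pow i j).inv_inv.symm.eq]
      congr 1 <;> exact inv_eq_of_mul_eq_one_right (by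
        rw [← pow_add, show ∀ n : ℕ, n + 2 * n = 3 * n by omega, pow_mul]
        first | rw [S.cube₁, one_pow] | rw [S.cube₂, one_pow])
  · rintro ⟨i, j, -, -, rfl⟩
    exact mul_mem (pow_mem (show x₁ ∈ P₀ x₁ x₂ from Subgroup.subset_closure (Or.inl rfl)) _)
      (pow_mem (show x₂ ∈ P₀ x₁ x₂ from Subgroup.subset_closure (Or.inr rfl)) _)

theorem P₀_commute {p q : G} (hp : p ∈ P₀ x₁ x₂) (hq : q ∈ P₀ x₁ x₂) : Commute p q := by
  obtain ⟨i, j, -, -, rfl⟩ := S.mem_P₀_fin.1 hp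
  obtain ⟨k, l, -, -, rfl⟩ := S.mem_P₀_fin.1 hq
  exact (((Commute.refl x₁).pow_pow i k).mul_right (S.commute₁₂.pow_pow i l)).mul_left
    ((S.commute₁₂.symm.pow_pow j k).mul_right ((Commute.refl x₂).pow_pow j l))

theorem P₀_pow_three {p : G} (hp : p ∈ P₀ x₁ x₂) : p ^ 3 = 1 := by
  obtain ⟨i, j, -, -, rfl⟩ := S.mem_P₀_fin.1 hp
  rw [(S.commute₁₂.pow_pow i j).mul_pow, ← pow_mul, ← pow_mul, mul_comm i, mul_comm j, pow_mul,
    pow_mul, S.cube₁, S.cube₂, one_pow, one_pow, one_mul]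

theorem card_P₀ : Nat.card (P₀ x₁ x₂) = 9 := by
  have key : Function.Injective fun p : Fin 3 × Fin 3 =>
      (⟨x₁ ^ (p.1 : ℕ) * x₂ ^ (p.2 : ℕ), S.mem_P₀_fin.2 ⟨p.1, p.2, p.1.2, p.2.2, rfl⟩⟩ : P₀ x₁ x₂) := by
    rintro ⟨i, j⟩ ⟨k, l⟩ he
    have he' : x₁ ^ (i : ℕ) * x₂ ^ (j : ℕ) = x₁ ^ (k : ℕ) * x₂ ^ (l : ℕ) := congrArg Subtype.val he
    have hd : (x₁ ^ (k : ℕ))⁻¹ * x₁ ^ (i : ℕ) = x₂ ^ (l : ℕ) * (x₂ ^ (j : ℕ))⁻¹ := by
      rw [eq_mul_inv_iff_mul_eq, mul_assoc, he', inv_mul_cancel_left]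
    have hz : (x₁ ^ (k : ℕ))⁻¹ * x₁ ^ (i : ℕ) ∈ H₁ ⊓ H₂ :=
      Subgroup.mem_inf.2 ⟨mul_mem (inv_mem (pow_mem S.mem₁ _)) (pow_mem S.mem₁ _), by
        rw [hd]; exact mul_mem (pow_mem S.mem₂ _) (inv_mem (pow_mem S.mem₂ _))⟩
    rw [S.inter] at hz
    have h1 : (x₁ ^ (k : ℕ))⁻¹ * x₁ ^ (i : ℕ) = 1 := by
      refine eq_one_of_odd ?_ (odd_of_cube ?_)
      · have := orderOf_dvd_natCard (⟨_, hz⟩ : zpowers z)
        rwa [Nat.card_zpowers, S.order_z, orderOf_mk] at this
      · rw [← zpow_natCast x₁ (k : ℕ), ← zpow_natCast x₁ (i : ℕ), ← zpow_neg, ← zpow_add,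
          ← zpow_natCast _ 3, ← zpow_mul, mul_comm, zpow_mul, zpow_natCast, S.cube₁, one_zpow]
    have h2 : x₂ ^ (l : ℕ) * (x₂ ^ (j : ℕ))⁻¹ = 1 := hd ▸ h1
    have e1 : x₁ ^ (i : ℕ) = x₁ ^ (k : ℕ) := (inv_mul_eq_one.1 h1).symm
    have e2 : x₂ ^ (j : ℕ) = x₂ ^ (l : ℕ) := (mul_inv_eq_one.1 h2).symm
    have f1 := pow_injOn_Iio_orderOf (x := x₁) (by simpa [S.order₁] using i.2)
      (by simpa [S.order₁] using k.2) e1
    have f2 := pow_injOn_Iio_orderOf (x := x₂) (by simpa [S.order₂] using j.2)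
      (by simpa [S.order₂] using l.2) e2
    exact Prod.ext (Fin.ext f1) (Fin.ext f2)
  have hsurj : Function.Surjective fun p : Fin 3 × Fin 3 =>
      (⟨x₁ ^ (p.1 : ℕ) * x₂ ^ (p.2 : ℕ), S.mem_P₀_fin.2 ⟨p.1, p.2, p.1.2, p.2.2, rfl⟩⟩ : P₀ x₁ x₂) := by
    rintro ⟨p, hp⟩
    obtain ⟨i, j, hi, hj, rfl⟩ := S.mem_P₀_fin.1 hp
    exact ⟨(⟨i, hi⟩, ⟨j, hj⟩), rfl⟩
  rw [← Nat.card_congr (Equiv.ofBijective _ ⟨key, hsurj⟩), Nat.card_prod, Nat.card_fin]

theorem P₀_le_centz : P₀ x₁ x₂ ≤ centralizer ({z} : Set G) := by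
  rw [S.cent_z, P₀, closure_le]
  rintro p (rfl | rfl)
  exacts [S.le₁ S.mem₁, S.le₂ S.mem₂]

theorem P₀_commute_z {p : G} (hp : p ∈ P₀ x₁ x₂) : Commute p z :=
  mem_centralizer_singleton_iff.1 (S.P₀_le_centz hp)

theorem P₀_inv {p : G} (hp : p ∈ P₀ x₁ x₂) : cj t p = p⁻¹ := by
  obtain ⟨i, j, -, -, rfl⟩ := S.mem_P₀_fin.1 hp
  rw [cj_hom, cj_eq, cj_eq, map_pow, map_pow, ← cj_eq, ← cj_eq, S.inv₁, S.inv₂, inv_pow, inv_pow,
    mul_inv_rev, (S.commute₁₂.pow_pow i j).inv_inv.eq]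

theorem cent3_eq (b : G) : centralizer ({x₁, x₂, b} : Set G) =
    centralizer (P₀ x₁ x₂ : Set G) ⊓ centralizer ({b} : Set G) := by
  rw [P₀, centralizer_closure]
  ext g
  simp [mem_centralizer_iff, Subgroup.mem_inf]
  tauto

/-- The image of a setup. -/
theorem map (g : G) : Setup (H.map (MulAut.conj g).toMonoidHom) (H₁.map (MulAut.conj g).toMonoidHom)
    (H₂.map (MulAut.conj g).toMonoidHom) (cj g z) (cj g t) (cj g x₁) (cj g x₂) := by
  set φ := (MulAut.conj g).toMonoidHom with hφ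
  have hφi : Function.Injective φ := (MulAut.conj g).injective
  have hord : ∀ x : G, orderOf (cj g x) = orderOf x := fun x => orderOf_injective φ hφi x
  have hcard : Nat.card (centralizer ({cj g z, cj g t} : Set G)) = 8 := by
    rw [show ({cj g z, cj g t} : Set G) = (fun x => cj g x) '' {z, t} by rw [Set.image_pair],
      card_centralizer_cj, S.small]
  have hnorm : ∀ K : Subgroup G, H ≤ normalizer (K : Set G) →
      H.map φ ≤ normalizer ((K.map φ : Subgroup G) : Set G) := by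
    intro K hK
    refine (map_mono hK).trans ?_
    exact le_normalizer_map φ
  refine ⟨?_, (hord z).trans S.order_z, ?_, map_mono S.le₁, map_mono S.le₂, hnorm _ S.norm₁,
    hnorm _ S.norm₂, ?_, ?_, ?_, ?_, ?_, mem_map_of_mem φ S.mem₁, mem_map_of_mem φ S.mem₂,
    (hord _).trans S.order₁, (hord _).trans S.order₂, mem_map_of_mem φ S.mem_t,
    (hord t).trans S.order_t, ?_, ?_, ?_, hcard, ?_, ?_, ?_, S.two_part, S.seven⟩
  · rw [← S.cent_z, map_centralizer, Set.image_singleton]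
  · rw [card_map_of_injective hφi, S.card_H]
  · obtain ⟨e⟩ := S.iso₁; exact ⟨(H₁.equivMapOfInjective φ hφi).symm.trans e⟩
  · obtain ⟨e⟩ := S.iso₂; exact ⟨(H₂.equivMapOfInjective φ hφi).symm.trans e⟩
  · rw [← map_inf _ _ φ hφi, S.inter, MonoidHom.map_zpowers]; rfl
  · rintro _ ⟨a, ha, rfl⟩ _ ⟨b, hb, rfl⟩
    exact (S.comm a ha b hb).map φ
  · rw [← Subgroup.map_sup, relIndex_map_map_of_injective _ _ hφi, S.index]
  · rw [← Subgroup.map_sup]
    exact fun h => S.outer_t ((mem_map_iff_mem hφi).1 h)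
  · show cj (cj g t) (cj g x₁) = (cj g x₁)⁻¹
    rw [← cj_inv', ← S.inv₁]; simp only [cj]; group
  · show cj (cj g t) (cj g x₂) = (cj g x₂)⁻¹
    rw [← cj_inv', ← S.inv₂]; simp only [cj]; group
  · rintro _ ⟨i, hi, rfl⟩ h2 h8
    rw [← Subgroup.map_sup]
    refine fun h => S.outer_of_small i hi ((hord i).symm.trans h2) ?_ ((mem_map_iff_mem hφi).1 h)
    rw [show ({cj g z, φ i} : Set G) = (fun x => cj g x) '' {z, i} by rw [Set.image_pair]; rfl,
      card_centralizer_cj] at h8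
    exact h8
  · rintro _ ⟨i, hi, rfl⟩ h2 ho
    rw [← Subgroup.map_sup] at ho
    obtain ⟨h, hh, he⟩ := S.outer_conj i hi ((hord i).symm.trans h2)
      (fun h => ho (mem_map_of_mem φ h))
    refine ⟨φ h, mem_map_of_mem φ hh, ?_⟩
    show cj (cj g h) (cj g t) = cj g i
    rw [← he]; simp only [cj]; group
  · exact fun i hi => (isConj_cj g z).symm.trans (S.invol i hi)

theorem map_P₀ (g : G) : (P₀ x₁ x₂).map (MulAut.conj g).toMonoidHom = P₀ (cj g x₁) (cj g x₂) := by
  rw [P₀, P₀, MonoidHom.map_closure, Set.image_pair]; rfl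

/-- Every small pair with an inverted Sylow subgroup carries a setup with the classes and the
pattern of the given one. -/
theorem transport (hV : StmtMove.{u}) {a b : G} {P : Subgroup G} (hab : Small a b)
    (hP : Nat.card P = 9) (hPa : ∀ p ∈ P, Commute p a) (hPb : ∀ p ∈ P, cj b p = p⁻¹) :
    ∃ (H' H₁' H₂' : Subgroup G) (y₁ y₂ : G), Setup H' H₁' H₂' a b y₁ y₂ ∧ P₀ y₁ y₂ = P ∧
      IsConj x₁ y₁ ∧ IsConj x₂ y₂ ∧
      ((Nat.card (centralizer ({y₁, y₂, b} : Set G)) = Nat.card (centralizer ({x₁, x₂, t} : Set G)) ∧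
        Nat.card (centralizer ({y₁, y₂, a * b} : Set G)) =
          Nat.card (centralizer ({x₁, x₂, z * t} : Set G))) ∨
      (Nat.card (centralizer ({y₁, y₂, b} : Set G)) =
          Nat.card (centralizer ({x₁, x₂, z * t} : Set G)) ∧
        Nat.card (centralizer ({y₁, y₂, a * b} : Set G)) =
          Nat.card (centralizer ({x₁, x₂, t} : Set G)))) := by
  obtain ⟨g, ga, gb, gP⟩ := hV G H H₁ H₂ z t x₁ x₂ S a b P hab.order_a hab.order_b hab.comm hab.card hP
    (fun p hp => mem_centralizer_singleton_iff.2 (hPa p hp)) hPb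
  rw [S.map_P₀] at gP
  have h3 : ∀ w : G, Nat.card (centralizer ({cj g x₁, cj g x₂, cj g w} : Set G)) =
      Nat.card (centralizer ({x₁, x₂, w} : Set G)) := fun w => by
    rw [← card_centralizer_cj g ({x₁, x₂, w} : Set G), Set.image_insert_eq, Set.image_pair]
  refine ⟨H.map (MulAut.conj g).toMonoidHom, H₁.map (MulAut.conj g).toMonoidHom,
    H₂.map (MulAut.conj g).toMonoidHom, cj g x₁, cj g x₂, ?_, gP, isConj_cj g x₁, isConj_cj g x₂, ?_⟩
  · rcases gb with gb | gb
    · rw [← ga, ← gb]; exact S.map g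
    · rw [← ga, show b = cj g z * cj g (t) by rw [ga, gb, ← mul_assoc, sq_of_order hab.order_a, one_mul]]
      exact (S.map g).swap
  · rcases gb with gb | gb
    · left
      rw [show b = cj g t from gb.symm, show a * cj g t = cj g (z * t) by rw [cj_hom, ga], h3, h3]
      exact ⟨rfl, rfl⟩
    · right
      have hb' : b = cj g (z * t) := by
        rw [cj_hom, ga, gb, ← mul_assoc, sq_of_order hab.order_a, one_mul]
      rw [show a * b = cj g t from gb.symm, hb', h3, h3]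
      exact ⟨rfl, rfl⟩

end Setup

namespace Core

variable {R₁ R₂ : Subgroup G} {k : ℕ}

/-- An element of odd order commuting with a diagonal element and with `z` lies in `P₀`. -/
theorem mem_P₀_of_diag (C : Core H H₁ H₂ z t x₁ x₂ R₁ R₂ k) (S : Setup H H₁ H₂ z t x₁ x₂) {y p : G}
    (hy : y ∈ P₀ x₁ x₂) (h1 : y ∉ zpowers x₁) (h2 : y ∉ zpowers x₂) (hpy : Commute p y)
    (hpz : Commute p z) (ho : Odd (orderOf p)) : p ∈ P₀ x₁ x₂ := by
  obtain ⟨O, -, -, hN, hC, hfix⟩ := C.diag y hy h1 h2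
  have hp : p ∈ O ⊔ zpowers z := hC ▸ mem_centralizer_singleton_iff.2 hpy
  have hz : z ∈ normalizer (O : Set G) :=
    hN (mem_centralizer_singleton_iff.2 (S.P₀_commute_z hy).symm)
  rw [← hfix]
  exact ⟨mem_of_odd (sq_of_order S.order_z) hz hp ho, mem_centralizer_singleton_iff.2 hpz⟩

/-- Two conjugates of `x₁` in one Sylow subgroup generate the same subgroup. -/
theorem unique_class (C : Core H H₁ H₂ z t x₁ x₂ R₁ R₂ k) {w x y : G} (hx : x ∈ P₀ x₁ x₂)
    (hy : y ∈ P₀ x₁ x₂) (h1 : IsConj w x) (h2 : IsConj w y) : y = x ∨ y = x⁻¹ :=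
  C.fusion x hx y hy (h1.symm.trans h2)

end Core

end Finite

end CfsgLib.G2TwoLocal
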