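import Cfsg.Agent.Lib.G2TwoLocal.MixedBase
import Cfsg.Agent.Lib.G2TwoLocal.Transport

/-!
# `G₂(3)` from 2-local data, the amalgam: the signalizer of one element of order three

A frame is one side `x` of a setup with the pattern `(6, 6)`; we determine the structure of `R`.
-/

set_option autoImplicit false
set_option linter.style.haveILetI false
set_option linter.unusedSectionVars false

namespace CfsgLib.G2TwoLocal.Mixed

open Cfsg Subgroup
open CfsgLib.G2Three (cj)

universe u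

variable {G : Type u} [Group G] [Finite G]

/-- What is known about every small pair with an inverted Sylow subgroup. -/
def Pat (G : Type u) [Group G] : Prop :=
  ∀ (a b : G) (P : Subgroup G), Small a b → Nat.card P = 9 → (∀ p ∈ P, Commute p a) →
    (∀ p ∈ P, cj b p = p⁻¹) →
      Nat.card (centralizer (insert b (P : Set G))) = 6 ∧
      (∀ u v : G, orderOf u = 3 → orderOf v = 3 → u ∈ centralizer (insert b (P : Set G)) →
        v ∈ centralizer (insert (a * b) (P : Set G)) → Commute u v) ∧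
      ∀ p ∈ P, p ^ 3 = 1

/-- One side of a setup. -/
structure Frame (z t x y : G) (L R : Subgroup G) : Prop where
  side : Side z t x L R 2
  small : Small z t
  le_z : ∀ l ∈ L, Commute l z
  z_mem : z ∈ L
  iso : Nonempty (↥L ≃* SL)
  t_norm : t ∈ normalizer (L : Set G)
  y_mem : y ∈ L
  order_x : orderOf x = 3
  order_y : orderOf y = 3
  inv_x : cj t x = x⁻¹
  inv_y : cj t y = y⁻¹
  card_t : Nat.card (centralizer ({x, y, t} : Set G)) = 6
  card_zt : Nat.card (centralizer ({x, y, z * t} : Set G)) = 6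
  pat : Pat G

namespace Frame

variable {z t x y : G} {L R : Subgroup G}

/-- The part of `R` centralised by `t`. -/
def A (t : G) (R : Subgroup G) : Subgroup G := R ⊓ centralizer ({t} : Set G)

/-- The centre of `R`. -/
def Zr (R : Subgroup G) : Subgroup G := R ⊓ centralizer (R : Set G)

theorem mem_A {r : G} : r ∈ A t R ↔ r ∈ R ∧ Commute r t := by
  rw [A, Subgroup.mem_inf, mem_cent_single]

theorem mem_Zr {r : G} : r ∈ Zr R ↔ r ∈ R ∧ ∀ s ∈ R, Commute r s := by
  rw [Zr, Subgroup.mem_inf, mem_cent]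
  exact and_congr_right fun _ => ⟨fun h s hs => (h s hs).symm, fun h s hs => (h s hs).symm⟩

theorem swap (F : Frame z t x y L R) : Frame z (z * t) x y L R := by
  have hz := sq_of_order F.small.order_a
  have hzt : ∀ {w : G}, Commute w z → Commute (cj t w) z := fun {w} h => by
    have := (h.map (MulAut.conj t).toMonoidHom)
    simpa [cj, F.small.comm.symm.eq, mul_assoc] using this
  have hcj : ∀ w : G, Commute w z → cj (z * t) w = cj t w := fun w hw => by
    rw [← cj_cj, cj_eq_self]; exact (hzt hw).symm.eq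
  have hxz : Commute x z := by
    have : x ∈ R ⊓ centralizer ({z} : Set G) := F.side.fix_z.symm ▸ mem_zpowers x
    exact mem_cent_single.1 this.2
  have hsmall : Small z (z * t) := by
    refine ⟨F.small.order_a, ?_, (Commute.refl z).mul_right F.small.comm,
      by rw [centralizer_mul_right hz]; exact F.small.card⟩
    rw [orderOf_eq_prime_iff]
    refine ⟨by rw [F.small.comm.mul_pow, sq, sq, hz, sq_of_order F.small.order_b, mul_one], ?_⟩
    intro e
    have htz : t = z := by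
      calc t = z * (z * t) := by rw [← mul_assoc, hz, one_mul]
        _ = z := by rw [e, mul_one]
    have hl : cj t y = y := by rw [htz, cj_eq_self]; exact (F.le_z y F.y_mem).symm.eq
    rw [F.inv_y] at hl
    have h2 : y ^ 2 = 1 := by
      rw [sq]; nth_rw 1 [← hl]; rw [inv_mul_cancel]
    have := orderOf_dvd_of_pow_eq_one h2
    rw [F.order_y] at this
    omega
  have hzn : z ∈ normalizer (R : Set G) := F.side.normal (mem_cent_single.2 hxz.symm)
  exact
    { side :=
        { le := F.side.le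
          mem := F.side.mem
          card := F.side.card
          normal := F.side.normal
          norm_t := mul_mem hzn F.side.norm_t
          cent := F.side.cent
          fix_z := F.side.fix_z
          fix_t := F.side.fix_zt
          fix_zt := by rw [← mul_assoc, hz, one_mul]; exact F.side.fix_t
          comm := F.side.comm
          absorb := F.side.absorb }
      small := hsmall
      le_z := F.le_z
      z_mem := F.z_mem
      iso := F.iso
      t_norm := mul_mem (le_normalizer F.z_mem) F.t_norm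
      y_mem := F.y_mem
      order_x := F.order_x
      order_y := F.order_y
      inv_x := by rw [hcj x hxz]; exact F.inv_x
      inv_y := by rw [hcj y (F.le_z y F.y_mem)]; exact F.inv_y
      card_t := F.card_zt
      card_zt := by rw [← mul_assoc, hz, one_mul]; exact F.card_t
      pat := F.pat }

variable (F : Frame z t x y L R)
include F

theorem zz : z * z = 1 := sq_of_order F.small.order_a
theorem tt : t * t = 1 := sq_of_order F.small.order_b
theorem zzt : z * (z * t) = t := by rw [← mul_assoc, F.zz, one_mul]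
theorem cube_x : x ^ 3 = 1 := F.order_x ▸ pow_orderOf_eq_one x
theorem cube_y : y ^ 3 = 1 := F.order_y ▸ pow_orderOf_eq_one y
theorem x_ne : x ≠ 1 := fun h => by have := F.order_x; rw [h, orderOf_one] at this; omega
theorem y_ne : y ≠ 1 := fun h => by have := F.order_y; rw [h, orderOf_one] at this; omega

theorem comm_x {r : G} (hr : r ∈ R) : Commute r x := mem_cent_single.1 (F.side.le hr)

theorem x_z : Commute x z := by
  have : x ∈ R ⊓ centralizer ({z} : Set G) := F.side.fix_z.symm ▸ mem_zpowers x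
  exact mem_cent_single.1 this.2

theorem zR {r : G} (hr : r ∈ R) : cj z r ∈ R :=
  (mem_normalizer_iff.1 (F.side.normal (mem_cent_single.2 F.x_z.symm)) r).1 hr

theorem tR {r : G} (hr : r ∈ R) : cj t r ∈ R := (mem_normalizer_iff.1 F.side.norm_t r).1 hr

theorem card_R : Nat.card R = 243 := F.side.card.trans (by norm_num)

theorem isPGroup_R : IsPGroup 3 R := IsPGroup.of_card (n := 5) (by rw [F.card_R]; norm_num)

theorem pow_243 {r : G} (hr : r ∈ R) : r ^ 243 = 1 := by
  have h := Subgroup.orderOf_dvd_natCard R hr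
  rw [F.card_R] at h
  exact orderOf_dvd_iff_pow_eq_one.1 h

theorem odd_R {r : G} (hr : r ∈ R) : Odd (orderOf r) :=
  Odd.of_dvd_nat (by decide : Odd 243) (by
    have h := Subgroup.orderOf_dvd_natCard R hr
    rwa [F.card_R] at h)

theorem fixed_z {r : G} (hr : r ∈ R) (h : Commute r z) : r ∈ zpowers x :=
  F.side.fix_z ▸ ⟨hr, mem_cent_single.2 h⟩

theorem card_A : Nat.card (A t R) = 9 := F.side.fix_t.trans (by norm_num)

theorem card_B : Nat.card (A (z * t) R) = 9 := F.side.fix_zt.trans (by norm_num)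

theorem A_comm {a b : G} (ha : a ∈ A t R) (hb : b ∈ A t R) : Commute a b :=
  commute_of_card_nine F.card_A ha hb

theorem z_inv {a : G} (ha : a ∈ A t R) : cj z a = a⁻¹ := by
  refine F.small.inverted (Q := A t R) (by rw [F.card_A]; decide) (fun q hq => (mem_A.1 hq).2)
    (fun q hq => ?_) ha
  obtain ⟨hqR, hqt⟩ := mem_A.1 hq
  refine mem_A.2 ⟨F.zR hqR, ?_⟩
  have := hqt.map (MulAut.conj z).toMonoidHom
  simpa [cj, F.small.comm.eq, mul_assoc] using this

theorem z_invB {b : G} (hb : b ∈ A (z * t) R) : cj z b = b⁻¹ := F.swap.z_inv hb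

theorem t_invB {b : G} (hb : b ∈ A (z * t) R) : cj t b = b⁻¹ := by
  have h : cj (z * t) b = b := cj_eq_self.2 (mem_A.1 hb).2.symm.eq
  rw [← F.z_invB hb]
  conv_lhs => rw [← F.zzt, ← cj_cj, h]

theorem zt_invA {a : G} (ha : a ∈ A t R) : cj (z * t) a = a⁻¹ := by
  rw [← cj_cj, cj_eq_self.2 (mem_A.1 ha).2.symm.eq, F.z_inv ha]

theorem cube_B {b : G} (hb : b ∈ A (z * t) R) : b ^ 3 = 1 :=
  (F.pat (z * t) t (A (z * t) R)
    ⟨F.swap.small.order_b, F.small.order_b, F.small.comm.mul_left (Commute.refl t), by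
      rw [Set.pair_comm]
      have h : centralizer ({t, z * t} : Set G) = centralizer ({t, z} : Set G) := by
        rw [F.small.comm.eq, centralizer_mul_right F.tt]
      rw [h, Set.pair_comm]; exact F.small.card⟩
    F.card_B (fun p hp => (mem_A.1 hp).2) (fun p hp => F.t_invB hp)).2.2 b hb

theorem cube_A {a : G} (ha : a ∈ A t R) : a ^ 3 = 1 := by
  have h := F.swap.cube_B (b := a)
  rw [F.zzt] at h
  exact h ha

theorem small_ztt : Small (z * t) t :=
  ⟨F.swap.small.order_b, F.small.order_b, F.small.comm.mul_left (Commute.refl t), by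
    have h : centralizer ({t, z * t} : Set G) = centralizer ({t, z} : Set G) := by
      rw [F.small.comm.eq, centralizer_mul_right F.tt]
    rw [Set.pair_comm, h, Set.pair_comm]; exact F.small.card⟩

/-- There is an element of order three in `A` centralising `B`. -/
theorem exists_tau : ∃ τ, τ ∈ A t R ∧ orderOf τ = 3 ∧ (∀ b ∈ A (z * t) R, Commute τ b) ∧
    ∀ a ∈ A t R, (∀ b ∈ A (z * t) R, Commute a b) → a ∈ zpowers τ := by
  obtain ⟨hcard, -, -⟩ := F.pat (z * t) t (A (z * t) R) F.small_ztt F.card_B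
    (fun p hp => (mem_A.1 hp).2) (fun p hp => F.t_invB hp)
  obtain ⟨τ, hτ, oτ⟩ := exists_order_three_of_six hcard
  obtain ⟨hτt, hτB⟩ := mem_cent_insert.1 hτ
  -- `x` and `τ` commute
  have hztz : Small (z * t) z := F.swap.small.symm
  obtain ⟨-, hcomm, -⟩ := F.pat (z * t) z (A (z * t) R) hztz F.card_B
    (fun p hp => (mem_A.1 hp).2) (fun p hp => F.z_invB hp)
  have hxτ : Commute x τ := hcomm x τ F.order_x oτ
    (mem_cent_insert.2 ⟨F.x_z, fun p hp => (F.comm_x (mem_A.1 hp).1).symm⟩)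
    (mem_cent_insert.2 ⟨by
      rw [show z * t * z = t by rw [F.small.comm.eq, mul_assoc, F.zz, mul_one]]; exact hτt, hτB⟩)
  -- `z` inverts `τ`
  have hzτ : cj z τ ∈ centralizer (insert t (A (z * t) R : Set G)) := by
    refine mem_cent_insert.2 ⟨?_, fun p hp => ?_⟩
    · have := hτt.map (MulAut.conj z).toMonoidHom
      simpa [cj, F.small.comm.eq, mul_assoc] using this
    · have hm := (hτB p⁻¹ (inv_mem hp)).map (MulAut.conj z).toMonoidHom
      have e : cj z p⁻¹ = p := by rw [cj_inv', F.z_invB hp, inv_inv]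
      have hm' : Commute (cj z τ) (cj z p⁻¹) := hm
      rwa [e] at hm'
  have hinv : cj z τ = τ⁻¹ := by
    have o' : orderOf (cj z τ) = 3 := (MulEquiv.orderOf_eq (MulAut.conj z) τ).trans oτ
    rcases six_unique hcard hτ hzτ oτ o' with h | h
    · exfalso
      have := F.small.eq_one (cj_eq_self.1 h).symm hτt (by rw [oτ]; decide)
      rw [this, orderOf_one] at oτ
      omega
    · exact h
  have hτR : τ ∈ R := F.side.absorb τ hxτ.symm (by rw [oτ]; decide) hinv
  refine ⟨τ, mem_A.2 ⟨hτR, hτt⟩, oτ, hτB, fun a ha hab => ?_⟩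
  by_cases ha1 : a = 1
  · rw [ha1]; exact one_mem _
  haveI : Fact (Nat.Prime 3) := ⟨Nat.prime_three⟩
  have oa : orderOf a = 3 := orderOf_eq_prime (F.cube_A ha) ha1
  rcases six_unique hcard hτ (mem_cent_insert.2 ⟨(mem_A.1 ha).2, hab⟩) oτ oa with rfl | rfl
  exacts [mem_zpowers _, inv_mem (mem_zpowers _)]

/-- The generator of the part of the centre in `A`. -/
noncomputable def tau : G := F.exists_tau.choose

theorem tau_mem : F.tau ∈ A t R := F.exists_tau.choose_spec.1
theorem tau_order : orderOf F.tau = 3 := F.exists_tau.choose_spec.2.1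
theorem tau_comm {b : G} (hb : b ∈ A (z * t) R) : Commute F.tau b :=
  F.exists_tau.choose_spec.2.2.1 b hb
theorem mem_tau {a : G} (ha : a ∈ A t R) (h : ∀ b ∈ A (z * t) R, Commute a b) :
    a ∈ zpowers F.tau :=
  F.exists_tau.choose_spec.2.2.2 a ha h

/-- The generator of the part of the centre in `B`. -/
noncomputable def sigma : G := F.swap.tau

theorem sigma_mem : F.sigma ∈ A (z * t) R := F.swap.tau_mem
theorem sigma_order : orderOf F.sigma = 3 := F.swap.tau_order
theorem sigma_comm {a : G} (ha : a ∈ A t R) : Commute F.sigma a :=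
  F.swap.tau_comm (by rw [F.zzt]; exact ha)
theorem mem_sigma {b : G} (hb : b ∈ A (z * t) R) (h : ∀ a ∈ A t R, Commute b a) :
    b ∈ zpowers F.sigma :=
  F.swap.mem_tau hb fun a ha => h a (by rwa [F.zzt] at ha)

theorem inter_trivial {a b k : G} (ha : a ∈ A t R) (hb : b ∈ A (z * t) R) (hk : k ∈ zpowers x)
    (h : a = b * k) : a = 1 ∧ b = 1 ∧ k = 1 := by
  have htk : cj t k = k⁻¹ := by
    obtain ⟨i, rfl⟩ := hk
    show cj t (x ^ i) = (x ^ i)⁻¹
    rw [cj_eq_conj, map_zpow, ← cj_eq_conj, F.inv_x, inv_zpow]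
  have hta : cj t a = a := cj_eq_self.2 (mem_A.1 ha).2.symm.eq
  have hbk : Commute b k := by
    obtain ⟨i, rfl⟩ := hk
    exact (F.comm_x (mem_A.1 hb).1).zpow_right i
  have e2 : cj t a = a⁻¹ := by rw [h, cj_hom, F.t_invB hb, htk, mul_inv_rev, hbk.inv_inv.eq]
  rw [e2] at hta
  have h2 : a ^ 2 = 1 := by rw [sq]; nth_rw 1 [← hta]; rw [inv_mul_cancel]
  have ha1 : a = 1 := by
    have h3 := F.cube_A ha
    rwa [pow_succ, h2, one_mul] at h3
  have hbk1 : b * k = 1 := by rw [← h, ha1]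
  have hk1 : k = 1 := by
    have e : k = b⁻¹ := eq_inv_of_mul_eq_one_right hbk1
    have h3 : cj z k = k := by
      obtain ⟨i, rfl⟩ := hk
      exact cj_eq_self.2 (F.x_z.symm.zpow_right i).eq
    rw [e, cj_inv', F.z_invB hb, inv_inv] at h3
    have h2' : b ^ 2 = 1 := by rw [sq]; nth_rw 1 [h3]; rw [inv_mul_cancel]
    have h3' := F.cube_B hb
    rw [pow_succ, h2', one_mul] at h3'
    rw [e, h3', inv_one]
  exact ⟨ha1, by rw [hk1, mul_one] at hbk1; exact hbk1, hk1⟩

theorem comm_R {r s : G} (hr : r ∈ R) (hs : s ∈ R) : r * s * r⁻¹ * s⁻¹ ∈ zpowers x :=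
  F.side.comm r hr s hs

theorem x_central {k : G} (hk : k ∈ zpowers x) {r : G} (hr : r ∈ R) : Commute k r := by
  obtain ⟨i, rfl⟩ := hk
  exact ((F.comm_x hr).zpow_right i).symm

theorem A_le : A t R ≤ R := inf_le_left

/-- Every element of `R` is uniquely a product. -/
theorem decompose {r : G} (hr : r ∈ R) : ∃ a ∈ A t R, ∃ b ∈ A (z * t) R, ∃ k ∈ zpowers x,
    r = a * b * k := by
  let f : (A t R × A (z * t) R) × zpowers x → R := fun q =>
    ⟨q.1.1 * q.1.2 * q.2, mul_mem (mul_mem (mem_A.1 q.1.1.2).1 (mem_A.1 q.1.2.2).1)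
      (zpowers_le.2 F.side.mem q.2.2)⟩
  have hinj : Function.Injective f := by
    rintro ⟨⟨⟨a, ha⟩, ⟨b, hb⟩⟩, ⟨k, hk⟩⟩ ⟨⟨⟨a', ha'⟩, ⟨b', hb'⟩⟩, ⟨k', hk'⟩⟩ h
    have e : a * b * k = a' * b' * k' := congrArg Subtype.val h
    have e' : a'⁻¹ * a = b' * b⁻¹ * (k' * k⁻¹) := by
      have hc : Commute b⁻¹ (k' * k⁻¹) :=
        (F.x_central (mul_mem hk' (inv_mem hk)) (inv_mem (mem_A.1 hb).1)).symm
      calc a'⁻¹ * a = a'⁻¹ * (a * b * k) * k⁻¹ * b⁻¹ := by group
        _ = b' * (k' * k⁻¹ * b⁻¹) := by rw [e]; group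
        _ = b' * b⁻¹ * (k' * k⁻¹) := by rw [← hc.eq, mul_assoc]
    obtain ⟨h1, h2, h3⟩ := F.inter_trivial (mul_mem (inv_mem ha') ha) (mul_mem hb' (inv_mem hb))
      (mul_mem hk' (inv_mem hk)) e'
    obtain rfl : a' = a := inv_mul_eq_one.1 h1
    obtain rfl : b' = b := mul_inv_eq_one.1 h2
    obtain rfl : k' = k := mul_inv_eq_one.1 h3
    rfl
  have hbij : Function.Bijective f := by
    refine (Nat.bijective_iff_injective_and_card f).2 ⟨hinj, ?_⟩
    rw [Nat.card_prod, Nat.card_prod, F.card_A, F.card_B, Nat.card_zpowers, F.order_x, F.card_R]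
  obtain ⟨⟨⟨a, b⟩, k⟩, e⟩ := hbij.2 ⟨r, hr⟩
  exact ⟨a, a.2, b, b.2, k, k.2, (congrArg Subtype.val e).symm⟩

theorem commute_gens {g : G} (hA : ∀ a ∈ A t R, Commute g a)
    (hB : ∀ b ∈ A (z * t) R, Commute g b) (hx : Commute g x) {r : G} (hr : r ∈ R) :
    Commute g r := by
  obtain ⟨a, ha, b, hb, k, ⟨i, rfl⟩, rfl⟩ := F.decompose hr
  exact ((hA a ha).mul_right (hB b hb)).mul_right (hx.zpow_right i)

theorem tau_central : F.tau ∈ Zr R := mem_Zr.2 ⟨F.A_le F.tau_mem, fun _ hr => F.commute_gens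
  (fun _ ha => F.A_comm F.tau_mem ha) (fun _ hb => F.tau_comm hb) (F.comm_x (F.A_le F.tau_mem)) hr⟩

theorem sigma_central : F.sigma ∈ Zr R := F.swap.tau_central

theorem x_mem_Zr : x ∈ Zr R := mem_Zr.2 ⟨F.side.mem, fun _ hr => (F.comm_x hr).symm⟩

theorem mem_A_central {a : G} (ha : a ∈ A t R) (h : a ∈ Zr R) : a ∈ zpowers F.tau :=
  F.mem_tau ha fun b hb => (mem_Zr.1 h).2 b (mem_A.1 hb).1

theorem mem_B_central {b : G} (hb : b ∈ A (z * t) R) (h : b ∈ Zr R) : b ∈ zpowers F.sigma :=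
  F.mem_sigma hb fun a ha => (mem_Zr.1 h).2 a (mem_A.1 ha).1

theorem mem_Zr_iff {r : G} : r ∈ Zr R ↔ ∃ a ∈ zpowers F.tau, ∃ b ∈ zpowers F.sigma,
    ∃ k ∈ zpowers x, r = a * b * k := by
  constructor
  · intro hr
    obtain ⟨hrR, hrc⟩ := mem_Zr.1 hr
    obtain ⟨a, ha, b, hb, k, hk, rfl⟩ := F.decompose hrR
    refine ⟨a, F.mem_tau ha fun b' hb' => ?_, b, F.mem_sigma hb fun a' ha' => ?_, k, hk, rfl⟩
    · have h := hrc b' (mem_A.1 hb').1
      have h2 : Commute (b * k)⁻¹ b' :=
        ((F.swap.A_comm hb hb').mul_left (F.x_central hk (mem_A.1 hb').1)).inv_left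
      simpa [mul_assoc] using h.mul_left h2
    · have h := hrc a' (mem_A.1 ha').1
      have h1 : Commute a⁻¹ a' := (F.A_comm ha ha').inv_left
      have h2 : Commute k⁻¹ a' := (F.x_central hk (mem_A.1 ha').1).inv_left
      have h3 := (h1.mul_left h).mul_left h2
      simpa [mul_assoc] using h3
  · rintro ⟨a, ha, b, hb, k, hk, rfl⟩
    exact mul_mem (mul_mem (zpowers_le.2 F.tau_central ha) (zpowers_le.2 F.sigma_central hb))
      (zpowers_le.2 F.x_mem_Zr hk)

theorem card_Zr : Nat.card (Zr R) = 27 := by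
  let f : (zpowers F.tau × zpowers F.sigma) × zpowers x → Zr R := fun q =>
    ⟨q.1.1 * q.1.2 * q.2, F.mem_Zr_iff.2 ⟨q.1.1, q.1.1.2, q.1.2, q.1.2.2, q.2, q.2.2, rfl⟩⟩
  have hbij : Function.Bijective f := by
    constructor
    · rintro ⟨⟨⟨a, ha⟩, ⟨b, hb⟩⟩, ⟨k, hk⟩⟩ ⟨⟨⟨a', ha'⟩, ⟨b', hb'⟩⟩, ⟨k', hk'⟩⟩ h
      have e : a * b * k = a' * b' * k' := congrArg Subtype.val h
      have hA : ∀ {w : G}, w ∈ zpowers F.tau → w ∈ A t R := fun hw => zpowers_le.2 F.tau_mem hw
      have hB : ∀ {w : G}, w ∈ zpowers F.sigma → w ∈ A (z * t) R := fun hw =>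
        zpowers_le.2 F.sigma_mem hw
      have e' : a'⁻¹ * a = b' * b⁻¹ * (k' * k⁻¹) := by
        have hc : Commute b⁻¹ (k' * k⁻¹) :=
          (F.x_central (mul_mem hk' (inv_mem hk)) (inv_mem (mem_A.1 (hB hb)).1)).symm
        calc a'⁻¹ * a = a'⁻¹ * (a * b * k) * k⁻¹ * b⁻¹ := by group
          _ = b' * (k' * k⁻¹ * b⁻¹) := by rw [e]; group
          _ = b' * b⁻¹ * (k' * k⁻¹) := by rw [← hc.eq, mul_assoc]
      obtain ⟨h1, h2, h3⟩ := F.inter_trivial (mul_mem (inv_mem (hA ha')) (hA ha))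
        (mul_mem (hB hb') (inv_mem (hB hb))) (mul_mem hk' (inv_mem hk)) e'
      obtain rfl : a' = a := inv_mul_eq_one.1 h1
      obtain rfl : b' = b := mul_inv_eq_one.1 h2
      obtain rfl : k' = k := mul_inv_eq_one.1 h3
      rfl
    · rintro ⟨r, hr⟩
      obtain ⟨a, ha, b, hb, k, hk, rfl⟩ := F.mem_Zr_iff.1 hr
      exact ⟨((⟨a, ha⟩, ⟨b, hb⟩), ⟨k, hk⟩), rfl⟩
  rw [← Nat.card_eq_of_bijective f hbij, Nat.card_prod, Nat.card_prod, Nat.card_zpowers,
    Nat.card_zpowers, Nat.card_zpowers, F.tau_order, F.sigma_order, F.order_x]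

theorem exists_noncentral : ∃ a ∈ A t R, a ∉ Zr R := by
  by_contra h
  push Not at h
  have hle : A t R ≤ zpowers F.tau := fun a ha => F.mem_A_central ha (h a ha)
  have := Subgroup.card_le_of_le hle
  rw [F.card_A, Nat.card_zpowers, F.tau_order] at this
  omega

theorem comm_eq : ⁅R, R⁆ = zpowers x := by
  haveI : Fact (Nat.Prime 3) := ⟨Nat.prime_three⟩
  refine le_antisymm (Subgroup.commutator_le.2 fun r hr s hs => ?_) ?_
  · rw [commutatorElement_def]; exact F.comm_R hr hs
  obtain ⟨a, ha, hna⟩ := F.exists_noncentral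
  obtain ⟨b, hb, hab⟩ : ∃ b ∈ A (z * t) R, ¬ Commute a b := by
    by_contra h
    push Not at h
    exact hna (mem_Zr.2 ⟨F.A_le ha, fun _ hr => F.commute_gens (fun _ h' => F.A_comm ha h') h
      (F.comm_x (F.A_le ha)) hr⟩)
  have hne : a * b * a⁻¹ * b⁻¹ ≠ 1 := fun h => hab (by
    rwa [mul_inv_eq_one, mul_inv_eq_iff_eq_mul] at h)
  rw [← zpowers_eq_of_mem F.order_x (F.comm_R (F.A_le ha) (mem_A.1 hb).1) hne, zpowers_le,
    ← commutatorElement_def]
  exact Subgroup.commutator_mem_commutator (F.A_le ha) (mem_A.1 hb).1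

theorem relIndex_R : ((Zr R).subgroupOf R).index = 9 := by
  have h := ((Zr R).subgroupOf R).card_mul_index
  have hle : Zr R ≤ R := inf_le_left
  rw [Nat.card_congr (subgroupOfEquivOfLe hle).toEquiv, F.card_Zr, F.card_R] at h
  omega

theorem relIndex_Zr : ((⁅R, R⁆).subgroupOf (Zr R)).index = 9 := by
  have hle : ⁅R, R⁆ ≤ Zr R := F.comm_eq ▸ zpowers_le.2 F.x_mem_Zr
  have h := ((⁅R, R⁆).subgroupOf (Zr R)).card_mul_index
  rw [Nat.card_congr (subgroupOfEquivOfLe hle).toEquiv, F.card_Zr, F.comm_eq, Nat.card_zpowers,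
    F.order_x] at h
  rw [F.comm_eq]
  omega

theorem cube_mod {r : G} (hr : r ∈ R) : r ^ 3 ∈ Zr R := by
  obtain ⟨a, ha, b, hb, k, hk, rfl⟩ := F.decompose hr
  have hc : b * a * b⁻¹ * a⁻¹ ∈ zpowers x := F.comm_R (mem_A.1 hb).1 (F.A_le ha)
  have hk' : Commute (a * b) k := (F.x_central hk (mul_mem (F.A_le ha) (mem_A.1 hb).1)).symm
  rw [hk'.mul_pow]
  refine mul_mem ?_ (pow_mem (zpowers_le.2 F.x_mem_Zr hk) 3)
  set c := b * a * b⁻¹ * a⁻¹
  have e : (a * b) ^ 3 = c ^ 3 * (a ^ 3 * b ^ 3) := by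
    have hcc : ∀ r ∈ R, Commute c r := fun r hr => F.x_central hc hr
    have hba : ∀ w, b * (a * w) = c * (a * (b * w)) := fun w => by simp only [c]; group
    have hca : ∀ w, a * (c * w) = c * (a * w) := fun w => by
      rw [← mul_assoc, ← (hcc a (F.A_le ha)).eq, mul_assoc]
    have hcb : ∀ w, b * (c * w) = c * (b * w) := fun w => by
      rw [← mul_assoc, ← (hcc b (mem_A.1 hb).1).eq, mul_assoc]
    simp only [pow_succ, pow_zero, one_mul, mul_assoc, hba, hca, hcb]
  rw [e, F.cube_A ha, F.cube_B hb, one_mul, mul_one]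
  exact pow_mem (zpowers_le.2 F.x_mem_Zr hc) 3

end Frame

end CfsgLib.G2TwoLocal.Mixed
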