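import Cfsg.Agent.Lib.G2TwoLocal.MixedFrame

/-!
# `G₂(3)` from 2-local data, the amalgam: the Levi complement and the parabolic
-/

set_option autoImplicit false
set_option linter.style.haveILetI false
set_option linter.unusedSectionVars false

namespace CfsgLib.G2TwoLocal.Mixed

open Cfsg Subgroup
open CfsgLib.G2Three (cj)
open scoped Pointwise

universe u

variable {G : Type u} [Group G] [Finite G]

/-- The Levi complement. -/
def Levi (t : G) (L : Subgroup G) : Subgroup G := L ⊔ zpowers t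

/-- The parabolic of `x`. -/
def Par (x : G) : Subgroup G := normalizer (zpowers x : Set G)

namespace Frame

variable {z t x y : G} {L R : Subgroup G} (F : Frame z t x y L R)
include F

theorem L_x {l : G} (hl : l ∈ L) : Commute l x := by
  refine mem_cent_single.1 (F.side.cent.symm ▸ (mem_sup_right hl : l ∈ R ⊔ L))

theorem tL {l : G} (hl : l ∈ L) : cj t l ∈ L := (mem_normalizer_iff.1 F.t_norm l).1 hl

theorem t_not_L : t ∉ L := by
  intro h
  have h1 : cj t x = x := cj_eq_self.2 (F.L_x h).eq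
  rw [F.inv_x] at h1
  have h2 : x ^ 2 = 1 := by rw [sq]; nth_rw 1 [← h1]; rw [inv_mul_cancel]
  have := orderOf_dvd_of_pow_eq_one h2
  rw [F.order_x] at this
  omega

theorem mem_Levi {g : G} : g ∈ Levi t L ↔ g ∈ L ∨ g * t ∈ L := by
  constructor
  · intro hg
    rw [Levi] at hg
    obtain ⟨l, hl, w, hw, rfl⟩ := Set.mem_mul.1
      (show g ∈ (L : Set G) * (zpowers t : Set G) by
        rw [← coe_mul_of_right_le_normalizer_left L (zpowers t) (zpowers_le.2 F.t_norm)]; exact hg)
    obtain ⟨n, rfl⟩ := mem_zpowers_iff.1 (SetLike.mem_coe.1 hw)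
    rcases Int.even_or_odd n with ⟨m, rfl⟩ | ⟨m, rfl⟩
    · left
      rw [← two_mul, zpow_mul, zpow_two, F.tt, one_zpow, mul_one]
      exact hl
    · right
      rw [zpow_add, zpow_mul, zpow_two, F.tt, one_zpow, zpow_one, one_mul, mul_assoc, F.tt, mul_one]
      exact hl
  · rintro (h | h)
    · exact mem_sup_left h
    · have := mul_mem (mem_sup_left h : g * t ∈ L ⊔ zpowers t) (mem_sup_right (mem_zpowers t))
      rwa [mul_assoc, F.tt, mul_one] at this

theorem L_le_Levi : L ≤ Levi t L := le_sup_left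

theorem t_mem_Levi : t ∈ Levi t L := mem_sup_right (mem_zpowers t)

theorem z_mem_Levi : z ∈ Levi t L := F.L_le_Levi F.z_mem

theorem card_L : Nat.card L = 24 := by
  obtain ⟨e⟩ := F.iso
  rw [Nat.card_congr e.toEquiv, sl_card]

theorem card_Levi : Nat.card (Levi t L) = 48 := by
  classical
  let f : L ⊕ L → Levi t L := Sum.elim (fun l => ⟨l, F.L_le_Levi l.2⟩)
    (fun l => ⟨l * t, mul_mem (F.L_le_Levi l.2) F.t_mem_Levi⟩)
  have hbij : Function.Bijective f := by
    constructor
    · rintro (a | a) (b | b) h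
      · exact congrArg Sum.inl (Subtype.ext (congrArg (fun w : Levi t L => (w : G)) h))
      · exfalso
        have h' : (a : G) = b * t := congrArg (fun w : Levi t L => (w : G)) h
        refine F.t_not_L ?_
        have := mul_mem (inv_mem b.2) a.2
        rwa [h', inv_mul_cancel_left] at this
      · exfalso
        have h' : (a : G) * t = b := congrArg (fun w : Levi t L => (w : G)) h
        refine F.t_not_L ?_
        have := mul_mem (inv_mem a.2) b.2
        rwa [← h', inv_mul_cancel_left] at this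
      · exact congrArg Sum.inr (Subtype.ext
          (mul_right_cancel (congrArg (fun w : Levi t L => (w : G)) h)))
    · rintro ⟨g, hg⟩
      rcases F.mem_Levi.1 hg with h | h
      · exact ⟨Sum.inl ⟨g, h⟩, rfl⟩
      · exact ⟨Sum.inr ⟨g * t, h⟩, Subtype.ext (show g * t * t = g by rw [mul_assoc, F.tt, mul_one])⟩
  rw [← Nat.card_eq_of_bijective f hbij, Nat.card_sum, F.card_L]

theorem Levi_z {k : G} (hk : k ∈ Levi t L) : Commute k z := by
  rcases F.mem_Levi.1 hk with h | h
  · exact F.le_z k h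
  · have := (F.le_z _ h).mul_left F.small.comm.symm
    rwa [mul_assoc, F.tt, mul_one] at this

theorem Levi_R {k : G} (hk : k ∈ Levi t L) : k ∈ normalizer (R : Set G) := by
  refine (sup_le (fun l hl => F.side.normal (mem_cent_single.2 (F.L_x hl))) ?_ : L ⊔ zpowers t ≤ _) hk
  exact zpowers_le.2 F.side.norm_t

theorem Levi_Zr {k r : G} (hk : k ∈ Levi t L) (hr : r ∈ Frame.Zr R) : cj k r ∈ Frame.Zr R := by
  obtain ⟨hrR, hrc⟩ := Frame.mem_Zr.1 hr
  refine Frame.mem_Zr.2 ⟨(mem_normalizer_iff.1 (F.Levi_R hk) r).1 hrR, fun s hs => ?_⟩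
  have hs' : k⁻¹ * s * k ∈ R := by
    simpa using (mem_normalizer_iff.1 (inv_mem (F.Levi_R hk)) s).1 hs
  have := (hrc _ hs').map (MulAut.conj k).toMonoidHom
  simpa [cj, mul_assoc] using this

theorem Levi_cases {k : G} (hk : k ∈ Levi t L) : cj k x = x ∨ cj k x = x⁻¹ := by
  rcases F.mem_Levi.1 hk with h | h
  · exact Or.inl (cj_eq_self.2 (F.L_x h).eq)
  · right
    rw [show k = k * t * t by rw [mul_assoc, F.tt, mul_one], ← cj_cj, F.inv_x, cj_inv',
      cj_eq_self.2 (F.L_x h).eq]

theorem Levi_x {k : G} (hk : k ∈ Levi t L) {w : G} (hw : w ∈ zpowers x) : cj k w ∈ zpowers x := by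
  obtain ⟨i, rfl⟩ := hw
  show cj k (x ^ i) ∈ zpowers x
  rw [cj_eq_conj, map_zpow, ← cj_eq_conj]
  rcases F.Levi_cases hk with h | h <;> rw [h]
  · exact zpow_mem (mem_zpowers x) i
  · exact zpow_mem (inv_mem (mem_zpowers x)) i

theorem x_not_L : x ∉ L := by
  intro h
  obtain ⟨e⟩ := F.iso
  refine F.x_ne (congrArg Subtype.val (e.injective (a₁ := ⟨x, h⟩) (a₂ := 1) ?_))
  rw [map_one]
  refine sl_central _ (fun v => ?_) ?_
  · obtain ⟨l, rfl⟩ := e.surjective v
    rw [← map_mul, ← map_mul]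
    exact congrArg e (Subtype.ext (F.L_x l.2).symm.eq)
  · rw [← map_pow, ← map_one e]
    exact congrArg e (Subtype.ext F.cube_x)

theorem Levi_inf_R {k : G} (hk : k ∈ Levi t L) (hr : k ∈ R) : k = 1 := by
  have hx := F.fixed_z hr (F.Levi_z hk)
  rcases mem_zpowers_three F.cube_x hx with h | h
  · exact h
  exfalso
  have hmem : x ∈ Levi t L := by
    rcases h with h | h
    · rwa [h] at hk
    · rw [h] at hk; simpa using inv_mem hk
  rcases F.mem_Levi.1 hmem with h' | h'
  · exact F.x_not_L h'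
  · have hc : cj t x = x := cj_eq_self.2 (by
      have := (Commute.refl x).inv_left.mul_left (F.L_x h')
      rw [inv_mul_cancel_left] at this
      exact this.eq)
    rw [F.inv_x] at hc
    have h2 : x ^ 2 = 1 := by rw [sq]; nth_rw 1 [← hc]; rw [inv_mul_cancel]
    have := orderOf_dvd_of_pow_eq_one h2
    rw [F.order_x] at this
    omega

/-- A subgroup of the Levi complement normalised by it and missing `z` is trivial. -/
theorem faithful {N : Subgroup G} (hN : N ≤ Levi t L)
    (hn : ∀ k ∈ Levi t L, ∀ n ∈ N, cj k n ∈ N) (hz : z ∉ N) : N = ⊥ := by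
  obtain ⟨e⟩ := F.iso
  have hez : e ⟨z, F.z_mem⟩ = -1 := by
    refine (sl_invol _ ?_).resolve_left ?_
    · rw [← map_mul, ← map_one e]; exact congrArg e (Subtype.ext F.zz)
    · intro h
      have hz1 : z = 1 := congrArg Subtype.val (e.injective (h.trans (map_one e).symm))
      have := F.small.order_a
      rw [hz1, orderOf_one] at this
      omega
  have hzero : ∀ n : G, n ∈ N → n ∈ L → n = 1 := by
    intro n hn' hnL
    by_contra hne
    have h1 : e ⟨n, hnL⟩ ≠ 1 := fun h =>
      hne (congrArg Subtype.val (e.injective (h.trans (map_one e).symm)))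
    have hval : ∀ {w : G} (hw : w ∈ N) (hwL : w ∈ L), e ⟨w, hwL⟩ = -1 → False := by
      intro w hw hwL he
      have : w = z := congrArg Subtype.val (e.injective (he.trans hez.symm))
      exact hz (this ▸ hw)
    rcases sl_reach_neg _ h1 with h | h | h | ⟨g, h⟩
    · exact hval hn' hnL h
    · rw [← map_mul] at h; exact hval (mul_mem hn' hn') (mul_mem hnL hnL) h
    · rw [← map_mul, ← map_mul] at h
      exact hval (mul_mem (mul_mem hn' hn') hn') (mul_mem (mul_mem hnL hnL) hnL) h
    · obtain ⟨l, rfl⟩ := e.surjective g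
      rw [← map_inv, ← map_inv, ← map_mul, ← map_mul, ← map_mul, ← map_mul] at h
      have hc : n * (l : G) * n⁻¹ * (l : G)⁻¹ ∈ N := by
        rw [show n * (l : G) * n⁻¹ * (l : G)⁻¹ = n * cj (l : G) n⁻¹ by rw [cj]; group]
        exact mul_mem hn' (hn _ (F.L_le_Levi l.2) _ (inv_mem hn'))
      exact hval (mul_mem hc hc) (mul_mem (mul_mem (mul_mem (mul_mem hnL l.2) (inv_mem hnL)) (inv_mem l.2))
        (mul_mem (mul_mem (mul_mem hnL l.2) (inv_mem hnL)) (inv_mem l.2))) h
  rw [Subgroup.eq_bot_iff_forall]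
  intro n hn'
  rcases F.mem_Levi.1 (hN hn') with h | h
  · exact hzero n hn' h
  exfalso
  -- an outer element would centralise `L`
  have hcomm : n * y * n⁻¹ * y⁻¹ = 1 := by
    refine hzero _ ?_ ?_
    · rw [show n * y * n⁻¹ * y⁻¹ = n * cj y n⁻¹ by rw [cj]; group]
      exact mul_mem hn' (hn y (F.L_le_Levi F.y_mem) _ (inv_mem hn'))
    · have h1 : n * y * n⁻¹ = (n * t) * cj t y * (n * t)⁻¹ := by
        simp only [cj]
        rw [show t⁻¹ = t from inv_eq_of_mul_eq_one_right F.tt]
        simp [mul_assoc, ← mul_assoc t t, F.tt]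
      rw [h1]
      exact mul_mem (mul_mem (mul_mem h (F.tL F.y_mem)) (inv_mem h)) (inv_mem F.y_mem)
  have hfix : cj (n * t) y⁻¹ = y := by
    rw [← F.inv_y, cj_cj, mul_assoc, F.tt, mul_one]
    exact mul_inv_eq_one.1 hcomm
  have he : e ⟨n * t, h⟩ * e ⟨y, F.y_mem⟩ * (e ⟨n * t, h⟩)⁻¹ = (e ⟨y, F.y_mem⟩)⁻¹ := by
    rw [← map_inv, ← map_inv, ← map_mul, ← map_mul]
    refine congrArg e (Subtype.ext ?_)
    show n * t * y * (n * t)⁻¹ = y⁻¹
    have := congrArg (·⁻¹) hfix
    simp only [cj_inv', inv_inv] at this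
    exact this
  refine sl_no_inverting _ ?_ ?_ _ he
  · rw [← map_pow, ← map_one e]; exact congrArg e (Subtype.ext F.cube_y)
  · exact fun h => F.y_ne (congrArg Subtype.val (e.injective (h.trans (map_one e).symm)))

theorem R_le_Par : R ≤ Par x := fun r hr => by
  rw [Par, mem_normalizer_iff]
  intro w
  have hw : ∀ w ∈ zpowers x, r * w * r⁻¹ = w := fun w hw => by
    rw [(F.x_central hw hr).symm.eq, mul_inv_cancel_right]
  constructor
  · exact fun h => (hw w h).symm ▸ h
  · intro h
    have e := hw _ h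
    have : r * w * r⁻¹ = w := by
      have := mul_left_cancel (mul_right_cancel e)
      simpa using this
    rwa [this] at h

theorem Levi_le_Par : Levi t L ≤ Par x := fun k hk => by
  rw [Par, mem_normalizer_iff]
  refine fun w => ⟨fun h => F.Levi_x hk h, fun h => ?_⟩
  have := F.Levi_x (inv_mem hk) h
  simpa [cj, mul_assoc] using this

theorem Par_decompose {g : G} (hg : g ∈ Par x) : ∃ r ∈ R, ∃ k ∈ Levi t L, g = r * k := by
  have hC : ∀ w : G, Commute w x → ∃ r ∈ R, ∃ l ∈ L, w = r * l := by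
    intro w hw
    have : w ∈ R ⊔ L := F.side.cent ▸ mem_cent_single.2 hw
    have hn : L ≤ normalizer (R : Set G) := fun l hl => F.Levi_R (F.L_le_Levi hl)
    obtain ⟨r, hr, l, hl, e⟩ := Set.mem_mul.1 (show w ∈ (R : Set G) * (L : Set G) by
      rw [← coe_mul_of_right_le_normalizer_left R L hn]; exact this)
    exact ⟨r, hr, l, hl, e.symm⟩
  have hx : g * x * g⁻¹ ∈ zpowers x := (mem_normalizer_iff.1 hg x).1 (mem_zpowers x)
  rcases mem_zpowers_three F.cube_x hx with h | h | h
  · exact absurd (by simpa using h) F.x_ne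
  · obtain ⟨r, hr, l, hl, rfl⟩ := hC g (cj_eq_self_iff.1 h)
    exact ⟨r, hr, l, F.L_le_Levi hl, rfl⟩
  · have hgt : cj (g * t) x = x := by
      rw [← cj_cj, F.inv_x, cj_inv']
      show (g * x * g⁻¹)⁻¹ = x
      rw [h, inv_inv]
    obtain ⟨r, hr, l, hl, e⟩ := hC (g * t) (cj_eq_self_iff.1 hgt)
    refine ⟨r, hr, l * t, mul_mem (F.L_le_Levi hl) F.t_mem_Levi, ?_⟩
    rw [← mul_assoc, ← e, mul_assoc, F.tt, mul_one]

theorem Par_normal_R {g r : G} (hg : g ∈ Par x) (hr : r ∈ R) : cj g r ∈ R := by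
  obtain ⟨r₀, hr₀, k, hk, rfl⟩ := F.Par_decompose hg
  rw [← cj_cj]
  exact mul_mem (mul_mem hr₀ ((mem_normalizer_iff.1 (F.Levi_R hk) r).1 hr)) (inv_mem hr₀)

theorem Par_le_normalizer_R : Par x ≤ normalizer (R : Set G) := fun g hg => by
  rw [mem_normalizer_iff]
  refine fun r => ⟨fun h => F.Par_normal_R hg h, fun h => ?_⟩
  have := F.Par_normal_R (inv_mem hg) h
  simpa [cj, mul_assoc] using this

end Frame

end CfsgLib.G2TwoLocal.Mixed
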