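import Cfsg.Agent.Lib.G2TwoLocal.MixedLevi

/-!
# `G₂(3)` from 2-local data, the amalgam: the natural module inside the centre of `R`
-/

set_option autoImplicit false
set_option linter.style.haveILetI false
set_option linter.unusedSectionVars false

namespace CfsgLib.G2TwoLocal.Mixed

open Cfsg Subgroup
open CfsgLib.G2Three (cj)
open scoped Pointwise

universe u

variable {G : Type u} [Group G] [Finite G]

namespace Frame

variable {z t x y : G} {L R : Subgroup G} (F : Frame z t x y L R)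
include F

theorem tau_cube : F.tau ^ 3 = 1 := F.tau_order ▸ pow_orderOf_eq_one _
theorem sigma_cube : F.sigma ^ 3 = 1 := F.sigma_order ▸ pow_orderOf_eq_one _

theorem tau_sigma : Commute F.tau F.sigma := F.tau_comm F.sigma_mem

/-- The natural module. -/
noncomputable def vec (v : Fin 2 → ZMod 3) : G := F.tau ^ (v 0).val * F.sigma ^ (v 1).val

theorem vec_add (u v : Fin 2 → ZMod 3) : F.vec (u + v) = F.vec u * F.vec v := by
  simp only [vec, Pi.add_apply, ZMod.val_add]
  rw [← pow_eq_pow_mod _ F.tau_cube, ← pow_eq_pow_mod _ F.sigma_cube, pow_add, pow_add]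
  exact ((F.tau_sigma.symm.pow_pow _ _).mul_mul_mul_comm _ _).symm

theorem vec_mem_Zr (v : Fin 2 → ZMod 3) : F.vec v ∈ Frame.Zr R :=
  mul_mem (pow_mem F.tau_central _) (pow_mem F.sigma_central _)

theorem z_vec (v : Fin 2 → ZMod 3) : cj z (F.vec v) = (F.vec v)⁻¹ := by
  rw [vec, cj_hom, cj_eq_conj, map_pow, ← cj_eq_conj, F.z_inv F.tau_mem, cj_eq_conj, map_pow,
    ← cj_eq_conj, F.z_invB F.sigma_mem, inv_pow, inv_pow, mul_inv_rev,
    ((F.tau_sigma.pow_pow _ _).inv_inv).eq]

theorem vec_inj {u v : Fin 2 → ZMod 3} (h : F.vec u = F.vec v) : u = v := by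
  have e : (F.tau ^ (v 0).val)⁻¹ * F.tau ^ (u 0).val =
      F.sigma ^ (v 1).val * (F.sigma ^ (u 1).val)⁻¹ * 1 := by
    rw [mul_one, eq_mul_inv_iff_mul_eq, mul_assoc,
      show F.tau ^ (u 0).val * F.sigma ^ (u 1).val = F.tau ^ (v 0).val * F.sigma ^ (v 1).val from h,
      inv_mul_cancel_left]
  obtain ⟨h1, h2, -⟩ := F.inter_trivial
    (mul_mem (inv_mem (pow_mem F.tau_mem _)) (pow_mem F.tau_mem _))
    (mul_mem (pow_mem F.sigma_mem _) (inv_mem (pow_mem F.sigma_mem _))) (one_mem _) e
  have e1 := pow_injOn_Iio_orderOf (x := F.tau)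
    (by rw [F.tau_order]; exact ZMod.val_lt (u 0)) (by rw [F.tau_order]; exact ZMod.val_lt (v 0))
    (inv_mul_eq_one.1 h1).symm
  have e2 := pow_injOn_Iio_orderOf (x := F.sigma)
    (by rw [F.sigma_order]; exact ZMod.val_lt (u 1)) (by rw [F.sigma_order]; exact ZMod.val_lt (v 1))
    (mul_inv_eq_one.1 h2).symm
  funext i
  fin_cases i
  · exact ZMod.val_injective 3 e1
  · exact ZMod.val_injective 3 e2

theorem vec_one_zero : F.vec ![1, 0] = F.tau := by simp [vec, ZMod.val_one]

theorem vec_zero_one : F.vec ![0, 1] = F.sigma := by simp [vec, ZMod.val_one]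

theorem exists_vec_of_inverted {r : G} (hr : r ∈ Frame.Zr R) (h : cj z r = r⁻¹) :
    ∃ v, F.vec v = r := by
  obtain ⟨a, ha, b, hb, k, hk, rfl⟩ := F.mem_Zr_iff.1 hr
  have hk1 : k = 1 := by
    have hkz : cj z k = k := by
      obtain ⟨i, rfl⟩ := hk
      exact cj_eq_self.2 (F.x_z.symm.zpow_right i).eq
    have hab : cj z (a * b) = (a * b)⁻¹ := by
      have haA : a ∈ Frame.A t R := zpowers_le.2 F.tau_mem ha
      have hbB : b ∈ Frame.A (z * t) R := zpowers_le.2 F.sigma_mem hb
      have hc : Commute a b := by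
        obtain ⟨i, rfl⟩ := ha
        exact (F.tau_comm hbB).zpow_left i
      rw [cj_hom, F.z_inv haA, F.z_invB hbB, mul_inv_rev, hc.inv_inv.eq]
    have hc : Commute (a * b)⁻¹ k := by
      refine ((F.x_central hk ?_).symm).inv_left
      exact mul_mem (F.A_le (zpowers_le.2 F.tau_mem ha))
        (mem_A.1 (zpowers_le.2 F.sigma_mem hb)).1
    rw [cj_hom, hab, hkz, mul_inv_rev (a * b) k, hc.eq] at h
    have h2 : k * k = 1 := by
      have := mul_right_cancel h
      nth_rw 1 [this]; rw [inv_mul_cancel]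
    rcases mem_zpowers_three F.cube_x hk with e | e | e
    · exact e
    · subst e
      have := orderOf_dvd_of_pow_eq_one (show k ^ 2 = 1 by rw [sq]; exact h2)
      rw [F.order_x] at this; omega
    · subst e
      have := orderOf_dvd_of_pow_eq_one (show (x⁻¹) ^ 2 = 1 by rw [sq]; exact h2)
      rw [orderOf_inv, F.order_x] at this; omega
  obtain ⟨i, hi, rfl⟩ : ∃ i < 3, F.tau ^ i = a := by
    rcases mem_zpowers_three F.tau_cube ha with e | e | e
    · exact ⟨0, by norm_num, by rw [e, pow_zero]⟩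
    · exact ⟨1, by norm_num, by rw [e, pow_one]⟩
    · exact ⟨2, by norm_num, by rw [e]; exact eq_inv_of_mul_eq_one_left (by rw [← pow_succ]; exact F.tau_cube)⟩
  obtain ⟨j, hj, rfl⟩ : ∃ j < 3, F.sigma ^ j = b := by
    rcases mem_zpowers_three F.sigma_cube hb with e | e | e
    · exact ⟨0, by norm_num, by rw [e, pow_zero]⟩
    · exact ⟨1, by norm_num, by rw [e, pow_one]⟩
    · exact ⟨2, by norm_num, by rw [e]; exact eq_inv_of_mul_eq_one_left (by rw [← pow_succ]; exact F.sigma_cube)⟩
  refine ⟨![(i : ZMod 3), (j : ZMod 3)], ?_⟩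
  rw [hk1, mul_one, vec]
  simp [ZMod.val_natCast, Nat.mod_eq_of_lt hi, Nat.mod_eq_of_lt hj]

theorem exists_action (k : Levi t L) (v : Fin 2 → ZMod 3) :
    ∃ w, F.vec w = cj (k : G) (F.vec v) := by
  refine F.exists_vec_of_inverted (F.Levi_Zr k.2 (F.vec_mem_Zr v)) ?_
  rw [cj_cj, ← (F.Levi_z k.2).eq, ← cj_cj, F.z_vec, cj_inv']

/-- The action on the natural module. -/
noncomputable def act (k : Levi t L) : (Fin 2 → ZMod 3) →ₗ[ZMod 3] (Fin 2 → ZMod 3) :=
  AddMonoidHom.toZModLinearMap 3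
    { toFun := fun v => (F.exists_action k v).choose
      map_zero' := F.vec_inj (by rw [(F.exists_action k 0).choose_spec]; simp [vec, cj])
      map_add' := fun u v => F.vec_inj (by
        rw [(F.exists_action k (u + v)).choose_spec, F.vec_add, F.vec_add, cj_hom,
          (F.exists_action k u).choose_spec, (F.exists_action k v).choose_spec]) }

theorem act_spec (k : Levi t L) (v : Fin 2 → ZMod 3) :
    F.vec (F.act k v) = cj (k : G) (F.vec v) := (F.exists_action k v).choose_spec

/-- The matrices of the action. -/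
noncomputable def matHom : Levi t L →* Matrix (Fin 2) (Fin 2) (ZMod 3) where
  toFun k := LinearMap.toMatrix' (F.act k)
  map_one' := by
    rw [show F.act 1 = LinearMap.id from LinearMap.ext fun v => F.vec_inj (by
      rw [act_spec]; simp [cj]), LinearMap.toMatrix'_id]
  map_mul' a b := by
    rw [← LinearMap.toMatrix'_comp]
    congr 1
    refine LinearMap.ext fun v => F.vec_inj ?_
    rw [LinearMap.comp_apply, act_spec, act_spec, act_spec, cj_cj, Subgroup.coe_mul]

/-- The action as a homomorphism to `GL₂(3)`. -/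
noncomputable def psi : Levi t L →* GL (Fin 2) (ZMod 3) := F.matHom.toHomUnits

theorem psi_spec (k : Levi t L) (v : Fin 2 → ZMod 3) :
    F.vec (((F.psi k : GL (Fin 2) (ZMod 3)) : Matrix (Fin 2) (Fin 2) (ZMod 3)).mulVec v) =
      cj (k : G) (F.vec v) := by
  have : ((F.psi k : GL (Fin 2) (ZMod 3)) : Matrix (Fin 2) (Fin 2) (ZMod 3)) =
      LinearMap.toMatrix' (F.act k) := rfl
  rw [this, LinearMap.toMatrix'_mulVec, act_spec]

theorem z_not_fix : cj z F.tau ≠ F.tau := by
  intro h
  rw [F.z_inv F.tau_mem] at h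
  have h2 : F.tau ^ 2 = 1 := by rw [sq]; nth_rw 1 [← h]; rw [inv_mul_cancel]
  have := orderOf_dvd_of_pow_eq_one h2
  rw [F.tau_order] at this
  omega

theorem psi_injective : Function.Injective F.psi := by
  rw [← MonoidHom.ker_eq_bot_iff]
  have hnormal : F.psi.ker.Normal := MonoidHom.normal_ker F.psi
  have h : F.psi.ker.map (Levi t L).subtype = ⊥ := by
    refine F.faithful (map_subtype_le _) ?_ ?_
    · intro k hk m hm
      obtain ⟨n, hn, rfl⟩ := Subgroup.mem_map.1 hm
      refine Subgroup.mem_map.2 ⟨_, hnormal.conj_mem n hn ⟨k, hk⟩, ?_⟩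
      simp [cj]
    · intro hm
      obtain ⟨n, hn, hnz⟩ := Subgroup.mem_map.1 hm
      refine F.z_not_fix ?_
      have hk' : F.psi n = 1 := MonoidHom.mem_ker.1 hn
      have := F.psi_spec n ![1, 0]
      rw [hk', Units.val_one, Matrix.one_mulVec, F.vec_one_zero] at this
      rw [Subgroup.coe_subtype] at hnz
      rw [hnz] at this
      exact this.symm
  exact (Subgroup.map_eq_bot_iff_of_injective _ (Levi t L).subtype_injective).1 h

theorem psi_bijective : Function.Bijective F.psi :=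
  (Nat.bijective_iff_injective_and_card _).2 ⟨F.psi_injective, by rw [F.card_Levi, gl_card]⟩

/-- The Levi complement moves any nontrivial element of the module to any other. -/
theorem transitive (u v : Fin 2 → ZMod 3) (hu : u ≠ 0) (hv : v ≠ 0) :
    ∃ k ∈ Levi t L, cj k (F.vec u) = F.vec v := by
  obtain ⟨M, hM, hMv⟩ := gl_trans u v hu hv
  obtain ⟨⟨k, hk⟩, e⟩ := F.psi_bijective.2 (Matrix.GeneralLinearGroup.mkOfDetNeZero M hM)
  refine ⟨k, hk, ?_⟩
  have := F.psi_spec ⟨k, hk⟩ u
  rw [e] at this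
  rw [← this]
  exact congrArg F.vec hMv

theorem exists_vec_A {a : G} (ha : a ∈ Frame.A t R) (hc : a ∈ Frame.Zr R) : ∃ v, F.vec v = a :=
  F.exists_vec_of_inverted hc (F.z_inv ha)

theorem exists_vec_B {b : G} (hb : b ∈ Frame.A (z * t) R) (hc : b ∈ Frame.Zr R) :
    ∃ v, F.vec v = b :=
  F.exists_vec_of_inverted hc (F.z_invB hb)

/-- The central elements of `A` and of `B` are conjugate. -/
theorem isConj_AB {a b : G} (ha : a ∈ Frame.A t R) (hac : a ∈ Frame.Zr R) (ha1 : a ≠ 1)
    (hb : b ∈ Frame.A (z * t) R) (hbc : b ∈ Frame.Zr R) (hb1 : b ≠ 1) : IsConj a b := by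
  obtain ⟨u, rfl⟩ := F.exists_vec_A ha hac
  obtain ⟨v, rfl⟩ := F.exists_vec_B hb hbc
  have h0 : F.vec 0 = 1 := by simp [vec]
  obtain ⟨k, -, hk⟩ := F.transitive u v (fun h => ha1 (h ▸ h0)) (fun h => hb1 (h ▸ h0))
  exact isConj_iff.2 ⟨k, hk⟩

/-- `y` fixes exactly one line of the module, one of the two eigenlines of `t`. -/
theorem y_not_fix_both : ¬ (Commute y F.tau ∧ Commute y F.sigma) := by
  rintro ⟨h1, h2⟩
  have hy : F.psi ⟨y, F.L_le_Levi F.y_mem⟩ = 1 := by
    apply Units.ext
    refine Matrix.ext_of_mulVec_single fun i => F.vec_inj ?_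
    rw [F.psi_spec, Units.val_one, Matrix.one_mulVec]
    refine cj_eq_self.2 ?_
    exact ((h1.pow_right _).mul_right (h2.pow_right _)).eq
  exact F.y_ne (congrArg Subtype.val (F.psi_injective (hy.trans (map_one F.psi).symm)))

theorem exists_fixed_vec : ∃ v : Fin 2 → ZMod 3, v ≠ 0 ∧ cj y (F.vec v) = F.vec v := by
  haveI : Fact (Nat.Prime 3) := ⟨Nat.prime_three⟩
  set k : Levi t L := ⟨y, F.L_le_Levi F.y_mem⟩
  let σ : Equiv.Perm (Fin 2 → ZMod 3) :=
    { toFun := F.act k
      invFun := F.act k⁻¹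
      left_inv := fun v => F.vec_inj (by rw [act_spec, act_spec, cj_cj]; simp [cj])
      right_inv := fun v => F.vec_inj (by rw [act_spec, act_spec, cj_cj]; simp [cj]) }
  have hσ3 : σ ^ 3 = 1 := Equiv.ext fun v => F.vec_inj (by
    simp only [pow_succ, pow_zero, one_mul, Equiv.Perm.mul_apply, Equiv.Perm.one_apply]
    show F.vec (F.act k (F.act k (F.act k v))) = _
    rw [act_spec, act_spec, act_spec, cj_cj, cj_cj]
    show cj (y * y * y) _ = _
    rw [show y * y * y = y ^ 3 by simp [pow_succ, mul_assoc], F.cube_y]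
    simp [cj])
  obtain ⟨v, hv, hne⟩ := Equiv.Perm.exists_fixed_point_of_prime' (p := 3) (n := 1)
    (by simp [ZMod.card]) (by simpa using hσ3) (a := (0 : Fin 2 → ZMod 3)) (map_zero (F.act k))
  refine ⟨v, hne, ?_⟩
  rw [← F.act_spec k v]
  exact congrArg F.vec hv

theorem eigen_dichotomy : Commute y F.tau ∨ Commute y F.sigma := by
  obtain ⟨v, hv0, hv⟩ := F.exists_fixed_vec
  have hty : t * y * t⁻¹ = y⁻¹ := F.inv_y
  -- the image under `t` is fixed too
  have hc : Commute y (F.vec v) := cj_eq_self_iff.1 hv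
  have hc' : Commute y (cj t (F.vec v)) := by
    have := (hc.inv_left.map (MulAut.conj t).toMonoidHom)
    have e : cj t y⁻¹ = y := by rw [cj_inv', F.inv_y, inv_inv]
    have h2 : Commute (cj t y⁻¹) (cj t (F.vec v)) := this
    rwa [e] at h2
  have htv : cj t (F.vec v) = F.tau ^ (v 0).val * (F.sigma ^ (v 1).val)⁻¹ := by
    rw [vec, cj_hom, cj_eq_self.2 ((mem_A.1 (pow_mem F.tau_mem _)).2.symm.eq),
      F.t_invB (pow_mem F.sigma_mem _)]
  have hτ2 : Commute y ((F.tau ^ (v 0).val) * (F.tau ^ (v 0).val)) := by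
    have h := hc.mul_right hc'
    rw [htv, vec] at h
    have e : F.tau ^ (v 0).val * F.sigma ^ (v 1).val * (F.tau ^ (v 0).val * (F.sigma ^ (v 1).val)⁻¹) =
        F.tau ^ (v 0).val * F.tau ^ (v 0).val := by
      rw [((F.tau_sigma.symm.pow_pow _ _)).mul_mul_mul_comm, mul_inv_cancel, mul_one]
    rwa [e] at h
  rcases (show v 0 = 0 ∨ v 0 ≠ 0 from em _) with h0 | h0
  · right
    have hv1 : v 1 ≠ 0 := fun h1 => hv0 (funext fun i => by fin_cases i <;> assumption)
    have hvec : F.vec v = F.sigma ^ (v 1).val := by rw [vec, h0, ZMod.val_zero, pow_zero, one_mul]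
    rw [hvec] at hc
    have hmem : F.sigma ∈ zpowers (F.sigma ^ (v 1).val) := by
      rw [zpowers_eq_of_mem F.sigma_order (npow_mem_zpowers _ _) ?_]
      · exact mem_zpowers _
      · intro h
        have := orderOf_dvd_of_pow_eq_one h
        rw [F.sigma_order] at this
        have := Nat.eq_zero_of_dvd_of_lt this (ZMod.val_lt _)
        exact hv1 ((ZMod.val_eq_zero _).1 this)
    obtain ⟨i, hi⟩ := hmem
    rw [← hi]
    exact hc.zpow_right i
  · left
    have hmem : F.tau ∈ zpowers (F.tau ^ ((v 0).val + (v 0).val)) := by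
      rw [zpowers_eq_of_mem F.tau_order (npow_mem_zpowers _ _) ?_]
      · exact mem_zpowers _
      · intro h
        have := orderOf_dvd_of_pow_eq_one h
        rw [F.tau_order] at this
        have h3 := ZMod.val_lt (v 0)
        have h4 : (v 0).val ≠ 0 := fun e => h0 ((ZMod.val_eq_zero _).1 e)
        omega
    rw [← pow_add] at hτ2
    obtain ⟨i, hi⟩ := hmem
    rw [← hi]
    exact hτ2.zpow_right i

end Frame

end CfsgLib.G2TwoLocal.Mixed
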