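import Cfsg.Agent.Lib.G2TwoLocal.MixedModule

/-!
# `G₂(3)` from 2-local data, the amalgam: one parabolic
-/

set_option autoImplicit false
set_option linter.style.haveILetI false
set_option linter.unusedSectionVars false

namespace CfsgLib.G2TwoLocal.Mixed

open Cfsg Subgroup
open CfsgLib.G2Three (cj)
open scoped Pointwise commutatorElement

universe u

variable {G : Type u} [Group G] [Finite G]

namespace Frame

variable {z t x y : G} {L R : Subgroup G} (F : Frame z t x y L R)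
include F

theorem mem_R_of_three {N : Subgroup G} (hN : N ≤ Par x)
    (hn : ∀ g ∈ Par x, ∀ n ∈ N, cj g n ∈ N) (hp : IsPGroup 3 N) : N ≤ R := by
  haveI : Fact (Nat.Prime 3) := ⟨Nat.prime_three⟩
  have hNn : N ≤ normalizer (R : Set G) := hN.trans F.Par_le_normalizer_R
  have hsup : IsPGroup 3 (N ⊔ R : Subgroup G) :=
    IsPGroup.to_sup_of_normal_right' hp F.isPGroup_R hNn
  let M : Subgroup G := (N ⊔ R) ⊓ Levi t L
  have hM : M = ⊥ := by
    refine F.faithful inf_le_right (fun k hk m hm => ⟨?_, ?_⟩) (fun hz => ?_)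
    · have hk1 : ∀ w ∈ N ⊔ R, cj k w ∈ N ⊔ R := by
        intro w hw
        have hle : N ⊔ R ≤ (N ⊔ R).comap (MulAut.conj k).toMonoidHom :=
          sup_le (fun n hn' => mem_sup_left (hn k (F.Levi_le_Par hk) n hn'))
            (fun r hr => mem_sup_right (F.Par_normal_R (F.Levi_le_Par hk) hr))
        exact hle hw
      exact hk1 m hm.1
    · exact (Levi t L).mul_mem ((Levi t L).mul_mem hk hm.2) ((Levi t L).inv_mem hk)
    · obtain ⟨n, hzn⟩ := hsup ⟨z, hz.1⟩
      have h3 : z ^ (3 ^ n) = 1 := congrArg Subtype.val hzn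
      have := orderOf_dvd_of_pow_eq_one h3
      rw [F.small.order_a] at this
      exact absurd (Nat.prime_two.dvd_of_dvd_pow this) (by norm_num)
  intro n hn'
  obtain ⟨r, hr, k, hk, rfl⟩ := F.Par_decompose (hN hn')
  have hkM : k ∈ M := ⟨by
    have := mul_mem (mem_sup_right (inv_mem hr) : r⁻¹ ∈ N ⊔ R) (mem_sup_left hn' : r * k ∈ N ⊔ R)
    rwa [inv_mul_cancel_left] at this, hk⟩
  rw [hM, mem_bot] at hkM
  rw [hkM, mul_one]
  exact hr

theorem pCore_eq : pCoreOf 3 (Par x) = R := by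
  refine le_antisymm (F.mem_R_of_three (map_subtype_le _) (fun g hg n hn => ?_)
    (Base.isPGroup_map_pCore 3 _)) ?_
  · exact (mem_normalizer_iff.1 (Base.le_normalizer_map_pCore (p := 3) (Par x) hg) n).1 hn
  · exact Base.le_map_pCore F.R_le_Par F.Par_le_normalizer_R F.isPGroup_R

theorem R_normal : (R.subgroupOf (Par x)).Normal :=
  Subgroup.normal_subgroupOf_of_le_normalizer F.Par_le_normalizer_R

theorem normal_pCore : ((pCoreOf 3 (Par x)).subgroupOf (Par x)).Normal := by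
  rw [F.pCore_eq]; exact F.R_normal

theorem exists_quot [(R.subgroupOf (Par x)).Normal] :
    Nonempty (↥(Par x) ⧸ R.subgroupOf (Par x) ≃* GL (Fin 2) (ZMod 3)) := by
  let f : Levi t L →* ↥(Par x) ⧸ R.subgroupOf (Par x) :=
    (QuotientGroup.mk' _).comp (Subgroup.inclusion F.Levi_le_Par)
  have hinj : Function.Injective f := by
    rw [← MonoidHom.ker_eq_bot_iff, Subgroup.eq_bot_iff_forall]
    intro k hk
    have h := (QuotientGroup.eq_one_iff _).1 (MonoidHom.mem_ker.1 hk)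
    rw [Subgroup.mem_subgroupOf] at h
    exact Subtype.ext (F.Levi_inf_R k.2 h)
  have hsurj : Function.Surjective f := by
    intro q
    obtain ⟨⟨g, hg⟩, rfl⟩ := QuotientGroup.mk'_surjective _ q
    obtain ⟨r, hr, k, hk, rfl⟩ := F.Par_decompose hg
    refine ⟨⟨k, hk⟩, ?_⟩
    have hmul : (⟨r * k, hg⟩ : Par x) = ⟨r, F.R_le_Par hr⟩ * ⟨k, F.Levi_le_Par hk⟩ := rfl
    have h1 : QuotientGroup.mk' (R.subgroupOf (Par x)) ⟨r, F.R_le_Par hr⟩ = 1 :=
      (QuotientGroup.eq_one_iff _).2 hr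
    rw [hmul, map_mul, h1, one_mul]
    rfl
  exact ⟨(MulEquiv.ofBijective f ⟨hinj, hsurj⟩).symm.trans
    (MulEquiv.ofBijective F.psi F.psi_bijective)⟩

theorem card_Par : Nat.card (Par x) = 11664 := by
  haveI := F.R_normal
  obtain ⟨e⟩ := F.exists_quot
  have h := (R.subgroupOf (Par x)).card_mul_index
  rw [Subgroup.index_eq_card, Nat.card_congr e.toEquiv, gl_card,
    Nat.card_congr (subgroupOfEquivOfLe F.R_le_Par).toEquiv, F.card_R] at h
  omega

theorem norm_commutator : normalizer ((⁅pCoreOf 3 (Par x), pCoreOf 3 (Par x)⁆ : Subgroup G) : Set G) =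
    Par x := by
  rw [F.pCore_eq, F.comm_eq]; rfl

theorem quot_pCore [((pCoreOf 3 (Par x)).subgroupOf (Par x)).Normal] :
    Nonempty (↥(Par x) ⧸ (pCoreOf 3 (Par x)).subgroupOf (Par x) ≃* GL (Fin 2) (ZMod 3)) := by
  haveI := F.R_normal
  obtain ⟨e⟩ := F.exists_quot
  exact ⟨(QuotientGroup.quotientMulEquivOfEq (by rw [F.pCore_eq])).trans e⟩

/-- An element acting trivially modulo the centre of `R`, or on it modulo the derived group. -/
theorem mem_R_of_trivial_top {g : G} (hg : g ∈ Par x)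
    (h : ∀ r ∈ R, g * r * g⁻¹ * r⁻¹ ∈ Frame.Zr R) : g ∈ R := by
  obtain ⟨r, hr, k, hk, rfl⟩ := F.Par_decompose hg
  have hZ : ∀ {w u : G}, w ∈ Frame.Zr R → u ∈ R → cj u w = w := fun {w u} hw hu =>
    cj_eq_self.2 ((mem_Zr.1 hw).2 u hu).symm.eq
  have hkr : ∀ s ∈ R, cj k s * s⁻¹ ∈ Frame.Zr R := by
    intro s hs
    have h1 := h s hs
    have h2 : r * s * r⁻¹ * s⁻¹ ∈ Frame.Zr R := zpowers_le.2 F.x_mem_Zr (F.comm_R hr hs)
    have e : r * k * s * (r * k)⁻¹ * s⁻¹ = cj r (cj k s * s⁻¹) * (r * s * r⁻¹ * s⁻¹) := by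
      simp only [cj]; group
    rw [e] at h1
    have h3 : cj r (cj k s * s⁻¹) ∈ Frame.Zr R := by
      have := mul_mem h1 (inv_mem h2)
      rwa [mul_inv_cancel_right] at this
    have h4 := hZ h3 (inv_mem hr)
    rw [cj_cj, inv_mul_cancel] at h4
    have h5 : cj k s * s⁻¹ = cj r (cj k s * s⁻¹) := by
      refine Eq.trans ?_ h4
      simp [cj]
    rw [h5]; exact h3
  let K : Subgroup G :=
    { carrier := {m | m ∈ Levi t L ∧ ∀ s ∈ R, cj m s * s⁻¹ ∈ Frame.Zr R}
      one_mem' := ⟨one_mem _, fun s _ => by simp [cj]⟩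
      mul_mem' := fun {m n} hm hn => ⟨mul_mem hm.1 hn.1, fun s hs => by
        have hns : cj n s ∈ R := (mem_normalizer_iff.1 (F.Levi_R hn.1) s).1 hs
        have := mul_mem (hm.2 _ hns) (hn.2 s hs)
        rwa [← mul_assoc, inv_mul_cancel_right, cj_cj] at this⟩
      inv_mem' := fun {m} hm => ⟨inv_mem hm.1, fun s hs => by
        have hms : cj m⁻¹ s ∈ R := (mem_normalizer_iff.1 (F.Levi_R (inv_mem hm.1)) s).1 hs
        have := inv_mem (hm.2 _ hms)
        rw [cj_cj, mul_inv_cancel, mul_inv_rev, inv_inv] at this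
        simpa [cj] using this⟩ }
  have hK : K = ⊥ := by
    refine F.faithful (fun m hm => hm.1) (fun m hm n hn => ⟨mul_mem (mul_mem hm hn.1) (inv_mem hm),
      fun s hs => ?_⟩) (fun hz => ?_)
    · have hs' : cj m⁻¹ s ∈ R := (mem_normalizer_iff.1 (F.Levi_R (inv_mem hm)) s).1 hs
      have := F.Levi_Zr hm (hn.2 _ hs')
      rw [cj_hom, cj_inv', cj_cj, cj_cj, cj_cj, mul_inv_cancel] at this
      simpa [cj, mul_assoc] using this
    · obtain ⟨a, ha, hna⟩ := F.exists_noncentral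
      have := hz.2 a (F.A_le ha)
      rw [F.z_inv ha] at this
      refine hna ?_
      have e : a = a⁻¹ * a⁻¹ := by
        rw [← mul_inv_rev]
        exact eq_inv_of_mul_eq_one_left (by rw [← mul_assoc, ← sq, ← pow_succ]; exact F.cube_A ha)
      rw [e]
      exact this
  have : k ∈ K := ⟨hk, hkr⟩
  rw [hK, mem_bot] at this
  rw [this, mul_one]; exact hr

theorem mem_R_of_trivial_bottom {g : G} (hg : g ∈ Par x)
    (h : ∀ w ∈ Frame.Zr R, g * w * g⁻¹ * w⁻¹ ∈ zpowers x) : g ∈ R := by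
  obtain ⟨r, hr, k, hk, rfl⟩ := F.Par_decompose hg
  suffices k = 1 by rw [this, mul_one]; exact hr
  have hk1 : F.psi ⟨k, hk⟩ = 1 := by
    apply Units.ext
    refine Matrix.ext_of_mulVec_single fun i => F.vec_inj ?_
    rw [F.psi_spec, Units.val_one, Matrix.one_mulVec]
    set w := F.vec (Pi.single i 1) with hwdef
    have hw : w ∈ Frame.Zr R := F.vec_mem_Zr _
    have hr' : cj r (cj k w) = cj k w :=
      cj_eq_self.2 ((mem_Zr.1 (F.Levi_Zr hk hw)).2 r hr).symm.eq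
    have h1 : cj (r * k) w * w⁻¹ ∈ zpowers x := h w hw
    rw [← cj_cj, hr'] at h1
    show cj k w = w
    obtain ⟨v, hv⟩ := F.exists_action ⟨k, hk⟩ (Pi.single i 1)
    rw [← hwdef] at hv
    have hv' : F.vec v = cj k w := hv
    have hneg : w⁻¹ = F.vec (-(Pi.single i 1)) := by
      refine inv_eq_of_mul_eq_one_right ?_
      rw [hwdef, ← F.vec_add, add_neg_cancel]
      simp [vec]
    rw [← hv', hneg, ← F.vec_add] at h1
    have h2 := F.z_vec (v + -(Pi.single i 1))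
    have h3 : cj z (F.vec (v + -(Pi.single i 1))) = F.vec (v + -(Pi.single i 1)) := by
      obtain ⟨j, hj⟩ := h1
      rw [← show x ^ j = F.vec (v + -(Pi.single i 1)) from hj]
      exact cj_eq_self.2 (F.x_z.symm.zpow_right j).eq
    have h4 : F.vec (v + -(Pi.single i 1)) = F.vec 0 := by
      rw [h3] at h2
      have hsq : F.vec (v + -(Pi.single i 1)) ^ 2 = 1 := by
        rw [sq]; nth_rw 1 [h2]; rw [inv_mul_cancel]
      have hcube : F.vec (v + -(Pi.single i 1)) ^ 3 = 1 := by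
        obtain ⟨j, hj⟩ := h1
        rw [← show x ^ j = F.vec (v + -(Pi.single i 1)) from hj, ← zpow_natCast _ 3, ← zpow_mul,
          mul_comm, zpow_mul, zpow_natCast, F.cube_x, one_zpow]
      rw [pow_succ, hsq, one_mul] at hcube
      rw [hcube]; simp [vec]
    have h5 := F.vec_inj h4
    rw [add_neg_eq_zero] at h5
    rw [← hv', h5]
  exact congrArg Subtype.val (F.psi_injective (hk1.trans (map_one F.psi).symm))

theorem mod_spec (Q Z D : Subgroup G) (hQ : Q = pCoreOf 3 (Par x))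
    (hZ : Z = Q ⊓ centralizer (Q : Set G)) (hD : D = ⁅Q, Q⁆) :
    (Z.subgroupOf Q).index = 9 ∧ D ≤ Z ∧ (D.subgroupOf Z).index = 9 ∧
    (∀ g ∈ Par x, g ∈ Q ↔ ∀ r ∈ Q, g * r * g⁻¹ * r⁻¹ ∈ Z) ∧
    (∀ g ∈ Par x, g ∈ Q ↔ ∀ w ∈ Z, g * w * g⁻¹ * w⁻¹ ∈ D) := by
  rw [F.pCore_eq] at hQ
  subst Q
  have hZ' : Z = Frame.Zr R := hZ
  subst Z D
  refine ⟨F.relIndex_R, F.comm_eq ▸ zpowers_le.2 F.x_mem_Zr, F.relIndex_Zr,
    fun g hg => ⟨fun h r hr => zpowers_le.2 F.x_mem_Zr (F.comm_R h hr),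
      F.mem_R_of_trivial_top hg⟩, fun g hg => ⟨fun h w hw => ?_, fun h => ?_⟩⟩
  · rw [((mem_Zr.1 hw).2 g h).symm.eq, mul_inv_cancel_right, mul_inv_cancel]
    exact one_mem _
  · exact F.mem_R_of_trivial_bottom hg fun w hw => F.comm_eq ▸ h w hw

/-- No element of order three of the Levi complement can fix a line of a section inverted by `z`. -/
theorem no_line {M M₀ : Subgroup G} (hle : M₀ ≤ M) (hM : M ≤ R)
    (hcard : Nat.card M = 3 * Nat.card M₀)
    (hnM : ∀ k ∈ Levi t L, ∀ m ∈ M, cj k m ∈ M) (hnM₀ : ∀ k ∈ Levi t L, ∀ m ∈ M₀, cj k m ∈ M₀)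
    (hM₀M : ∀ m ∈ M, ∀ w ∈ M₀, cj m w ∈ M₀)
    (hz : ∀ m ∈ M, cj z m * m ∈ M₀) : False := by
  obtain ⟨e⟩ := F.iso
  obtain ⟨u, v, w, hu, hv, hw, huvw⟩ := sl_neg_gen
  -- the elements of `Levi` acting trivially on the section
  have key : ∀ s : SL, s ^ 3 = 1 → ∀ m ∈ M, cj (e.symm s : G) m * m⁻¹ ∈ M₀ := by
    intro s hs m hm
    refine section_three hcard hle (hnM₀ _ (F.L_le_Levi (e.symm s).2))
      (hnM _ (F.L_le_Levi (e.symm s).2)) hM₀M ?_ hm
    rw [← Subgroup.coe_pow, ← map_pow, hs, map_one]; rfl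
  have hz' : ((e.symm u : G) * (e.symm v : G) * (e.symm w : G)) = z := by
    rw [← Subgroup.coe_mul, ← Subgroup.coe_mul, ← map_mul, ← map_mul, huvw]
    have hez : e ⟨z, F.z_mem⟩ = -1 := by
      refine (sl_invol _ ?_).resolve_left ?_
      · rw [← map_mul, ← map_one e]; exact congrArg e (Subtype.ext F.zz)
      · intro h
        have hz1 : z = 1 := congrArg Subtype.val (e.injective (h.trans (map_one e).symm))
        have := F.small.order_a
        rw [hz1, orderOf_one] at this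
        omega
    rw [← hez, MulEquiv.symm_apply_apply]
  have hcomp : ∀ m ∈ M, cj z m * m⁻¹ ∈ M₀ := by
    intro m hm
    have h1 := key w hw m hm
    have hm1 : cj (e.symm w : G) m ∈ M := hnM _ (F.L_le_Levi (e.symm w).2) m hm
    have h2 := key v hv _ hm1
    have hm2 : cj (e.symm v : G) (cj (e.symm w : G) m) ∈ M := hnM _ (F.L_le_Levi (e.symm v).2) _ hm1
    have h3 := key u hu _ hm2
    have := mul_mem (mul_mem h3 h2) h1
    rw [← hz', ← cj_cj, ← cj_cj]
    simpa [mul_assoc] using this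
  -- `z` inverts the section
  obtain ⟨m, hm, hmn⟩ : ∃ m ∈ M, m ∉ M₀ := by
    by_contra h
    push Not at h
    have := Subgroup.card_le_of_le h
    have hp : 0 < Nat.card M₀ := Nat.card_pos
    omega
  have h2 : m * m ∈ M₀ := by
    have := mul_mem (inv_mem (hcomp m hm)) (hz m hm)
    simpa [mul_assoc] using this
  have hodd := F.pow_243 (hM hm)
  apply hmn
  rw [show (243 : ℕ) = 2 * 121 + 1 from rfl, pow_succ, pow_mul, sq] at hodd
  rw [eq_inv_of_mul_eq_one_right hodd]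
  exact inv_mem (pow_mem h2 _)

theorem sq_mem (M₀ : Subgroup G) (hZ : Frame.Zr R ≤ M₀) :
    ∀ m ∈ R, cj z m * m ∈ M₀ := by
  intro m hm
  obtain ⟨a, ha, b, hb, k, hk, rfl⟩ := F.decompose hm
  have haR := F.A_le ha
  have hbR := (mem_A.1 hb).1
  have hkz : cj z k = k := by
    obtain ⟨i, rfl⟩ := hk
    exact cj_eq_self.2 (F.x_z.symm.zpow_right i).eq
  apply hZ
  rw [cj_hom, cj_hom, F.z_inv ha, F.z_invB hb, hkz]
  have e : a⁻¹ * b⁻¹ * k * (a * b * k) = (a⁻¹ * b⁻¹ * a⁻¹⁻¹ * b⁻¹⁻¹) * (k * k) := by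
    have hc : Commute k (a * b) := F.x_central hk (mul_mem haR hbR)
    calc a⁻¹ * b⁻¹ * k * (a * b * k) = a⁻¹ * b⁻¹ * (k * (a * b)) * k := by group
      _ = a⁻¹ * b⁻¹ * (a * b * k) * k := by rw [hc.eq]
      _ = _ := by group
  rw [e]
  exact mul_mem (zpowers_le.2 F.x_mem_Zr (F.comm_R (inv_mem haR) (inv_mem hbR)))
    (mul_mem (zpowers_le.2 F.x_mem_Zr hk) (zpowers_le.2 F.x_mem_Zr hk))

theorem normal_cases {N : Subgroup G} (hN : N ≤ R) (hn : ∀ k ∈ Levi t L, ∀ n ∈ N, cj k n ∈ N) :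
    N ≤ Frame.Zr R ∨ R ≤ N ⊔ Frame.Zr R := by
  by_contra hc
  push Not at hc
  obtain ⟨h1, h2⟩ := hc
  set Z := Frame.Zr R with hZdef
  have hZR : Z ≤ R := inf_le_left
  have hM : N ⊔ Z ≤ R := sup_le hN hZR
  have hlt : Nat.card Z < Nat.card (N ⊔ Z : Subgroup G) := by
    by_contra hle
    have := Subgroup.eq_of_le_of_card_ge (le_sup_right : Z ≤ N ⊔ Z) (not_lt.1 hle)
    exact h1 (le_sup_left.trans this.ge)
  have hlt2 : Nat.card (N ⊔ Z : Subgroup G) < Nat.card R := by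
    by_contra hle
    exact h2 (Subgroup.eq_of_le_of_card_ge hM (not_lt.1 hle)).ge
  have hd1 := Subgroup.card_dvd_of_le hM
  have hd2 := Subgroup.card_dvd_of_le (le_sup_right : Z ≤ N ⊔ Z)
  rw [F.card_Zr] at hlt hd2
  rw [F.card_R] at hd1 hlt2
  obtain ⟨i, hi, e⟩ := (Nat.dvd_prime_pow Nat.prime_three).1
    (show Nat.card (N ⊔ Z : Subgroup G) ∣ 3 ^ 5 by norm_num; exact hd1)
  rw [e] at hlt hlt2
  have hi4 : i = 4 := by interval_cases i <;> omega
  refine F.no_line (M := N ⊔ Z) (M₀ := Z) le_sup_right hM (by rw [e, F.card_Zr, hi4]; norm_num)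
    ?_ (fun k hk m hm => F.Levi_Zr hk hm) ?_ (fun m hm => F.sq_mem Z le_rfl m (hM hm))
  · intro k hk m hm
    have hle : N ⊔ Z ≤ (N ⊔ Z).comap (MulAut.conj k).toMonoidHom :=
      sup_le (fun n hn' => mem_sup_left (hn k hk n hn'))
        (fun w hw => mem_sup_right (F.Levi_Zr hk hw))
    exact hle hm
  · intro m hm w hw
    rw [cj_eq_self.2 ((mem_Zr.1 hw).2 m (hM hm)).symm.eq]
    exact hw

theorem central_cases {N : Subgroup G} (hN : N ≤ Frame.Zr R)
    (hn : ∀ k ∈ Levi t L, ∀ n ∈ N, cj k n ∈ N) :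
    N ≤ zpowers x ∨ Frame.Zr R ≤ N ⊔ zpowers x := by
  by_contra hc
  push Not at hc
  obtain ⟨h1, h2⟩ := hc
  have hxZ : zpowers x ≤ Frame.Zr R := zpowers_le.2 F.x_mem_Zr
  have hM : N ⊔ zpowers x ≤ Frame.Zr R := sup_le hN hxZ
  have hlt : Nat.card (zpowers x) < Nat.card (N ⊔ zpowers x : Subgroup G) := by
    by_contra hle
    have := Subgroup.eq_of_le_of_card_ge (le_sup_right : zpowers x ≤ N ⊔ zpowers x) (not_lt.1 hle)
    exact h1 (le_sup_left.trans this.ge)
  have hlt2 : Nat.card (N ⊔ zpowers x : Subgroup G) < Nat.card (Frame.Zr R) := by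
    by_contra hle
    exact h2 (Subgroup.eq_of_le_of_card_ge hM (not_lt.1 hle)).ge
  have hd1 := Subgroup.card_dvd_of_le hM
  rw [Nat.card_zpowers, F.order_x] at hlt
  rw [F.card_Zr] at hd1 hlt2
  obtain ⟨i, hi, e⟩ := (Nat.dvd_prime_pow Nat.prime_three).1
    (show Nat.card (N ⊔ zpowers x : Subgroup G) ∣ 3 ^ 3 by norm_num; exact hd1)
  rw [e] at hlt hlt2
  have hi2 : i = 2 := by interval_cases i <;> omega
  have hR : N ⊔ zpowers x ≤ R := hM.trans inf_le_left
  refine F.no_line (M := N ⊔ zpowers x) (M₀ := zpowers x) le_sup_right hR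
    (by rw [e, hi2, Nat.card_zpowers, F.order_x]; norm_num) ?_ (fun k hk m hm => F.Levi_x hk hm) ?_ ?_
  · intro k hk m hm
    have hle : N ⊔ zpowers x ≤ (N ⊔ zpowers x).comap (MulAut.conj k).toMonoidHom :=
      sup_le (fun n hn' => mem_sup_left (hn k hk n hn'))
        (fun w hw => mem_sup_right (F.Levi_x hk hw))
    exact hle hm
  · intro m hm w hw
    rw [cj_eq_self.2 (F.x_central hw (hR hm)).symm.eq]
    exact hw
  · intro m hm
    obtain ⟨a, ha, b, hb, k, hk, rfl⟩ := F.mem_Zr_iff.1 (hM hm)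
    have haA : a ∈ Frame.A t R := zpowers_le.2 F.tau_mem ha
    have hbB : b ∈ Frame.A (z * t) R := zpowers_le.2 F.sigma_mem hb
    have hkz : cj z k = k := by
      obtain ⟨i, rfl⟩ := hk
      exact cj_eq_self.2 (F.x_z.symm.zpow_right i).eq
    rw [cj_hom, cj_hom, F.z_inv haA, F.z_invB hbB, hkz]
    have hab : Commute a b :=
      (mem_Zr.1 (zpowers_le.2 F.tau_central ha)).2 b (mem_A.1 hbB).1
    have hc : Commute k (a * b) := F.x_central hk (mul_mem (F.A_le haA) (mem_A.1 hbB).1)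
    have e : a⁻¹ * b⁻¹ * k * (a * b * k) = k * k := by
      calc a⁻¹ * b⁻¹ * k * (a * b * k) = a⁻¹ * b⁻¹ * (k * (a * b)) * k := by group
        _ = a⁻¹ * b⁻¹ * (a * b * k) * k := by rw [hc.eq]
        _ = a⁻¹ * b⁻¹ * (b * a * k) * k := by rw [hab.eq]
        _ = _ := by group
    rw [e]
    exact mul_mem hk hk

end Frame

end CfsgLib.G2TwoLocal.Mixed
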