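import Cfsg.Agent.Lib.G2TwoLocal.Setup

/-!
# Piece A': transitivity on small pairs with their Sylow three-subgroups
-/

set_option autoImplicit false
set_option maxRecDepth 100000
set_option linter.unusedSectionVars false

namespace CfsgLib.G2TwoLocal

open Cfsg Subgroup SetupModel
open CfsgLib.G2Three (cj)

universe u

variable {G : Type u} [Group G]

theorem Setup.exists_fac [Finite G] {H H₁ H₂ : Subgroup G} {z t x₁ x₂ : G}
    (S : Setup H H₁ H₂ z t x₁ x₂) : ∃ ψ₁ ψ₂ : S2 →* G, Fac H H₁ H₂ z ψ₁ ψ₂ := by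
  obtain ⟨e₁⟩ := S.iso₁
  obtain ⟨e₂⟩ := S.iso₂
  set ψ₁ : S2 →* G := H₁.subtype.comp e₁.symm.toMonoidHom with hp1
  set ψ₂ : S2 →* G := H₂.subtype.comp e₂.symm.toMonoidHom with hp2
  have r1 : ψ₁.range = H₁ := by
    ext y
    exact ⟨fun ⟨x, hx⟩ => hx ▸ (e₁.symm x).2, fun hy => ⟨e₁ ⟨y, hy⟩, by simp [hp1]⟩⟩
  have r2 : ψ₂.range = H₂ := by
    ext y
    exact ⟨fun ⟨x, hx⟩ => hx ▸ (e₂.symm x).2, fun hy => ⟨e₂ ⟨y, hy⟩, by simp [hp2]⟩⟩
  have i1 : Function.Injective ψ₁ := Subtype.val_injective.comp e₁.symm.injective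
  have i2 : Function.Injective ψ₂ := Subtype.val_injective.comp e₂.symm.injective
  have hz1 : z ≠ 1 := fun e => by
    have := S.order_z
    rw [e, orderOf_one] at this
    omega
  have key : ∀ (ψ : S2 →* G) (K : Subgroup G), Function.Injective ψ → ψ.range = K → K ≤ H →
      z ∈ K → ψ sN = z := by
    intro ψ K hi hr hK hz
    obtain ⟨A, hA⟩ : z ∈ ψ.range := hr.symm ▸ hz
    have hc : ∀ C, A * C = C * A := fun C => hi (by
      rw [map_mul, map_mul, hA]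
      have hm : ψ C ∈ centralizer ({z} : Set G) := S.cent_z.symm ▸ hK (hr ▸ ⟨C, rfl⟩)
      exact (mem_centralizer_singleton_iff.1 hm).symm)
    rcases center_S2 A (hc _) (hc _) with rfl | rfl
    · exact absurd (hA.symm.trans (map_one ψ)) hz1
    · exact hA
  have hzm : z ∈ H₁ ⊓ H₂ := S.inter.ge (mem_zpowers z)
  exact ⟨ψ₁, ψ₂, i1, i2, r1, r2, key ψ₁ H₁ i1 r1 S.le₁ hzm.1, key ψ₂ H₂ i2 r2 S.le₂ hzm.2, S.inter,
    fun A B => S.comm _ (r1 ▸ ⟨A, rfl⟩) _ (r2 ▸ ⟨B, rfl⟩), S.le₁, S.le₂, S.norm₁, S.norm₂, S.index,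
    S.cent_z.symm⟩

theorem card_cent_conj {a b : G} (g : G) :
    Nat.card (centralizer ({g * a * g⁻¹, g * b * g⁻¹} : Set G)) =
      Nat.card (centralizer ({a, b} : Set G)) := by
  refine (Nat.card_congr ((MulAut.conj g).toEquiv.subtypeEquiv fun x => ?_)).symm
  show x ∈ centralizer ({a, b} : Set G) ↔
    g * x * g⁻¹ ∈ centralizer ({g * a * g⁻¹, g * b * g⁻¹} : Set G)
  rw [mem_cent_pair, mem_cent_pair, conj_mul, conj_mul, conj_mul, conj_mul, mul_left_inj,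
    mul_right_inj, mul_left_inj, mul_right_inj]

namespace Setup

variable [Finite G] {H H₁ H₂ : Subgroup G} {z t x₁ x₂ : G}

theorem P₀_eq : P₀ x₁ x₂ = zpowers x₁ ⊔ zpowers x₂ := by
  rw [P₀, Set.insert_eq, Subgroup.closure_union, ← zpowers_eq_closure, ← zpowers_eq_closure]

variable (S : Setup H H₁ H₂ z t x₁ x₂)
include S

theorem P₀_le_H : P₀ x₁ x₂ ≤ H := by
  rw [P₀, closure_le]
  rintro x (rfl | rfl)
  exacts [S.le₁ S.mem₁, S.le₂ S.mem₂]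

theorem card_P₀_eq : Nat.card (P₀ x₁ x₂) = 9 ∧ ∀ p ∈ P₀ x₁ x₂, p ^ 3 = 1 ∧ cj t p = p⁻¹ := by
  have hc : ∀ (a : zpowers x₁) (b : zpowers x₂),
      Commute ((zpowers x₁).subtype a) ((zpowers x₂).subtype b) := fun a b =>
    S.comm _ (zpowers_le.2 S.mem₁ a.2) _ (zpowers_le.2 S.mem₂ b.2)
  set f := (zpowers x₁).subtype.noncommCoprod (zpowers x₂).subtype hc with hf
  have hr : f.range = P₀ x₁ x₂ := by
    rw [hf, MonoidHom.noncommCoprod_range, range_subtype, range_subtype, P₀_eq]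
  have hd : zpowers x₁ ⊓ zpowers x₂ = ⊥ := by
    have h1 : zpowers x₁ ⊓ zpowers x₂ ≤ zpowers x₁ ⊓ zpowers z :=
      le_inf inf_le_left ((inf_le_inf (zpowers_le.2 S.mem₁) (zpowers_le.2 S.mem₂)).trans S.inter.le)
    refine eq_bot_iff.2 (h1.trans (eq_bot_iff.1 (inf_eq_bot_of_coprime ?_)))
    rw [Nat.card_zpowers, Nat.card_zpowers, S.order₁, S.order_z]
    norm_num
  have hinj : Function.Injective f := by
    refine (MonoidHom.noncommCoprod_injective _ _ _).2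
      ⟨subtype_injective _, subtype_injective _, ?_⟩
    rw [range_subtype, range_subtype, disjoint_iff, hd]
  refine ⟨?_, fun p hp => ?_⟩
  · rw [← hr, Nat.card_congr (MonoidHom.ofInjective hinj).symm.toEquiv, Nat.card_prod,
      Nat.card_zpowers, Nat.card_zpowers, S.order₁, S.order₂]
  · rw [← hr] at hp
    obtain ⟨⟨⟨_, i, rfl⟩, ⟨_, j, rfl⟩⟩, rfl⟩ := hp
    have hij : Commute (x₁ ^ i) (x₂ ^ j) := (S.comm _ S.mem₁ _ S.mem₂).zpow_zpow i j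
    show (x₁ ^ i * x₂ ^ j) ^ 3 = 1 ∧ cj t (x₁ ^ i * x₂ ^ j) = (x₁ ^ i * x₂ ^ j)⁻¹
    constructor
    · rw [hij.mul_pow, ← zpow_natCast (x₁ ^ i), ← zpow_natCast (x₂ ^ j), ← zpow_mul, ← zpow_mul,
        mul_comm i, mul_comm j, zpow_mul, zpow_mul, zpow_natCast, zpow_natCast, ← S.order₁,
        pow_orderOf_eq_one, S.order₁, ← S.order₂, pow_orderOf_eq_one, one_zpow, one_zpow, one_mul]
    · have e1 : cj t (x₁ ^ i) = (x₁⁻¹) ^ i := by rw [← S.inv₁]; exact conj_zpow.symm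
      have e2 : cj t (x₂ ^ j) = (x₂⁻¹) ^ j := by rw [← S.inv₂]; exact conj_zpow.symm
      show t * (x₁ ^ i * x₂ ^ j) * t⁻¹ = _
      rw [← conj_mul, show t * x₁ ^ i * t⁻¹ = _ from e1, show t * x₂ ^ j * t⁻¹ = _ from e2,
        hij.eq, mul_inv_rev, inv_zpow, inv_zpow]

/-- The centraliser in `H` of the Sylow three-subgroup. -/
theorem cent_P₀ {g : G} (hg : g ∈ H) (h1 : g * x₁ = x₁ * g) (h2 : g * x₂ = x₂ * g) :
    ∃ p ∈ P₀ x₁ x₂, g = p ∨ g = p * z := by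
  obtain ⟨ψ₁, ψ₂, F⟩ := S.exists_fac
  have m1 : x₁ ∈ P₀ x₁ x₂ := subset_closure (Or.inl rfl)
  have m2 : x₂ ∈ P₀ x₁ x₂ := subset_closure (Or.inr rfl)
  obtain ⟨X, hX⟩ : x₁ ∈ ψ₁.range := F.range₁.symm ▸ S.mem₁
  obtain ⟨Y, hY⟩ : x₂ ∈ ψ₂.range := F.range₂.symm ▸ S.mem₂
  have hXo : orderOf X = 3 := by rw [← orderOf_injective ψ₁ F.inj₁, hX, S.order₁]
  have hYo : orderOf Y = 3 := by rw [← orderOf_injective ψ₂ F.inj₂, hY, S.order₂]
  have hX3 : X ^ 3 = 1 := orderOf_dvd_iff_pow_eq_one.1 hXo.dvd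
  have hY3 : Y ^ 3 = 1 := orderOf_dvd_iff_pow_eq_one.1 hYo.dvd
  have hX1 : X ≠ 1 := fun e => by rw [e, orderOf_one] at hXo; omega
  have hY1 : Y ≠ 1 := fun e => by rw [e, orderOf_one] at hYo; omega
  by_cases hin : g ∈ H₁ ⊔ H₂
  · rw [← F.pair_range] at hin
    obtain ⟨⟨A, B⟩, rfl⟩ := hin
    rw [F.pair_apply] at h1 h2 ⊢
    have hA : A * X = X * A := F.inj₁ (by
      rw [map_mul, map_mul]
      rw [← hX] at h1
      rw [mul_assoc, ← (F.comm X B).eq, ← mul_assoc, ← mul_assoc] at h1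
      exact mul_right_cancel h1)
    have hB : B * Y = Y * B := F.inj₂ (by
      rw [map_mul, map_mul]
      rw [← hY] at h2
      rw [← mul_assoc, ← (F.comm A Y).eq, mul_assoc, mul_assoc] at h2
      exact mul_left_cancel h2)
    obtain ⟨i, hi⟩ := cent_three A X hX3 hX1 hA
    obtain ⟨j, hj⟩ := cent_three B Y hY3 hY1 hB
    refine ⟨x₁ ^ (i : ℕ) * x₂ ^ (j : ℕ), mul_mem (pow_mem m1 _) (pow_mem m2 _), ?_⟩
    have hzc : ∀ p ∈ P₀ x₁ x₂, z * p = p * z := fun p hp => (F.mem_H.1 (S.P₀_le_H hp)).symm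
    rcases hi with hi | hi <;> rcases hj with hj | hj <;> rw [hi, hj] <;>
      simp only [map_mul, map_pow, hX, hY, F.z₁, F.z₂]
    · exact Or.inl trivial
    · right; rw [hzc _ (pow_mem m2 _)]; group
    · right
      rw [mul_assoc, hzc _ (mul_mem (pow_mem m1 _) (pow_mem m2 _))]
    · left
      rw [show z * x₁ ^ (i : ℕ) * (z * x₂ ^ (j : ℕ)) = z * (x₁ ^ (i : ℕ) * z) * x₂ ^ (j : ℕ) by group,
        ← hzc _ (pow_mem m1 _), ← mul_assoc z z, F.zz, one_mul]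
  · exfalso
    have hgt : g * t ∈ H₁ ⊔ H₂ := (F.mul_mem_inner hg S.mem_t).2 (iff_of_false hin S.outer_t)
    rw [← F.pair_range] at hgt
    obtain ⟨⟨A, B⟩, hAB⟩ := hgt
    rw [F.pair_apply] at hAB
    have hg' : g = ψ₁ A * ψ₂ B * t⁻¹ := eq_mul_inv_of_mul_eq hAB.symm
    have ht : t⁻¹ * x₁ * t = x₁⁻¹ := by
      have := S.inv₁
      unfold cj at this
      have h2t : t * t = 1 := by rw [← pow_two, ← S.order_t, pow_orderOf_eq_one]
      rwa [inv_eq_of_mul_eq_one_right h2t] at this ⊢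
    refine (no_invert A X hX3 hX1).2 (F.inj₁ ?_)
    rw [map_mul, map_mul, map_inv, map_inv, hX, ← ht]
    have hc : ψ₂ B * x₁ = x₁ * ψ₂ B := by rw [← hX, (F.comm X B).eq]
    have hgx : g * x₁ * g⁻¹ = x₁ := by rw [h1, mul_inv_cancel_right]
    have hxA : ψ₁ A * x₁⁻¹ * (ψ₁ A)⁻¹ = x₁ := by
      rw [← ht]
      calc ψ₁ A * (t⁻¹ * x₁ * t) * (ψ₁ A)⁻¹
          = ψ₁ A * (ψ₂ B * (t⁻¹ * x₁ * t) * (ψ₂ B)⁻¹) * (ψ₁ A)⁻¹ := by
            rw [ht, show ψ₂ B * x₁⁻¹ = x₁⁻¹ * ψ₂ B from (Commute.inv_right hc).eq,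
              mul_inv_cancel_right]
        _ = g * x₁ * g⁻¹ := by rw [hg']; group
        _ = x₁ := hgx
    rw [ht]
    calc ψ₁ A * x₁ * (ψ₁ A)⁻¹ = (ψ₁ A * x₁⁻¹ * (ψ₁ A)⁻¹)⁻¹ := by group
      _ = x₁⁻¹ := by rw [hxA]

theorem exists_conj_P₀ {P : Subgroup G} (hP : P ≤ H) (hcard : Nat.card P = 9) :
    ∃ h ∈ H, (P₀ x₁ x₂).map (MulAut.conj h).toMonoidHom = P := by
  have : Fact (Nat.Prime 3) := ⟨Nat.prime_three⟩
  have max : ∀ {R : Subgroup G}, R ≤ H → Nat.card R = 9 →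
      ∃ T : Sylow 3 ↥H, (T : Subgroup ↥H) = R.subgroupOf H := by
    intro R hRH hR
    have hc : Nat.card (R.subgroupOf H) = 3 ^ 2 := by
      rw [Nat.card_congr (subgroupOfEquivOfLe hRH).toEquiv, hR]
      norm_num
    obtain ⟨T, hT⟩ := (IsPGroup.of_card (p := 3) (n := 2) hc).exists_le_sylow
    refine ⟨T, (eq_of_le_of_card_ge hT ?_).symm⟩
    obtain ⟨n, hn⟩ := IsPGroup.iff_card.1 T.2
    rw [hn, hc]
    refine Nat.pow_le_pow_right (by norm_num) ?_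
    by_contra h3
    have hd := (pow_dvd_pow 3 (show 3 ≤ n by omega)).trans
      (hn ▸ card_subgroup_dvd_card (T : Subgroup ↥H))
    rw [S.card_H] at hd
    norm_num at hd
  obtain ⟨T, hT⟩ := max S.P₀_le_H S.card_P₀_eq.1
  obtain ⟨T', hT'⟩ := max hP hcard
  obtain ⟨h, hh⟩ := MulAction.exists_smul_eq ↥H T T'
  refine ⟨h, h.2, ?_⟩
  have he : ((P₀ x₁ x₂).subgroupOf H).map (MulAut.conj h).toMonoidHom = P.subgroupOf H := by
    rw [← hT, ← hT', ← hh]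
    rfl
  have := congrArg (Subgroup.map H.subtype) he
  rw [map_map, subgroupOf_map_subtype, inf_eq_left.2 hP] at this
  rw [← this, show H.subtype.comp (MulAut.conj h).toMonoidHom =
    (MulAut.conj (h : G)).toMonoidHom.comp H.subtype from MonoidHom.ext fun _ => rfl, ← map_map,
    subgroupOf_map_subtype, inf_eq_left.2 S.P₀_le_H]

theorem move_aux {a b : G} {P : Subgroup G} (ha : orderOf a = 2) (hb : orderOf b = 2)
    (hab : Commute a b) (h8 : Nat.card (centralizer ({a, b} : Set G)) = 8) (hP9 : Nat.card P = 9)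
    (hPa : P ≤ centralizer ({a} : Set G)) (hPb : ∀ p ∈ P, cj b p = p⁻¹) :
    ∃ g : G, cj g z = a ∧ (cj g t = b ∨ cj g t = a * b) ∧
      (P₀ x₁ x₂).map (MulAut.conj g).toMonoidHom = P := by
  have hH : ∀ {g : G}, g ∈ H ↔ g * z = z * g := fun {g} => by
    rw [← S.cent_z, mem_centralizer_singleton_iff]
  have hcj : ∀ g h x : G, g * h * x * (g * h)⁻¹ = g * (h * x * h⁻¹) * g⁻¹ := fun g h x => by group
  obtain ⟨g₁, hg₁⟩ := isConj_iff.1 (S.invol a ha)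
  set i := g₁⁻¹ * b * g₁ with hi
  have hib : g₁ * i * g₁⁻¹ = b := by rw [hi]; group
  have hiH : i ∈ H := hH.2 <| (MulAut.conj g₁).injective <| by
    show g₁ * (i * z) * g₁⁻¹ = g₁ * (z * i) * g₁⁻¹
    rw [show g₁ * (i * z) * g₁⁻¹ = (g₁ * i * g₁⁻¹) * (g₁ * z * g₁⁻¹) by group,
      show g₁ * (z * i) * g₁⁻¹ = (g₁ * z * g₁⁻¹) * (g₁ * i * g₁⁻¹) by group, hib, hg₁, hab.eq]
  have hio : orderOf i = 2 := by
    rw [← hb, ← hib]
    exact (orderOf_injective (MulAut.conj g₁).toMonoidHom (MulAut.conj g₁).injective i).symm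
  have hi8 : Nat.card (centralizer ({z, i} : Set G)) = 8 := by
    rw [← h8, ← hg₁, ← hib, card_cent_conj]
  obtain ⟨h₁, hh₁, hti⟩ := S.outer_conj i hiH hio (S.outer_of_small i hiH hio hi8)
  set g₂ := g₁ * h₁ with hg₂
  have hza : g₂ * z * g₂⁻¹ = a := by
    rw [hg₂, hcj, hH.1 hh₁, mul_inv_cancel_right, hg₁]
  have htb : g₂ * t * g₂⁻¹ = b := by
    rw [hg₂, hcj, show h₁ * t * h₁⁻¹ = i from hti, hib]
  set P' := P.map (MulAut.conj g₂⁻¹).toMonoidHom with hP'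
  have hP'H : P' ≤ H := by
    rintro _ ⟨p, hp, rfl⟩
    refine hH.2 <| (MulAut.conj g₂).injective ?_
    show g₂ * (g₂⁻¹ * p * g₂⁻¹⁻¹ * z) * g₂⁻¹ = g₂ * (z * (g₂⁻¹ * p * g₂⁻¹⁻¹)) * g₂⁻¹
    rw [show g₂ * (g₂⁻¹ * p * g₂⁻¹⁻¹ * z) * g₂⁻¹ = p * (g₂ * z * g₂⁻¹) by group,
      show g₂ * (z * (g₂⁻¹ * p * g₂⁻¹⁻¹)) * g₂⁻¹ = (g₂ * z * g₂⁻¹) * p by group, hza]
    exact (mem_centralizer_singleton_iff.1 (hPa hp))
  have hP'9 : Nat.card P' = 9 := by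
    rw [hP', card_map_of_injective (MulAut.conj g₂⁻¹).injective, hP9]
  obtain ⟨h, hh, hhP⟩ := S.exists_conj_P₀ hP'H hP'9
  have hinv : ∀ x ∈ P₀ x₁ x₂, (h⁻¹ * t * h) * x * (h⁻¹ * t * h)⁻¹ = x⁻¹ := by
    intro x hx
    obtain ⟨p, hp, hpx⟩ : h * x * h⁻¹ ∈ P' := hhP.le ⟨x, hx, rfl⟩
    have hp' : p = g₂ * (h * x * h⁻¹) * g₂⁻¹ := by
      rw [← hpx]
      show p = g₂ * (g₂⁻¹ * p * g₂⁻¹⁻¹) * g₂⁻¹
      group
    have h' := hPb p hp
    unfold cj at h'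
    rw [hp', ← htb] at h'
    apply (MulAut.conj (g₂ * h)).injective
    show g₂ * h * (h⁻¹ * t * h * x * (h⁻¹ * t * h)⁻¹) * (g₂ * h)⁻¹ = g₂ * h * x⁻¹ * (g₂ * h)⁻¹
    calc g₂ * h * (h⁻¹ * t * h * x * (h⁻¹ * t * h)⁻¹) * (g₂ * h)⁻¹
        = g₂ * t * g₂⁻¹ * (g₂ * (h * x * h⁻¹) * g₂⁻¹) * (g₂ * t * g₂⁻¹)⁻¹ := by group
      _ = (g₂ * (h * x * h⁻¹) * g₂⁻¹)⁻¹ := h'
      _ = g₂ * h * x⁻¹ * (g₂ * h)⁻¹ := by group
  set c := t * (h⁻¹ * t * h) with hc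
  have hcH : c ∈ H := mul_mem S.mem_t (mul_mem (mul_mem (inv_mem hh) S.mem_t) hh)
  have hcx : ∀ x ∈ P₀ x₁ x₂, c * x = x * c := by
    intro x hx
    apply mul_inv_eq_iff_eq_mul.1
    rw [hc, hcj, hinv x hx]
    have := (S.card_P₀_eq.2 _ (inv_mem hx)).2
    rwa [inv_inv] at this
  obtain ⟨p, hp, hcp⟩ := S.cent_P₀ hcH (hcx _ (subset_closure (Or.inl rfl)))
    (hcx _ (subset_closure (Or.inr rfl)))
  have h2t : t * t = 1 := by rw [← pow_two, ← S.order_t, pow_orderOf_eq_one]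
  have hzz : z * z = 1 := by rw [← pow_two, ← S.order_z, pow_orderOf_eq_one]
  -- a square root of `p` moves `t` to the conjugate of `t`
  set q := p ^ 2 with hq
  have hqP : q ∈ P₀ x₁ x₂ := pow_mem hp 2
  have htq : q⁻¹ * t * q = t * p := by
    have h' := (S.card_P₀_eq.2 _ hqP).2
    unfold cj at h'
    rw [← h']
    calc t * q * t⁻¹ * t * q = t * (q * q) := by group
      _ = t * p := by rw [hq, ← pow_add, pow_succ, (S.card_P₀_eq.2 p hp).1, one_mul]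
  have ht' : h⁻¹ * t * h = t * c := by rw [hc, ← mul_assoc, h2t, one_mul]
  have hk : h * q⁻¹ ∈ H := mul_mem hh (inv_mem (S.P₀_le_H hqP))
  have hkt : (h * q⁻¹) * t * (h * q⁻¹)⁻¹ = t ∨ (h * q⁻¹) * t * (h * q⁻¹)⁻¹ = z * t := by
    rcases hcp with hcp | hcp <;> rw [hcp] at ht'
    · left
      rw [hcj, show q⁻¹ * t * q⁻¹⁻¹ = h⁻¹ * t * h by rw [ht', inv_inv, htq]]
      group
    · right
      have e : q⁻¹ * t * q⁻¹⁻¹ = h⁻¹ * t * h * z := by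
        rw [inv_inv, htq, ht', mul_assoc, mul_assoc, hzz, mul_one]
      rw [hcj, e]
      calc h * (h⁻¹ * t * h * z) * h⁻¹ = t * (h * z * h⁻¹) := by group
        _ = t * z := by rw [hH.1 hh, mul_inv_cancel_right]
        _ = z * t := hH.1 S.mem_t
  refine ⟨g₂ * (h * q⁻¹), ?_, ?_, ?_⟩
  · show g₂ * (h * q⁻¹) * z * (g₂ * (h * q⁻¹))⁻¹ = a
    rw [hcj, hH.1 hk, mul_inv_cancel_right, hza]
  · unfold cj
    rw [hcj g₂ (h * q⁻¹) t]
    rcases hkt with e | e <;> rw [e]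
    · exact Or.inl htb
    · refine Or.inr ?_
      rw [← conj_mul, hza, htb]
  · ext x
    simp only [mem_map, MulEquiv.coe_toMonoidHom, MulAut.conj_apply]
    have hP'' : ∀ w, w ∈ P₀ x₁ x₂ ↔ h * w * h⁻¹ ∈ P' := fun w => by
      rw [← hhP]
      exact (mem_map_iff_mem (f := (MulAut.conj h).toMonoidHom) (MulAut.conj h).injective).symm
    have hP3 : ∀ w, w ∈ P ↔ g₂⁻¹ * w * g₂ ∈ P' := fun w => by
      have := (mem_map_iff_mem (f := (MulAut.conj g₂⁻¹).toMonoidHom) (x := w) (K := P)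
        (MulAut.conj g₂⁻¹).injective).symm
      simpa [hP'] using this
    constructor
    · rintro ⟨w, hw, rfl⟩
      have hw' : q⁻¹ * w * q ∈ P₀ x₁ x₂ := mul_mem (mul_mem (inv_mem hqP) hw) hqP
      rw [hP3]
      convert (hP'' _).1 hw' using 1
      group
    · intro hx
      refine ⟨(g₂ * (h * q⁻¹))⁻¹ * x * (g₂ * (h * q⁻¹)), ?_, by group⟩
      have h0 : h⁻¹ * (g₂⁻¹ * x * g₂) * h ∈ P₀ x₁ x₂ := by
        rw [hP'']
        convert (hP3 x).1 hx using 1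
        group
      convert mul_mem (mul_mem hqP h0) (inv_mem hqP) using 1
      group

end Setup

/-- Piece A': transitivity. -/
theorem move : StmtMove.{u} := by
  intro G _ _ H H₁ H₂ z t x₁ x₂ S a b P ha hb hab h8 hP9 hPa hPb
  exact S.move_aux ha hb hab h8 hP9 hPa hPb

end CfsgLib.G2TwoLocal
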