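import Cfsg.Agent.Lib.G2TwoLocal.Extend
import Cfsg.Agent.Lib.G2TwoLocal.CoreH

/-!
# `G₂(3)` from 2-local data: the common centraliser is not one dimensional

`v ∈ C(x₁, x₂, t)`, `wᵢ` generate `C_{Rᵢ}(z t)`.  If some `wᵢ` moves `v`, a product of the two
moves `x₁` onto a diagonal element of `P₀`.  Otherwise `w₁`, `w₂` are conjugates of the diagonal
element `v` in one Sylow subgroup, so they are equal.
-/

set_option autoImplicit false
set_option linter.style.haveILetI false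
set_option linter.unusedSectionVars false

namespace CfsgLib.G2TwoLocal

open Cfsg Subgroup
open CfsgLib.G2Three (cj)

universe u

variable {G : Type u} [Group G]

theorem zpow_eq_one_of_three {x : G} (hx : x ^ 3 = 1) {n : ℤ} (h : (3 : ℤ) ∣ n) : x ^ n = 1 := by
  obtain ⟨q, rfl⟩ := h
  rw [zpow_mul, show x ^ (3 : ℤ) = 1 by exact_mod_cast hx, one_zpow]

theorem three_dvd_of_zpow {x : G} (hx : x ^ 3 = 1) (h1 : x ≠ 1) {n : ℤ} (h : x ^ n = 1) :
    (3 : ℤ) ∣ n := by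
  have h3 := orderOf_dvd_iff_zpow_eq_one.2 h
  haveI : Fact (Nat.Prime 3) := ⟨Nat.prime_three⟩
  rw [orderOf_eq_prime hx h1] at h3
  exact_mod_cast h3

theorem cj_zpow (g x : G) (n : ℤ) : cj g (x ^ n) = cj g x ^ n := map_zpow (MulAut.conj g) x n

variable [Finite G] {H H₁ H₂ : Subgroup G} {z t x₁ x₂ : G}

/-- The action of `w ∈ C_R(z t)` on an element `x` commuting with the centre `x'` of `R`. -/
theorem exists_action {t x x' v w : G} {R : Subgroup G} (hR : Nat.card R = 27) (hx : x ^ 3 = 1)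
    (hx' : x' ^ 3 = 1) (hx'1 : x' ≠ 1) (hv : v ^ 3 = 1) (hcxx : Commute x x') (hcvx : Commute v x)
    (hcvx' : Commute v x') (htx : cj t x = x⁻¹) (htx' : cj t x' = x'⁻¹) (htv : cj t v = v)
    (htw : cj t w = w⁻¹) (hnorm : x ∈ normalizer (R : Set G)) (hx'R : x' ∈ R) (hvR : v ∈ R)
    (hvn : v ∉ zpowers x') (hwR : w ∈ R) (hwx : ¬ Commute w x) (hwx' : Commute w x')
    (hwv : w * v * w⁻¹ * v⁻¹ ∈ zpowers x') :
    ∃ a b e : ℤ, cj w x = x' ^ b * v ^ a * x ∧ cj w v = x' ^ e * v ∧ ¬ (3 : ℤ) ∣ a ∧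
      (3 : ℤ) ∣ 2 * b - e * a := by
  haveI : Fact (Nat.Prime 3) := ⟨Nat.prime_three⟩
  set K := R ⊓ centralizer ({x} : Set G) with hK
  let f : Fin 3 × Fin 3 → K := fun p => ⟨x' ^ (p.1 : ℕ) * v ^ (p.2 : ℕ),
    mul_mem (pow_mem hx'R _) (pow_mem hvR _), mem_centralizer_singleton_iff.2
      ((hcxx.symm.pow_left _).mul_left (hcvx.pow_left _)).eq⟩
  have hvne : v ≠ 1 := fun h => hvn (h ▸ one_mem _)
  have hf : Function.Injective f := by
    rintro ⟨i, j⟩ ⟨k, l⟩ h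
    have h' : x' ^ (i : ℕ) * v ^ (j : ℕ) = x' ^ (k : ℕ) * v ^ (l : ℕ) := congrArg Subtype.val h
    have hvm : v ^ ((j : ℤ) - (l : ℤ)) ∈ zpowers x' := by
      have e1 : v ^ (j : ℕ) * (v ^ (l : ℕ))⁻¹ = (x' ^ (i : ℕ))⁻¹ * x' ^ (k : ℕ) := by
        rw [mul_inv_eq_iff_eq_mul, mul_assoc, ← h', inv_mul_cancel_left]
      rw [zpow_sub, zpow_natCast, zpow_natCast, e1]
      exact mul_mem (inv_mem (pow_mem (mem_zpowers x') _)) (pow_mem (mem_zpowers x') _)
    have hjl : j = l := by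
      by_contra hne
      have hd : ¬ (3 : ℤ) ∣ (j : ℤ) - l := by
        have := j.2; have := l.2; have : (j : ℕ) ≠ l := fun e => hne (Fin.ext e)
        omega
      apply hvn
      have hd' : (3 : ℤ) ∣ ((j : ℤ) - l) * ((j : ℤ) - l) - 1 := by
        have := j.2; have := l.2
        have h3 := Int.mul_emod ((j : ℤ) - l) ((j : ℤ) - l) 3
        rcases (show ((j : ℤ) - l) % 3 = 1 ∨ ((j : ℤ) - l) % 3 = 2 by omega) with e | e <;>
          rw [e] at h3 <;> omega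
      have hpw := zpow_mem hvm ((j : ℤ) - l)
      rw [← zpow_mul, show ((j : ℤ) - l) * ((j : ℤ) - l) = (((j : ℤ) - l) * ((j : ℤ) - l) - 1) + 1
        by ring, zpow_add_one, zpow_eq_one_of_three hv hd', one_mul] at hpw
      exact hpw
    subst hjl
    refine Prod.ext (Fin.ext ?_) rfl
    exact pow_injOn_Iio_orderOf (x := x') (by simp [orderOf_eq_prime hx' hx'1])
      (by simp [orderOf_eq_prime hx' hx'1]) (mul_right_cancel h')
  have hK9 : Nat.card K = 9 := by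
    have h1 : 9 ≤ Nat.card K := by
      refine le_trans ?_ (Nat.card_le_card_of_injective f hf)
      simp
    have h2 : Nat.card K ∣ 3 ^ 3 := by
      rw [show (3 : ℕ) ^ 3 = Nat.card R by rw [hR]; norm_num]
      exact card_dvd_of_le inf_le_left
    obtain ⟨i, hi, hie⟩ := (Nat.dvd_prime_pow Nat.prime_three).1 h2
    have h3 : i ≠ 3 := by
      rintro rfl
      have he : K = R := eq_of_le_of_card_ge inf_le_left (by rw [hie, hR]; norm_num)
      exact hwx (mem_centralizer_singleton_iff.1 (he.ge hwR).2)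
    interval_cases i <;> omega
  have hsurj : Function.Surjective f :=
    ((Nat.bijective_iff_injective_and_card f).2 ⟨hf, by rw [hK9]; simp⟩).2
  -- `x` is trivial on `R ⧸ K`
  set K' := K.subgroupOf R with hK'
  have hidx : K'.index = 3 := by
    have h1 := K'.card_mul_index
    rw [Nat.card_congr (subgroupOfEquivOfLe (inf_le_left : K ≤ R)).toEquiv, hK9, hR] at h1
    omega
  haveI : K'.Normal := normal_of_index_eq_minFac_card (by rw [hidx, hR]; norm_num)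
  let σ : R →* R :=
    { toFun := fun p => ⟨cj x p, (mem_normalizer_iff.1 hnorm p).1 p.2⟩
      map_one' := Subtype.ext (by simp [cj])
      map_mul' := fun p q => Subtype.ext (cj_hom x p q) }
  have hσK : ∀ p ∈ K', σ p ∈ K' := by
    intro p hp
    have he : σ p = p := Subtype.ext (cj_eq_self.2 (mem_centralizer_singleton_iff.1
      (mem_subgroupOf.1 hp).2).symm)
    rw [he]; exact hp
  let τ : R ⧸ K' →* R ⧸ K' := QuotientGroup.map K' K' σ hσK
  let W : R ⧸ K' := QuotientGroup.mk ⟨w, hwR⟩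
  have hW : W ≠ 1 := by
    intro h
    rw [QuotientGroup.eq_one_iff, mem_subgroupOf] at h
    exact hwx (mem_centralizer_singleton_iff.1 h.2)
  have hcardQ : Nat.card (R ⧸ K') = 3 := hidx
  have hgen : zpowers W = ⊤ := by
    refine eq_top_of_card_eq _ ?_
    rw [hcardQ, Nat.card_zpowers]
    refine orderOf_eq_prime ?_ hW
    rw [← hcardQ]
    exact pow_card_eq_one'
  obtain ⟨n, hn⟩ := mem_zpowers_iff.1 (hgen.ge (mem_top (τ W)))
  have hτ : τ (τ (τ W)) = W := by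
    show QuotientGroup.mk (σ (σ (σ ⟨w, hwR⟩))) = W
    congr 1
    refine Subtype.ext ?_
    show cj x (cj x (cj x w)) = w
    rw [cj_cj, cj_cj, mul_assoc, show x * (x * x) = x ^ 3 by rw [pow_three], hx]
    simp [cj]
  rw [← hn, map_zpow, ← hn, map_zpow, map_zpow, ← hn, ← zpow_mul, ← zpow_mul] at hτ
  have hW3 : W ^ 3 = 1 := hcardQ ▸ pow_card_eq_one'
  have hn1 : W ^ n = W := by
    have hd : (3 : ℤ) ∣ n * n * n - 1 :=
      three_dvd_of_zpow hW3 hW (by rw [zpow_sub_one, mul_assoc n n n, hτ, mul_inv_cancel])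
    have hd' : (3 : ℤ) ∣ n - 1 := by
      have h3 := Int.mul_emod (n * n) n 3
      have h3' := Int.mul_emod n n 3
      rcases (show n % 3 = 0 ∨ n % 3 = 1 ∨ n % 3 = 2 by omega) with e | e | e <;>
        simp [e] at h3 h3' <;> omega
    have h := zpow_eq_one_of_three hW3 hd'
    rwa [zpow_sub_one, mul_inv_eq_one] at h
  have hr : ∃ k : K, w * (cj x w)⁻¹ = k := by
    have h1 : QuotientGroup.mk (s := K') (⟨w, hwR⟩ * (σ ⟨w, hwR⟩)⁻¹ : R) = 1 := by
      rw [QuotientGroup.mk_mul, QuotientGroup.mk_inv, show QuotientGroup.mk (σ ⟨w, hwR⟩) = τ W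
        from rfl, ← hn, hn1, mul_inv_cancel]
    rw [QuotientGroup.eq_one_iff, mem_subgroupOf] at h1
    exact ⟨⟨_, h1⟩, rfl⟩
  obtain ⟨k, hk⟩ := hr
  obtain ⟨⟨i, j⟩, hij⟩ := hsurj k
  obtain ⟨e, he⟩ := mem_zpowers_iff.1 hwv
  refine ⟨(j : ℕ), (i : ℕ), e, ?_, ?_, ?_⟩
  · have hk' : w * (cj x w)⁻¹ = x' ^ (i : ℕ) * v ^ (j : ℕ) := by
      rw [hk, ← hij]
    rw [zpow_natCast, zpow_natCast, ← hk']
    simp only [cj]; group
  · rw [he]; simp only [cj]; group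
  have hwx₁ : cj w x = x' ^ ((i : ℕ) : ℤ) * v ^ ((j : ℕ) : ℤ) * x := by
    have hk' : w * (cj x w)⁻¹ = x' ^ (i : ℕ) * v ^ (j : ℕ) := by rw [hk, ← hij]
    rw [zpow_natCast, zpow_natCast, ← hk']
    simp only [cj]; group
  set a : ℤ := ((j : ℕ) : ℤ)
  set b : ℤ := ((i : ℕ) : ℤ)
  have hwe : cj w v = x' ^ e * v := by rw [he]; simp only [cj]; group
  -- parity
  have hpar : (3 : ℤ) ∣ 2 * b - e * a := by
    have h2 : cj w⁻¹ x⁻¹ = (x'⁻¹) ^ b * v ^ a * x⁻¹ := by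
      calc cj w⁻¹ x⁻¹ = cj t (cj w x) := by rw [← htx, ← htw]; simp only [cj]; group
        _ = _ := by rw [hwx₁, cj_hom, cj_hom, cj_zpow, cj_zpow, htx', htv, htx]
    have h3 : cj w⁻¹ x = x * (v ^ a)⁻¹ * x' ^ b := by
      rw [← inv_inv (cj w⁻¹ x), ← cj_inv', h2, mul_inv_rev, mul_inv_rev, inv_inv, inv_zpow, inv_inv,
        mul_assoc]
    have h4 := congrArg (cj w) h3
    have hwb : cj w (x' ^ b) = x' ^ b := cj_eq_self.2 (hwx'.zpow_right b).eq
    rw [cj_cj, mul_inv_cancel, cj_hom, cj_hom, cj_inv', cj_zpow, hwe, hwb, hwx₁,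
      (hcvx'.symm.zpow_left e).mul_zpow, ← zpow_mul, mul_inv_rev] at h4
    have h5 : x' ^ (2 * b - e * a) = 1 := by
      have c1 : Commute x (v ^ a) := hcvx.symm.zpow_right a
      have c2 : ∀ m : ℤ, Commute x (x' ^ m) := fun m => hcxx.zpow_right m
      have hrw : x' ^ b * v ^ a * x * ((v ^ a)⁻¹ * (x' ^ (e * a))⁻¹) * x' ^ b =
          x' ^ (2 * b - e * a) * x := by
        calc x' ^ b * v ^ a * x * ((v ^ a)⁻¹ * (x' ^ (e * a))⁻¹) * x' ^ b
            = x' ^ b * (v ^ a * x * (v ^ a)⁻¹) * ((x' ^ (e * a))⁻¹ * x' ^ b) := by group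
          _ = x' ^ b * (x * ((x' ^ (e * a))⁻¹ * x' ^ b)) := by
              rw [← c1.eq, mul_inv_cancel_right, mul_assoc]
          _ = x' ^ b * (x * x' ^ (b - e * a)) := by
              rw [← zpow_neg, ← zpow_add, show -(e * a) + b = b - e * a by ring]
          _ = x' ^ (2 * b - e * a) * x := by
              rw [(c2 _).eq, ← mul_assoc, ← zpow_add, show b + (b - e * a) = 2 * b - e * a by ring]
      rw [hrw] at h4
      simp only [cj, one_mul, inv_one, mul_one] at h4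
      exact mul_right_cancel (b := x) (h4.symm.trans (one_mul x).symm)
    exact three_dvd_of_zpow hx' hx'1 h5
  refine ⟨fun ha => hwx ?_, hpar⟩
  have hb : (3 : ℤ) ∣ b := by
    have h6 : (3 : ℤ) ∣ e * a := dvd_mul_of_dvd_right ha e
    omega
  rw [zpow_eq_one_of_three hv ha, zpow_eq_one_of_three hx' hb, one_mul, one_mul] at hwx₁
  exact cj_eq_self.1 hwx₁

/-- A product of the two actions moves `x₁` onto a diagonal element: the action on `v` is
trivial. -/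
theorem three_dvd_action (S : Setup H H₁ H₂ z t x₁ x₂)
    (hfus : ∀ x ∈ P₀ x₁ x₂, ∀ y ∈ P₀ x₁ x₂, IsConj x y → y = x ∨ y = x⁻¹)
    {v w₁ w₂ : G} {a b e c d f : ℤ} (hv : v ^ 3 = 1) (hv1 : Commute v x₁) (hv2 : Commute v x₂)
    (hw : Commute w₁ x₁) (h2x : cj w₂ x₁ = x₂ ^ b * v ^ a * x₁) (hpar : (3 : ℤ) ∣ 2 * b - e * a)
    (ha : ¬ (3 : ℤ) ∣ a) (h1x : cj w₁ x₂ = x₁ ^ d * v ^ c * x₂) (h1v : cj w₁ v = x₁ ^ f * v)
    (hc : ¬ (3 : ℤ) ∣ c) : (3 : ℤ) ∣ e := by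
  by_contra he
  have hb : ¬ (3 : ℤ) ∣ b := by
    intro hb
    have hea : (3 : ℤ) ∣ e * a := by omega
    rcases Int.prime_three.dvd_mul.1 hea with h | h
    exacts [he h, ha h]
  obtain ⟨n, hn⟩ : ∃ n : ℕ, (3 : ℤ) ∣ a + b * ((n : ℤ) * c) := by
    have h1 : a % 3 = 1 ∨ a % 3 = 2 := by omega
    have h2 : b * c % 3 = 1 ∨ b * c % 3 = 2 := by
      have h3 := Int.mul_emod b c 3
      rcases (show b % 3 = 1 ∨ b % 3 = 2 by omega) with q | q <;>
        rcases (show c % 3 = 1 ∨ c % 3 = 2 by omega) with q' | q' <;> rw [q, q'] at h3 <;> omega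
    by_cases h : (3 : ℤ) ∣ a + b * c
    · exact ⟨1, by simpa using h⟩
    · refine ⟨2, ?_⟩
      rw [show a + b * (((2 : ℕ) : ℤ) * c) = a + 2 * (b * c) by push_cast; ring]
      omega
  have hact : ∀ m : ℕ, ∃ s : ℤ, cj (w₁ ^ m) x₂ = x₁ ^ s * v ^ ((m : ℤ) * c) * x₂ ∧
      cj (w₁ ^ m) v = x₁ ^ ((m : ℤ) * f) * v := by
    intro m
    induction m with
    | zero => exact ⟨0, by simp [cj], by simp [cj]⟩
    | succ q ih =>
      obtain ⟨s, hs, hs'⟩ := ih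
      refine ⟨s + f * ((q : ℤ) * c) + d, ?_, ?_⟩
      · rw [pow_succ', ← cj_cj, hs, cj_hom, cj_hom, cj_zpow, cj_zpow, h1x, h1v,
          cj_eq_self.2 hw.eq, (hv1.symm.zpow_left f).mul_zpow, ← zpow_mul]
        have cc : Commute (v ^ ((q : ℤ) * c)) (x₁ ^ d) := (hv1.zpow_zpow _ _)
        calc x₁ ^ s * (x₁ ^ (f * ((q : ℤ) * c)) * v ^ ((q : ℤ) * c)) * (x₁ ^ d * v ^ c * x₂)
            = x₁ ^ s * x₁ ^ (f * ((q : ℤ) * c)) * (v ^ ((q : ℤ) * c) * x₁ ^ d) * v ^ c * x₂ := by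
              group
          _ = x₁ ^ (s + f * ((q : ℤ) * c) + d) * v ^ (((q + 1 : ℕ) : ℤ) * c) * x₂ := by
              rw [cc.eq, zpow_add, zpow_add, show ((q + 1 : ℕ) : ℤ) * c = (q : ℤ) * c + c by
                push_cast; ring, zpow_add]
              group
      · rw [pow_succ', ← cj_cj, hs', cj_hom, cj_zpow, h1v, cj_eq_self.2 hw.eq, ← mul_assoc,
          ← zpow_add, show (q : ℤ) * f + f = ((q + 1 : ℕ) : ℤ) * f by push_cast; ring]
  obtain ⟨s, hsx, hsv⟩ := hact n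
  have hcx : Commute x₁ x₂ := S.commute₁₂
  set y := cj (w₁ ^ n) (cj w₂ x₁) with hy
  have hyeq : y = x₁ ^ (s * b + (n : ℤ) * f * a + 1) * x₂ ^ b := by
    rw [hy, h2x, cj_hom, cj_hom, cj_zpow, cj_zpow, hsx, hsv, cj_eq_self.2 (hw.pow_left n).eq,
      (show Commute (x₁ ^ s * v ^ ((n : ℤ) * c)) x₂ from
        (hcx.zpow_left s).mul_left (hv2.zpow_left _)).mul_zpow,
      (show Commute (x₁ ^ s) (v ^ ((n : ℤ) * c)) from hv1.symm.zpow_zpow _ _).mul_zpow,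
      (show Commute (x₁ ^ ((n : ℤ) * f)) v from hv1.symm.zpow_left _).mul_zpow,
      ← zpow_mul, ← zpow_mul, ← zpow_mul]
    have cv : ∀ p q : ℤ, Commute (v ^ p) (x₁ ^ q) := fun p q => hv1.zpow_zpow p q
    have c2 : ∀ p q : ℤ, Commute (x₂ ^ p) (x₁ ^ q) := fun p q => hcx.symm.zpow_zpow p q
    have cv2 : ∀ p q : ℤ, Commute (x₂ ^ p) (v ^ q) := fun p q => hv2.symm.zpow_zpow p q
    calc x₁ ^ (s * b) * v ^ ((n : ℤ) * c * b) * x₂ ^ b * (x₁ ^ ((n : ℤ) * f * a) * v ^ a) * x₁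
        = x₁ ^ (s * b) * v ^ ((n : ℤ) * c * b) * (x₂ ^ b * x₁ ^ ((n : ℤ) * f * a)) * (v ^ a * x₁) := by
          group
      _ = x₁ ^ (s * b) * (v ^ ((n : ℤ) * c * b) * x₁ ^ ((n : ℤ) * f * a)) *
            (x₂ ^ b * x₁) * v ^ a := by
          rw [(c2 _ _).eq, (show Commute (v ^ a) x₁ from hv1.zpow_left a).eq]; group
      _ = x₁ ^ (s * b) * x₁ ^ ((n : ℤ) * f * a) * (v ^ ((n : ℤ) * c * b) * x₁) *
            (x₂ ^ b * v ^ a) := by
          rw [(cv _ _).eq, (show Commute (x₂ ^ b) x₁ from hcx.symm.zpow_left b).eq]; group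
      _ = x₁ ^ (s * b + (n : ℤ) * f * a + 1) * x₂ ^ b := by
          rw [(show Commute (v ^ ((n : ℤ) * c * b)) x₁ from hv1.zpow_left _).eq, (cv2 b a).eq,
            zpow_add_one, zpow_add]
          have h0 : v ^ ((n : ℤ) * c * b) * v ^ a = 1 := by
            rw [← zpow_add]
            exact zpow_eq_one_of_three hv (by
              rwa [show (n : ℤ) * c * b + a = a + b * ((n : ℤ) * c) by ring])
          calc x₁ ^ (s * b) * x₁ ^ ((n : ℤ) * f * a) * (x₁ * v ^ ((n : ℤ) * c * b)) *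
                (v ^ a * x₂ ^ b)
              = x₁ ^ (s * b) * x₁ ^ ((n : ℤ) * f * a) * x₁ *
                (v ^ ((n : ℤ) * c * b) * v ^ a) * x₂ ^ b := by group
            _ = x₁ ^ (s * b) * x₁ ^ ((n : ℤ) * f * a) * x₁ * x₂ ^ b := by rw [h0, mul_one]
  have hx₁ : x₁ ∈ P₀ x₁ x₂ := Subgroup.subset_closure (Or.inl rfl)
  have hx₂ : x₂ ∈ P₀ x₁ x₂ := Subgroup.subset_closure (Or.inr rfl)
  have hyP : y ∈ P₀ x₁ x₂ := hyeq ▸ mul_mem (zpow_mem hx₁ _) (zpow_mem hx₂ _)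
  have hconj : IsConj x₁ y := (isConj_cj w₂ x₁).trans (isConj_cj (w₁ ^ n) _)
  have hy1 : y ∈ zpowers x₁ := by
    rcases hfus x₁ hx₁ y hyP hconj with h | h <;> rw [h]
    exacts [mem_zpowers x₁, inv_mem (mem_zpowers x₁)]
  have hmem : x₂ ^ b ∈ zpowers x₁ := by
    have h := mul_mem (inv_mem (zpow_mem (mem_zpowers x₁) (s * b + (n : ℤ) * f * a + 1))) hy1
    rwa [hyeq, inv_mul_cancel_left] at h
  have h1 : x₂ ^ b = 1 := S.eq_one_of_cube (zpowers_le.2 S.mem₁ hmem) (zpow_mem S.mem₂ b) (by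
    rw [← zpow_natCast, ← zpow_mul, mul_comm, zpow_mul, zpow_natCast, S.cube₂, one_zpow])
  exact hb (three_dvd_of_zpow S.cube₂ S.ne₂ h1)

/-- Piece D. -/
theorem not_one : StmtNotOne.{u} := by
  intro hC hV G _ _ H H₁ H₂ z t x₁ x₂ S hi hj
  haveI : Fact (Nat.Prime 3) := ⟨Nat.prime_three⟩
  obtain ⟨R₁, R₂, k, C⟩ := hC G H H₁ H₂ z t x₁ x₂ S
  have hk : k = 1 := by
    have := C.prod
    rw [hi, hj] at this
    exact Nat.pow_right_injective (le_refl 2 |>.trans (by norm_num)) (show 3 ^ k = 3 ^ 1 by omega)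
  subst hk
  have hx₁ : x₁ ∈ P₀ x₁ x₂ := Subgroup.subset_closure (Or.inl rfl)
  have hx₂ : x₂ ∈ P₀ x₁ x₂ := Subgroup.subset_closure (Or.inr rfl)
  -- the element `v`
  set X := centralizer ({x₁, x₂, t} : Set G) with hX
  obtain ⟨v', hv'⟩ := exists_prime_orderOf_dvd_card' (G := X) 3 (by rw [hi]; norm_num)
  set v : G := (v' : G) with hvdef
  have hvo : orderOf v = 3 := by rw [hvdef, Subgroup.orderOf_coe, hv']
  have hv : v ^ 3 = 1 := hvo ▸ pow_orderOf_eq_one v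
  have hv0 : v ≠ 1 := fun h => by rw [h, orderOf_one] at hvo; norm_num at hvo
  obtain ⟨hv1, hv2, hvt⟩ := mem_cent3.1 v'.2
  have hvodd : Odd (orderOf v) := odd_of_cube hv
  set V := zpowers v with hVdef
  have hVidx : (zpowers v').index = 2 := by
    have := (zpowers v').card_mul_index
    rw [Nat.card_zpowers, hv', hi] at this
    omega
  haveI : (zpowers v').Normal := normal_of_index_eq_two hVidx
  have hzX : z ∈ X := mem_cent3.2 ⟨(S.P₀_commute_z hx₁).symm, (S.P₀_commute_z hx₂).symm,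
    S.small_zt.comm⟩
  have hVz : ∀ q ∈ V, cj z q ∈ V := by
    intro q hq
    obtain ⟨n, rfl⟩ := mem_zpowers_iff.1 hq
    obtain ⟨m, hm⟩ := mem_zpowers_iff.1
      (Normal.conj_mem inferInstance _ (zpow_mem (mem_zpowers v') n) (⟨z, hzX⟩ : X))
    refine mem_zpowers_iff.2 ⟨m, ?_⟩
    have := congrArg (Subtype.val : X → G) hm
    simpa [cj] using this
  have hvz : cj z v = v⁻¹ := S.small_zt.inverted (Q := V)
    (by rw [hVdef, Nat.card_zpowers, hvo]; decide)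
    (fun q hq => by
      obtain ⟨n, rfl⟩ := mem_zpowers_iff.1 hq
      exact hvt.zpow_left n) hVz (mem_zpowers v)
  have hvR₁ : v ∈ R₁ := C.side₁.absorb v hv1 hvodd hvz
  have hvR₂ : v ∈ R₂ := C.side₂.absorb v hv2 hvodd hvz
  have hvnot : ∀ x : G, x ∈ P₀ x₁ x₂ → v ∉ zpowers x := fun x hx hm => hv0 (by
    have hcv : cj z v = v := cj_eq_self.2
      (S.P₀_commute_z (zpowers_le.2 hx hm)).symm.eq
    rw [hvz] at hcv
    refine eq_one_of_odd (orderOf_dvd_iff_pow_eq_one.2 ?_) hvodd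
    rw [sq]
    nth_rewrite 1 [← hcv]
    exact inv_mul_cancel v)
  -- the elements `w₁`, `w₂`: conjugates of `v`
  obtain ⟨q₁, hq₁, hq₁t⟩ := S.exists_swap
  obtain ⟨q₂, hq₂, hq₂t⟩ := S.symm.exists_swap
  set w₁ := cj q₁ v with hw₁def
  set w₂ := cj q₂ v with hw₂def
  have hmove : ∀ {q x : G}, q ∈ H → Commute q x → cj q t = z * t → Commute v x →
      Commute (cj q v) x ∧ Commute (cj q v) (z * t) ∧ Odd (orderOf (cj q v)) ∧ cj q v ≠ 1 ∧
        cj z (cj q v) = (cj q v)⁻¹ := by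
    intro q x hqH hqx hqt hvx
    refine ⟨?_, ?_, ?_, ?_, ?_⟩
    · have h := hvx.map (MulAut.conj q).toMonoidHom
      rwa [show (MulAut.conj q).toMonoidHom x = x from cj_eq_self.2 hqx.eq] at h
    · rw [← hqt]; exact hvt.map (MulAut.conj q).toMonoidHom
    · rw [cj_eq, MulEquiv.orderOf_eq]; exact hvodd
    · intro h; exact hv0 ((MulAut.conj q).injective (h.trans (map_one _).symm))
    · calc cj z (cj q v) = cj q (cj z v) := by rw [cj_cj, cj_cj, (S.comm_z hqH).symm]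
        _ = (cj q v)⁻¹ := by rw [hvz, cj_inv']
  obtain ⟨hw₁x₁, hw₁c, hw₁odd, hw₁0, hw₁z⟩ := hmove (S.le₂ hq₁) (S.comm x₁ S.mem₁ q₁ hq₁).symm hq₁t hv1
  obtain ⟨hw₂x₂, hw₂c, hw₂odd, hw₂0, hw₂z⟩ := hmove (S.le₁ hq₂) (S.comm q₂ hq₂ x₂ S.mem₂) hq₂t hv2
  have hw₁R : w₁ ∈ R₁ := C.side₁.absorb w₁ hw₁x₁ hw₁odd hw₁z
  have hw₂R : w₂ ∈ R₂ := C.side₂.absorb w₂ hw₂x₂ hw₂odd hw₂z
  obtain ⟨-, hw₁t, -⟩ := C.side₁.inverted_zt S (S.P₀_commute_z hx₁).symm hw₁R hw₁c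
  obtain ⟨-, hw₂t, -⟩ := C.side₂.inverted_zt S (S.P₀_commute_z hx₂).symm hw₂R hw₂c
  have hno : ∀ w : G, w ≠ 1 → Odd (orderOf w) → Commute w x₁ → Commute w x₂ → Commute w (z * t) →
      False := fun w h0 ho h1 h2 h3 => card_ne_two (mem_cent3.2 ⟨h1, h2, h3⟩) ho h0 hj
  have hw₂x₁ : ¬ Commute w₂ x₁ := fun h => hno w₂ hw₂0 hw₂odd h hw₂x₂ hw₂c
  have hw₁x₂ : ¬ Commute w₁ x₂ := fun h => hno w₁ hw₁0 hw₁odd hw₁x₁ h hw₁c
  -- the two actions
  obtain ⟨a, b, e, h2x, h2v, ha, hpar⟩ := exists_action (R := R₂) (w := w₂)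
    (by rw [C.side₂.card]; norm_num) S.cube₁ S.cube₂ S.ne₂ hv S.commute₁₂ hv1 hv2 S.inv₁ S.inv₂
    (cj_eq_self.2 hvt.symm.eq) hw₂t
    (C.side₂.normal (mem_centralizer_singleton_iff.2 S.commute₁₂)) C.side₂.mem hvR₂
    (hvnot x₂ hx₂) hw₂R hw₂x₁ hw₂x₂ (C.side₂.comm w₂ hw₂R v hvR₂)
  obtain ⟨c, d, f, h1x, h1v, hc, hpar'⟩ := exists_action (R := R₁) (w := w₁)
    (by rw [C.side₁.card]; norm_num) S.cube₂ S.cube₁ S.ne₁ hv S.commute₁₂.symm hv2 hv1 S.inv₂ S.inv₁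
    (cj_eq_self.2 hvt.symm.eq) hw₁t
    (C.side₁.normal (mem_centralizer_singleton_iff.2 S.commute₁₂.symm)) C.side₁.mem hvR₁
    (hvnot x₁ hx₁) hw₁R hw₁x₂ hw₁x₁ (C.side₁.comm w₁ hw₁R v hvR₁)
  have he : (3 : ℤ) ∣ e := three_dvd_action S C.fusion hv hv1 hv2 hw₁x₁ h2x hpar ha h1x h1v hc
  have hf : (3 : ℤ) ∣ f := by
    refine three_dvd_action S.symm (fun x hx y hy => ?_) hv hv2 hv1 hw₂x₂ h1x hpar' hc h2x h2v ha
    rw [P₀_comm] at hx hy
    exact C.fusion x hx y hy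
  have hw₂v : Commute w₂ v := cj_eq_self.1 (by rw [h2v, zpow_eq_one_of_three S.cube₂ he, one_mul])
  have hw₁v : Commute w₁ v := cj_eq_self.1 (by rw [h1v, zpow_eq_one_of_three S.cube₁ hf, one_mul])
  -- a setup at `(t, z)` through `v`
  obtain ⟨T, hT, hTt, hTz, hvT⟩ := S.exists_sylow S.small_t_z hv hvt hvz
  obtain ⟨H', H₁', H₂', y₁, y₂, S', hP', hy₁, hy₂, hpat⟩ := S.transport hV S.small_t_z hT hTt hTz
  obtain ⟨R', R'', k', C'⟩ := hC G H' H₁' H₂' t z y₁ y₂ S'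
  have hk' : k' = 1 := by
    have := C'.prod
    have htz : Nat.card (centralizer ({y₁, y₂, z} : Set G)) *
        Nat.card (centralizer ({y₁, y₂, t * z} : Set G)) = 12 := by
      rcases hpat with ⟨p, q⟩ | ⟨p, q⟩ <;> rw [p, q, hi, hj]
    rw [htz] at this
    exact Nat.pow_right_injective (le_refl 2 |>.trans (by norm_num)) (show 3 ^ k' = 3 ^ 1 by omega)
  subst hk'
  have hq0 : ∀ q ∈ P₀ x₁ x₂, Commute q v := by
    intro q hq
    obtain ⟨i, j, -, -, rfl⟩ := S.mem_P₀_fin.1 hq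
    exact ((hv1.pow_right i).mul_right (hv2.pow_right j)).symm
  have hnx : ∀ {x : G} {L R : Subgroup G}, Side t z x L R 1 → orderOf x = 3 → v ∉ zpowers x := by
    intro x L R hR hox hm
    have he : zpowers v = zpowers x := eq_of_le_of_card_ge (zpowers_le.2 hm)
      (by rw [Nat.card_zpowers, Nat.card_zpowers, hvo, hox])
    obtain ⟨m, hm'⟩ := mem_zpowers_iff.1 (he.ge (mem_zpowers x))
    have hle : P₀ x₁ x₂ ≤ R ⊓ centralizer ({z} : Set G) := by
      intro q hq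
      exact ⟨hR.absorb q (hm' ▸ (hq0 q hq).zpow_right m) (odd_of_cube (S.P₀_pow_three hq))
        (S.P₀_inv hq), S.P₀_le_centz hq⟩
    have h := card_le_of_le hle
    rw [S.card_P₀, hR.fix_t] at h
    norm_num at h
  have hvP : v ∈ P₀ y₁ y₂ := hP' ▸ hvT
  obtain ⟨O, hO, hOdvd, hON, hOC, -⟩ :=
    C'.diag v hvP (hnx C'.side₁ S'.order₁) (hnx C'.side₂ S'.order₂)
  have htN : t ∈ normalizer (O : Set G) := hON (mem_centralizer_singleton_iff.2 hvt.symm.eq)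
  set Q := O ⊓ centralizer ({z * t} : Set G) with hQdef
  have hmemQ : ∀ w : G, Commute w v → Odd (orderOf w) → Commute w (z * t) → w ∈ Q := by
    intro w h1 h2 h3
    exact ⟨mem_of_odd S.sq_t htN (hOC ▸ mem_centralizer_singleton_iff.2 h1.eq) h2,
      mem_centralizer_singleton_iff.2 h3.eq⟩
  have hQ9 : Nat.card Q ∣ 9 := by
    have h1 : Nat.card Q ∣ 3 ^ 6 := (card_dvd_of_le inf_le_left).trans hOdvd
    obtain ⟨g, hg⟩ := isConj_iff.1 (S.invol _ S.small_zt_prod.order_b)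
    have h2 : Nat.card Q ∣ 576 := by
      refine (card_dvd_of_le (inf_le_right (a := O))).trans (dvd_of_eq ?_)
      rw [show ({z * t} : Set G) = (fun x => cj g x) '' {z} by rw [Set.image_singleton]; exact congrArg _ hg.symm,
        card_centralizer_cj, S.cent_z, S.card_H]
    exact Nat.dvd_gcd h1 h2
  have hQc : ∀ p ∈ Q, ∀ r ∈ Q, Commute p r := by
    intro p hp r hr
    obtain ⟨i, hi', hie⟩ := (Nat.dvd_prime_pow Nat.prime_three).1 (show Nat.card Q ∣ 3 ^ 2 from hQ9)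
    have hc : ∀ p' r' : Q, p' * r' = r' * p' := by
      rcases (show i = 0 ∨ i = 1 ∨ i = 2 by omega) with rfl | rfl | rfl
      · intro p' r'
        haveI := (Nat.card_eq_one_iff_unique.1 hie).1
        exact Subsingleton.elim _ _
      · rw [pow_one] at hie
        haveI := isCyclic_of_prime_card hie
        exact fun p' r' => (IsCyclic.isMulCommutative (α := Q)).is_comm.comm p' r'
      · exact fun p' r' => (IsPGroup.isMulCommutative_of_card_eq_prime_sq hie).is_comm.comm p' r'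
    exact congrArg Subtype.val (hc ⟨p, hp⟩ ⟨r, hr⟩)
  have hw₁Q : w₁ ∈ Q := hmemQ w₁ hw₁v hw₁odd hw₁c
  have hw₂Q : w₂ ∈ Q := hmemQ w₂ hw₂v hw₂odd hw₂c
  set P := closure ({w₁, w₂} : Set G) with hPdef
  have hPQ : P ≤ Q := (closure_le _).2 (by
    rintro p (rfl | rfl)
    exacts [hw₁Q, hw₂Q])
  have hn₂ : w₂ ∉ zpowers w₁ := by
    intro h
    obtain ⟨m, hm⟩ := mem_zpowers_iff.1 h
    exact hw₂x₁ (hm ▸ hw₁x₁.zpow_left m)
  have hP9 : Nat.card P = 9 := by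
    have hwo : orderOf w₁ = 3 := by rw [hw₁def, cj_eq, MulEquiv.orderOf_eq, hvo]
    obtain ⟨i, hi', hie⟩ :=
      (Nat.dvd_prime_pow Nat.prime_three).1 (show Nat.card P ∣ 3 ^ 2 from (card_dvd_of_le hPQ).trans hQ9)
    have hle : zpowers w₁ ≤ P := zpowers_le.2 (Subgroup.subset_closure (Or.inl rfl))
    rcases (show i ≤ 1 ∨ i = 2 by omega) with h | rfl
    · exfalso
      have hge : Nat.card P ≤ Nat.card (zpowers w₁) := by
        rw [Nat.card_zpowers, hwo, hie]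
        exact le_trans (Nat.pow_le_pow_right (by norm_num) h) (le_of_eq (pow_one 3))
      exact hn₂ ((eq_of_le_of_card_ge hle hge).ge (Subgroup.subset_closure (Or.inr rfl)))
    · rw [hie]; norm_num
  have hPzt : ∀ p ∈ P, Commute p (z * t) := fun p hp =>
    mem_centralizer_singleton_iff.1 (hPQ hp).2
  have hPz : ∀ p ∈ P, cj z p = p⁻¹ := by
    intro p hp
    induction hp using closure_induction with
    | mem x hx =>
      rcases hx with rfl | rfl
      exacts [hw₁z, hw₂z]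
    | one => simp [cj]
    | mul p r hp hr ihp ihr =>
      rw [cj_hom, ihp, ihr, mul_inv_rev]
      exact ((hQc p (hPQ hp) r (hPQ hr)).inv_inv).eq
    | inv p _ ihp => rw [cj_inv', ihp]
  obtain ⟨H'', H₁'', H₂'', u₁, u₂, S'', hP'', -, -, -⟩ :=
    S.transport hV S.small_zt_prod.symm hP9 hPzt hPz
  obtain ⟨_, _, _, C''⟩ := hC G H'' H₁'' H₂'' (z * t) z u₁ u₂ S''
  rcases C''.unique_class (x := w₁) (y := w₂) (hP'' ▸ Subgroup.subset_closure (Or.inl rfl))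
    (hP'' ▸ Subgroup.subset_closure (Or.inr rfl)) (isConj_cj q₁ v) (isConj_cj q₂ v) with h | h
  · exact hn₂ (h ▸ mem_zpowers _)
  · exact hn₂ (h ▸ inv_mem (mem_zpowers _))

end CfsgLib.G2TwoLocal
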