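import Cfsg.Agent.Lib.G2TwoLocal.Transport

/-!
# `G₂(3)` from 2-local data: the two dimensions are not at one involution
-/

set_option autoImplicit false
set_option linter.style.haveILetI false
set_option linter.unusedSectionVars false

namespace CfsgLib.G2TwoLocal

open Cfsg Subgroup
open CfsgLib.G2Three (cj)

universe u

variable {G : Type u} [Group G]

theorem mem_cent3 {a b c g : G} : g ∈ centralizer ({a, b, c} : Set G) ↔
    Commute g a ∧ Commute g b ∧ Commute g c := by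
  simp only [mem_centralizer_iff, Set.mem_insert_iff, Set.mem_singleton_iff, forall_eq_or_imp,
    forall_eq]
  exact ⟨fun h => ⟨h.1.symm, h.2.1.symm, h.2.2.symm⟩, fun h => ⟨h.1.eq.symm, h.2.1.eq.symm, h.2.2.eq.symm⟩⟩

theorem cj_pow_fixed {g x c : G} (h : cj g x = c * x) (hc : Commute g c) (n : ℕ) :
    cj (g ^ n) x = c ^ n * x := by
  induction n with
  | zero => simp [cj]
  | succ m ih =>
    rw [pow_succ', ← cj_cj, ih, cj_hom, h, cj_eq_self.2 (hc.pow_right m).eq, ← mul_assoc, ← pow_succ]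

theorem cj_of_commutator {g x c : G} (h : x * g * x⁻¹ * g⁻¹ = c) :
    cj g x = c⁻¹ * x := by
  have h1 : x * g = c * g * x := by rw [← h]; group
  calc cj g x = c⁻¹ * (c * g * x) * g⁻¹ := by rw [cj]; group
    _ = c⁻¹ * (x * g) * g⁻¹ := by rw [h1]
    _ = c⁻¹ * x := by group

variable [Finite G] {H H₁ H₂ : Subgroup G} {z t x₁ x₂ : G} {R₁ R₂ : Subgroup G} {k : ℕ}

/-- An element of odd order other than one excludes a common centraliser of order two. -/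
theorem card_ne_two {K : Subgroup G} {g : G} (hg : g ∈ K) (ho : Odd (orderOf g)) (h1 : g ≠ 1) :
    Nat.card K ≠ 2 := by
  intro hK
  have := orderOf_dvd_natCard (⟨g, hg⟩ : K)
  rw [hK, orderOf_mk] at this
  exact h1 (eq_one_of_odd this ho)

theorem cube_of_card_nine {P : Subgroup G} (hP : Nat.card P = 9) {p : G} (hp : p ∈ P) :
    Odd (orderOf p) := by
  have h9 := orderOf_dvd_natCard (⟨p, hp⟩ : P)
  rw [hP, orderOf_mk] at h9
  exact Odd.of_dvd_nat ⟨4, rfl⟩ h9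

namespace Setup

variable (S : Setup H H₁ H₂ z t x₁ x₂)
include S

theorem small_t_z : Small t z := S.small_zt.symm

theorem small_zt_prod : Small z (z * t) := S.small_zt.prod S

theorem small_t_prod : Small t (z * t) := by
  rw [S.small_zt.comm.eq]
  exact S.small_t_z.prod S

/-- The subgroup of order nine of a common centraliser of order eighteen. -/
theorem exists_nine (hi : Nat.card (centralizer ({x₁, x₂, t} : Set G)) = 18) :
    ∃ T : Subgroup G, Nat.card T = 9 ∧ T ≤ centralizer ({x₁, x₂, t} : Set G) ∧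
      ∀ q ∈ T, cj z q = q⁻¹ := by
  set X := centralizer ({x₁, x₂, t} : Set G) with hX
  haveI : Fact (Nat.Prime 3) := ⟨Nat.prime_three⟩
  obtain ⟨N, hN⟩ := Sylow.exists_subgroup_card_pow_prime (G := X) 3 (n := 2) (by rw [hi]; norm_num)
  have hidx : N.index = 2 := by
    have := N.card_mul_index
    rw [hN, hi] at this
    omega
  haveI : N.Normal := normal_of_index_eq_two hidx
  have hz : z ∈ X := mem_cent3.2 ⟨(S.P₀_commute_z (Subgroup.subset_closure (Or.inl rfl))).symm,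
    (S.P₀_commute_z (Subgroup.subset_closure (Or.inr rfl))).symm, S.small_zt.comm⟩
  refine ⟨N.map X.subtype, by rw [card_map_of_injective X.subtype_injective, hN]; norm_num,
    map_subtype_le N, fun q hq => ?_⟩
  refine S.small_zt.inverted (Q := N.map X.subtype) ?_ (fun p hp => ?_) (fun p hp => ?_) hq
  · rw [card_map_of_injective X.subtype_injective, hN]; decide
  · exact (mem_cent3.1 (map_subtype_le N hp)).2.2
  · obtain ⟨p', hp', rfl⟩ := hp
    exact ⟨⟨z, hz⟩ * p' * ⟨z, hz⟩⁻¹, Normal.conj_mem inferInstance p' hp' _, rfl⟩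

end Setup

theorem Side.inverted_zt {x : G} {L R : Subgroup G} (hR : Side z t x L R k)
    (S : Setup H H₁ H₂ z t x₁ x₂) (hz : Commute z x) {p : G} (hp : p ∈ R) (hc : Commute p (z * t)) :
    cj z p = p⁻¹ ∧ cj t p = p⁻¹ ∧ Odd (orderOf p) := by
  set Q := R ⊓ centralizer ({z * t} : Set G) with hQ
  have hodd : Odd (Nat.card Q) := by
    rw [hR.fix_zt]; exact Odd.pow ⟨1, rfl⟩
  have hb : ∀ q ∈ Q, Commute q (z * t) := fun q hq => mem_centralizer_singleton_iff.1 hq.2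
  have hnorm : ∀ w : G, w ∈ normalizer (R : Set G) → Commute w (z * t) → ∀ q ∈ Q, cj w q ∈ Q := by
    intro w hw hwc q hq
    refine ⟨(mem_normalizer_iff.1 hw q).1 hq.1, mem_centralizer_singleton_iff.2 ?_⟩
    exact ((hwc.mul_left (hb q hq)).mul_left hwc.inv_left).eq
  have hmem : p ∈ Q := ⟨hp, mem_centralizer_singleton_iff.2 hc⟩
  refine ⟨(S.small_zt_prod).inverted hodd hb
      (hnorm z (hR.normal (mem_centralizer_singleton_iff.2 hz)) S.small_zt_prod.comm) hmem,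
    (S.small_t_prod).inverted hodd hb (hnorm t hR.norm_t S.small_t_prod.comm) hmem, ?_⟩
  have := orderOf_dvd_natCard (⟨p, hmem⟩ : Q)
  rw [orderOf_mk] at this
  exact hodd.of_dvd_nat this

/-- Piece E. -/
theorem not_same : StmtNotSame.{u} := by
  intro hC hV G _ _ H H₁ H₂ z t x₁ x₂ S hi hj
  obtain ⟨R₁, R₂, k, C⟩ := hC G H H₁ H₂ z t x₁ x₂ S
  have hk : k = 2 := by
    have := C.prod
    rw [hi, hj] at this
    have h9 : 3 ^ k = 3 ^ 2 := by omega
    exact Nat.pow_right_injective (le_refl 2 |>.trans (by norm_num)) h9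
  subst hk
  have hx₁ : x₁ ∈ P₀ x₁ x₂ := Subgroup.subset_closure (Or.inl rfl)
  have hx₂ : x₂ ∈ P₀ x₁ x₂ := Subgroup.subset_closure (Or.inr rfl)
  -- the Sylow subgroup at `t`
  obtain ⟨T, hT, hTle, hTinv⟩ := S.exists_nine hi
  have hTx₁ : ∀ q ∈ T, Commute q x₁ := fun q hq => (mem_cent3.1 (hTle hq)).1
  have hTx₂ : ∀ q ∈ T, Commute q x₂ := fun q hq => (mem_cent3.1 (hTle hq)).2.1
  have hTR₁ : ∀ q ∈ T, q ∈ R₁ := fun q hq =>
    C.side₁.absorb q (hTx₁ q hq) (cube_of_card_nine hT hq) (hTinv q hq)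
  have hTR₂ : ∀ q ∈ T, q ∈ R₂ := fun q hq =>
    C.side₂.absorb q (hTx₂ q hq) (cube_of_card_nine hT hq) (hTinv q hq)
  obtain ⟨H', H₁', H₂', y₁, y₂, S', hP', hy₁, -, -⟩ := S.transport hV S.small_t_z hT
    (fun q hq => (mem_cent3.1 (hTle hq)).2.2) hTinv
  obtain ⟨R', R'', k', C'⟩ := hC G H' H₁' H₂' t z y₁ y₂ S'
  have hy₁T : y₁ ∈ T := hP' ▸ Subgroup.subset_closure (Or.inl rfl)
  -- the kernel of `y₁` in `C_R₁(z t)`
  set PA := R₁ ⊓ centralizer ({z * t} : Set G) with hPA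
  have hPAc : Nat.card PA = 9 := C.side₁.fix_zt
  obtain ⟨α, hα, hα1, hαy⟩ : ∃ α ∈ PA, α ≠ 1 ∧ Commute α y₁ := by
    let f : PA → zpowers x₁ := fun p =>
      ⟨y₁ * p * y₁⁻¹ * (p : G)⁻¹, C.side₁.comm _ (hTR₁ _ hy₁T) _ p.2.1⟩
    have hlt : Nat.card (zpowers x₁) < Nat.card PA := by
      rw [hPAc, Nat.card_zpowers, S.order₁]; norm_num
    obtain ⟨p, q, hpq, hne⟩ : ∃ p q, f p = f q ∧ p ≠ q := by
      by_contra! hh
      exact absurd (Nat.card_le_card_of_injective f fun p q h => hh p q h) (not_le.2 hlt)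
    have he : y₁ * p * y₁⁻¹ * (p : G)⁻¹ = y₁ * q * y₁⁻¹ * (q : G)⁻¹ := congrArg Subtype.val hpq
    refine ⟨(q : G)⁻¹ * p, mul_mem (inv_mem q.2) p.2,
      fun h => hne (Subtype.ext (inv_mul_eq_one.1 h).symm), ?_⟩
    refine Commute.symm (cj_eq_self.1 ?_)
    calc cj y₁ ((q : G)⁻¹ * p)
        = (q : G)⁻¹ * ((y₁ * q * y₁⁻¹ * (q : G)⁻¹)⁻¹ * (y₁ * p * y₁⁻¹ * (p : G)⁻¹)) * p := by
          rw [cj]; group
      _ = (q : G)⁻¹ * p := by rw [he, inv_mul_cancel, mul_one]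
  have hαzt : Commute α (z * t) := mem_centralizer_singleton_iff.1 hα.2
  obtain ⟨-, hαt, hαo⟩ := C.side₁.inverted_zt S (S.P₀_commute_z hx₁).symm hα.1 hαzt
  have hαR' : α ∈ R' := C'.side₁.absorb α hαy hαo hαt
  have hx₂o : Odd (orderOf x₂) := odd_of_cube S.cube₂
  have hx₂R' : x₂ ∈ R' := C'.side₁.absorb x₂ (hTx₂ y₁ hy₁T).symm hx₂o S.inv₂
  obtain ⟨n, hn⟩ := mem_zpowers_iff.1 (C'.side₁.comm x₂ hx₂R' α hαR')
  -- an element of `C_R₂(z t)` moving `y₁`
  set PB := R₂ ⊓ centralizer ({z * t} : Set G) with hPB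
  have hPBc : Nat.card PB = 9 := C.side₂.fix_zt
  obtain ⟨β, hβ, hβy⟩ : ∃ β ∈ PB, ¬ Commute y₁ β := by
    by_contra! hh
    have hcomm : ∀ p ∈ PB, Commute p (z * t) := fun p hp => mem_centralizer_singleton_iff.1 hp.2
    have hinv : ∀ p ∈ PB, cj z p = p⁻¹ := fun p hp =>
      (C.side₂.inverted_zt S (S.P₀_commute_z hx₂).symm hp.1 (hcomm p hp)).1
    obtain ⟨_, _, _, w₁, w₂, Sw, hPw, -, -, hpat⟩ :=
      S.transport hV S.small_zt_prod.symm hPBc hcomm hinv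
    have hw₁ : w₁ ∈ PB := hPw ▸ Subgroup.subset_closure (Or.inl rfl)
    have hw₂ : w₂ ∈ PB := hPw ▸ Subgroup.subset_closure (Or.inr rfl)
    have hzt2 : z * t * z = t := by
      rw [mul_assoc, ← S.small_zt.comm.eq, ← mul_assoc, S.sq_z, one_mul]
    rw [hzt2, hi, hj] at hpat
    have hle : ∀ w ∈ PB, Commute w x₂ := fun w hw =>
      mem_centralizer_singleton_iff.1 (C.side₂.le hw.1)
    have h1 : Nat.card (centralizer ({w₁, w₂, z} : Set G)) ≠ 2 := card_ne_two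
      (mem_cent3.2 ⟨(hle _ hw₁).symm, (hle _ hw₂).symm, S.P₀_commute_z hx₂⟩) hx₂o S.ne₂
    have h2 : Nat.card (centralizer ({w₁, w₂, t} : Set G)) ≠ 2 := card_ne_two
      (mem_cent3.2 ⟨hh _ hw₁, hh _ hw₂, (mem_cent3.1 (hTle hy₁T)).2.2⟩)
      (cube_of_card_nine hT hy₁T) S'.ne₁
    omega
  obtain ⟨m, hm⟩ := mem_zpowers_iff.1 (C.side₂.comm y₁ (hTR₂ _ hy₁T) β hβ.1)
  -- the two transvections
  have hcα : cj α x₂ = y₁ ^ (-n) * x₂ := by
    rw [zpow_neg]; exact cj_of_commutator hn.symm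
  have hβx₂ : Commute β x₂ := mem_centralizer_singleton_iff.1 (C.side₂.le hβ.1)
  have hcβ : cj β y₁ = x₂ ^ (-m) * y₁ := by
    rw [zpow_neg]; exact cj_of_commutator hm.symm
  have hn0 : ¬ (3 : ℤ) ∣ n := by
    rintro ⟨q, rfl⟩
    rw [zpow_mul, show y₁ ^ (3 : ℤ) = 1 by exact_mod_cast S'.cube₁, one_zpow] at hn
    have hc : Commute α x₂ := Commute.symm (show x₂ * α = α * x₂ by
      have := congrArg (· * α * x₂) hn
      simpa [mul_assoc] using this.symm)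
    exact card_ne_two (g := α) (mem_cent3.2 ⟨(mem_centralizer_singleton_iff.1 (C.side₁.le hα.1)),
      hc, hαzt⟩) hαo hα1 hj
  have hm0 : ¬ (3 : ℤ) ∣ m := by
    rintro ⟨q, rfl⟩
    rw [zpow_mul, show x₂ ^ (3 : ℤ) = 1 by exact_mod_cast S.cube₂, one_zpow] at hm
    exact hβy (show y₁ * β = β * y₁ by
      have := congrArg (· * β * y₁) hm
      simpa [mul_assoc] using this.symm)
  obtain ⟨r, hr⟩ : ∃ r : ℕ, (3 : ℤ) ∣ 1 + (-n) * ((r : ℤ) * (-m)) := by
    by_cases h : (3 : ℤ) ∣ 1 + n * m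
    · exact ⟨1, by push_cast; ring_nf; ring_nf at h; exact h⟩
    · refine ⟨2, ?_⟩
      push_cast
      have hnm : n * m % 3 = 1 := by
        have h1 : n % 3 = 1 ∨ n % 3 = 2 := by omega
        have h2 : m % 3 = 1 ∨ m % 3 = 2 := by omega
        have h3 := Int.mul_emod n m 3
        rcases h1 with e | e <;> rcases h2 with e' | e' <;> rw [e, e'] at h3 <;> omega
      rw [show 1 + -n * (2 * -m) = 1 + 2 * (n * m) by ring]
      omega
  -- `x₂` is conjugate to a power of `y₁`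
  have hy₁x₂ : Commute y₁ x₂ := hTx₂ y₁ hy₁T
  have hBy : cj (β ^ r) y₁ = x₂ ^ ((r : ℤ) * (-m)) * y₁ := by
    rw [cj_pow_fixed hcβ (hβx₂.zpow_right _), ← zpow_natCast, ← zpow_mul, mul_comm (-m)]
  have hBx : cj (β ^ r) x₂ = x₂ := cj_eq_self.2 (hβx₂.pow_left r).eq
  have hconj : IsConj x₂ (y₁ ^ (-n)) := by
    refine (isConj_cj (β ^ r * α) x₂).trans ?_
    rw [← cj_cj, hcα, cj_hom, hBx, cj_eq, map_zpow, ← cj_eq, hBy,
      ((hy₁x₂.zpow_right ((r : ℤ) * (-m))).symm).mul_zpow, ← zpow_mul, mul_assoc,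
      (hy₁x₂.zpow_left (-n)).eq, ← mul_assoc, ← zpow_add_one]
    obtain ⟨q, hq⟩ := hr
    rw [show (r : ℤ) * (-m) * (-n) + 1 = 3 * q by rw [← hq]; ring, zpow_mul,
      show x₂ ^ (3 : ℤ) = 1 by exact_mod_cast S.cube₂, one_zpow, one_mul]
  obtain ⟨g, hg⟩ := isConj_iff.1 hy₁.symm
  have hconj' : IsConj x₂ (x₁ ^ (-n)) := hconj.trans (isConj_iff.2 ⟨g, by rw [← conj_zpow, hg]⟩)
  have hbad : x₁ ^ (-n) ∈ zpowers x₂ := by
    rcases C.fusion x₂ hx₂ _ (zpow_mem hx₁ _) hconj' with e | e <;> rw [e]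
    exacts [mem_zpowers x₂, inv_mem (mem_zpowers x₂)]
  have hz' : x₁ ^ (-n) ∈ H₁ ⊓ H₂ := ⟨zpow_mem S.mem₁ _, zpowers_le.2 S.mem₂ hbad⟩
  rw [S.inter] at hz'
  have hd : orderOf (x₁ ^ (-n)) ∣ 2 := by
    have := orderOf_dvd_natCard (⟨_, hz'⟩ : zpowers z)
    rwa [Nat.card_zpowers, S.order_z, orderOf_mk] at this
  have h1 : x₁ ^ (-n) = 1 := eq_one_of_odd hd (odd_of_cube (by
    rw [← zpow_natCast, ← zpow_mul, mul_comm, zpow_mul, zpow_natCast, S.cube₁, one_zpow]))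
  have h3 := orderOf_dvd_iff_zpow_eq_one.2 h1
  rw [S.order₁] at h3
  exact hn0 (by simpa using h3)

end CfsgLib.G2TwoLocal
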