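import Mathlib

/-!
# Elements of order three local to the centraliser of an involution: the arithmetic
-/

set_option autoImplicit false

namespace CfsgLib.G2TwoLocal.NotZeroNum

/-- The bound for the divisors of `a - b`. -/
def mult (i : ℕ) : ℕ :=
  let b : ℤ := (i : ℤ) - 17
  if b * (b + 1) = 0 then 10368 else 10368 * (b * (b + 1)).natAbs

/-- A possible value of `a` is one of the five exceptions or is impossible. -/
def good (a b : ℤ) : Bool :=
  decide (a ≤ 0) || decide (a = b) || !decide (10368 * (a * (a + 1)) % ((a - b) * (a - b)) = 0) ||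
    (let N := 10368 * (a * (a + 1)) / ((a - b) * (a - b))
     decide (N % 2 = 0) || decide (N % 3 = 0) || !decide (N % 7 = 0) ||
       decide (N = 8911) || decide (N = 9835) || decide (N = 10367) || decide (N = 10829) ||
       decide (N = 11935))

/-- The check for one value of the character at the involution and one small divisor. -/
def chk (i d : ℕ) : Bool :=
  !decide (mult i % d = 0) ||
    (good ((i : ℤ) - 17 + d) ((i : ℤ) - 17) && good ((i : ℤ) - 17 - d) ((i : ℤ) - 17) &&
      good ((i : ℤ) - 17 + (mult i / d : ℕ)) ((i : ℤ) - 17) &&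
      good ((i : ℤ) - 17 - (mult i / d : ℕ)) ((i : ℤ) - 17))

theorem chk_all : (List.range 34).all (fun i => (List.range 1692).all fun d => chk i d) = true := by
  decide +kernel

/-- The possible orders. -/
theorem five_orders {N a : ℕ} {b : ℤ} (ha : 0 < a) (h2 : ¬ 2 ∣ N) (h3 : ¬ 3 ∣ N) (h7 : 7 ∣ N)
    (he : (N : ℤ) * ((a : ℤ) - b) ^ 2 = 10368 * ((a : ℤ) * (a + 1)))
    (hb : 1 + b ^ 2 + (b + 1) ^ 2 ≤ 576) :
    N = 8911 ∨ N = 9835 ∨ N = 10367 ∨ N = 10829 ∨ N = 11935 := by
  have hlo : -17 ≤ b := by nlinarith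
  have hhi : b ≤ 16 := by nlinarith
  have hab : (a : ℤ) ≠ b := by
    intro h
    rw [h] at he
    have : (0 : ℤ) < 10368 * (b * (b + 1)) := by rw [← h]; positivity
    nlinarith
  obtain ⟨i, hi, rfl⟩ : ∃ i : ℕ, i < 34 ∧ b = (i : ℤ) - 17 := ⟨(b + 17).toNat, by omega, by omega⟩
  set b : ℤ := (i : ℤ) - 17 with hbdef
  set s : ℤ := (a : ℤ) - b with hsdef
  have hs0 : s ≠ 0 := sub_ne_zero.2 hab
  have hsq : s ^ 2 ∣ 10368 * ((a : ℤ) * (a + 1)) := ⟨N, by rw [← he]; ring⟩
  have hs1 : s ∣ 10368 * ((a : ℤ) * (a + 1)) := (dvd_pow_self s two_ne_zero).trans hsq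
  have hm : s ∣ (mult i : ℤ) := by
    simp only [mult, ← hbdef]
    split_ifs with h0
    · rcases mul_eq_zero.1 h0 with h | h
      · have hsa : s = a := by omega
        have h1 : s ∣ 10368 * (s + 1) := by
          rw [hsa] at hsq ⊢
          obtain ⟨c, hc⟩ := hsq
          exact ⟨c, mul_left_cancel₀ (show (a : ℤ) ≠ 0 by omega) (by linear_combination hc)⟩
        obtain ⟨c, hc⟩ := h1
        exact ⟨c - 10368, by push_cast; linear_combination hc⟩
      · have hsa : s - 1 = a := by omega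
        have h1 : s ∣ 10368 * (s - 1) := by
          rw [← hsa, show s - 1 + 1 = s by ring] at hsq
          obtain ⟨c, hc⟩ := hsq
          exact ⟨c, mul_left_cancel₀ hs0 (by linear_combination hc)⟩
        obtain ⟨c, hc⟩ := h1
        exact ⟨10368 - c, by push_cast; linear_combination -hc⟩
    · rw [Nat.cast_mul, Nat.cast_ofNat]
      have h2 : s ∣ 10368 * (b * (b + 1)) := by
        obtain ⟨c, hc⟩ := hs1
        exact ⟨c - 10368 * ((a : ℤ) + b + 1), by rw [hsdef] at hc ⊢; linear_combination hc⟩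
      obtain ⟨c, hc⟩ := h2
      rcases Int.natAbs_eq (b * (b + 1)) with h | h
      · exact ⟨c, by rw [← h]; exact hc⟩
      · exact ⟨-c, by linear_combination (-1 : ℤ) * hc + 10368 * h⟩
  set n := s.natAbs with hn
  have hn0 : 0 < n := Int.natAbs_pos.2 hs0
  have hnm : n ∣ mult i := by
    rw [← Int.natAbs_natCast (mult i)]
    exact Int.natAbs_dvd_natAbs.2 hm
  have hmle : mult i ≤ 10368 * 272 := by
    interval_cases i <;> decide
  have hmpos : 0 < mult i := by
    interval_cases i <;> decide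
  obtain ⟨d, hd, hdd, hcase⟩ : ∃ d : ℕ, d < 1692 ∧ d ∣ mult i ∧ (n = d ∨ n = mult i / d) := by
    obtain ⟨c, hc⟩ := hnm
    by_cases h : n ≤ c
    · exact ⟨n, by nlinarith, ⟨c, hc⟩, Or.inl rfl⟩
    · refine ⟨c, by nlinarith, ⟨n, by rw [hc, mul_comm]⟩, Or.inr ?_⟩
      rw [hc, Nat.mul_div_cancel]
      exact Nat.pos_of_ne_zero (by rintro rfl; omega)
  have hk := List.all_eq_true.1 (List.all_eq_true.1 chk_all i (List.mem_range.2 hi)) d
    (List.mem_range.2 hd)
  simp only [chk, Bool.or_eq_true, Bool.and_eq_true,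
    Bool.not_eq_true', decide_eq_false_iff_not] at hk
  have hg : good (a : ℤ) b = true := by
    obtain ⟨⟨⟨g1, g2⟩, g3⟩, g4⟩ := hk.resolve_left (fun h => h (Nat.dvd_iff_mod_eq_zero.1 hdd))
    rcases hcase with h | h <;> rcases Int.natAbs_eq s with e | e <;> rw [← hn, h] at e
    · rwa [show (a : ℤ) = b + (d : ℤ) by omega]
    · rwa [show (a : ℤ) = b - (d : ℤ) by omega]
    · rwa [show (a : ℤ) = b + ((mult i / d : ℕ) : ℤ) by omega]
    · rwa [show (a : ℤ) = b - ((mult i / d : ℕ) : ℤ) by omega]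
  have hdiv : 10368 * ((a : ℤ) * (a + 1)) / ((a - b) * (a - b)) = N := by
    rw [← he, sq, Int.mul_ediv_cancel _ (mul_ne_zero hs0 hs0)]
  have hmod : 10368 * ((a : ℤ) * (a + 1)) % ((a - b) * (a - b)) = 0 := by
    rw [← he, sq, Int.mul_emod_left]
  simp only [good, hdiv, hmod, Bool.or_eq_true, decide_eq_true_eq, Bool.not_eq_true',
    decide_eq_false_iff_not, not_true_eq_false, or_false] at hg
  omega

end CfsgLib.G2TwoLocal.NotZeroNum
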