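import Cfsg.Agent.Lib.G2TwoLocal.NotZeroBase

/-!
# Elements of order three local to the centraliser of an involution: the five orders
-/

set_option autoImplicit false
set_option linter.style.haveILetI false
set_option linter.unusedSectionVars false

open Cfsg Subgroup
open CfsgLib.G2Three (cj)

namespace CfsgLib.G2TwoLocal.NotZero

universe u

variable {G : Type u} [Group G] [Finite G]

theorem normalizer_le_normalizer_centralizer (S : Set G) :
    normalizer S ≤ normalizer (centralizer S : Set G) := by
  intro n hn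
  rw [mem_set_normalizer_iff] at hn
  refine mem_normalizer_iff.2 ?_
  intro c
  constructor
  · intro hc
    refine mem_centralizer_iff.2 fun s hs => ?_
    have h1 : n⁻¹ * s * n ∈ S := (hn _).2 (by rwa [show n * (n⁻¹ * s * n) * n⁻¹ = s by group])
    calc s * (n * c * n⁻¹) = n * (n⁻¹ * s * n * c) * n⁻¹ := by group
      _ = n * (c * (n⁻¹ * s * n)) * n⁻¹ := by rw [mem_centralizer_iff.1 hc _ h1]
      _ = n * c * n⁻¹ * s := by group
  · intro hc
    refine mem_centralizer_iff.2 fun s hs => ?_
    calc s * c = n⁻¹ * (n * s * n⁻¹ * (n * c * n⁻¹)) * n := by group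
      _ = n⁻¹ * (n * c * n⁻¹ * (n * s * n⁻¹)) * n := by
          rw [mem_centralizer_iff.1 hc _ ((hn s).1 hs)]
      _ = c * s := by group

theorem mem_centralizer_zpowers {g c : G} :
    c ∈ centralizer (zpowers g : Set G) ↔ c ∈ centralizer ({g} : Set G) := by
  rw [zpowers_eq_closure, centralizer_closure]

/-- A subgroup with a forced Sylow number has its normalizer in that of the Sylow subgroup. -/
theorem normalizer_le_of_unique {p k m : ℕ} [hp : Fact p.Prime] {C P : Subgroup G} (hPC : P ≤ C)
    (hP : Nat.card P = p ^ k) (hC : Nat.card C = p ^ k * m) (hm : ¬ p ∣ m)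
    (hd : ∀ d ∈ m.divisors, d % p = 1 → d = 1) :
    normalizer (C : Set G) ≤ normalizer (P : Set G) := by
  have hm0 : m ≠ 0 := fun h => hm (h ▸ dvd_zero p)
  have hf : (Nat.card C).factorization p = k := by
    rw [hC, Nat.factorization_mul (pow_ne_zero _ hp.out.ne_zero) hm0, Finsupp.add_apply,
      Nat.Prime.factorization_pow hp.out, Finsupp.single_eq_same,
      Nat.factorization_eq_zero_of_not_dvd hm, add_zero]
  let Q : Sylow p C := Sylow.ofCard (P.subgroupOf C) (by
    rw [Nat.card_congr (subgroupOfEquivOfLe hPC).toEquiv, hf, hP])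
  have hQ : (Q : Subgroup C) = P.subgroupOf C := Sylow.coe_ofCard _ _
  have hidx : (Q : Subgroup C).index = m := by
    have h := (Q : Subgroup C).card_mul_index
    rw [hQ, Nat.card_congr (subgroupOfEquivOfLe hPC).toEquiv, hP, hC] at h
    rw [hQ]
    exact Nat.eq_of_mul_eq_mul_left (pow_pos hp.out.pos k) h
  have h1 : Nat.card (Sylow p C) = 1 := by
    refine hd _ (Nat.mem_divisors.2 ⟨hidx ▸ Q.card_dvd_index, hm0⟩) ?_
    have := card_sylow_modEq_one p C
    rw [Nat.ModEq, Nat.one_mod_eq_one.2 hp.out.ne_one] at this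
    exact this
  haveI : Subsingleton (Sylow p C) := (Nat.card_eq_one_iff_unique.1 h1).1
  haveI : (Q : Subgroup C).Characteristic := Q.characteristic_of_normal (Q.normal_of_subsingleton)
  have := Base.normalizer_le_normalizer_map_subtype C (Q : Subgroup C)
  rwa [hQ, subgroupOf_map_subtype, inf_of_le_left hPC] at this

theorem exists_order {p : ℕ} [Fact p.Prime] {C : Subgroup G} (h : p ∣ Nat.card C) :
    ∃ g ∈ C, orderOf g = p := by
  obtain ⟨g, hg⟩ := exists_prime_orderOf_dvd_card' p h
  exact ⟨g, g.2, by rw [Subgroup.orderOf_coe]; exact hg⟩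

variable {H H₁ H₂ : Subgroup G} {z t x₁ x₂ : G} {N : ℕ}
  (hS : Setup H H₁ H₂ z t x₁ x₂)
  (hC : ∀ x ∈ P₀ x₁ x₂, x ≠ 1 → centralizer ({x} : Set G) ≤ H)
  (hN : Nat.card G = 576 * N) (h3 : ¬ 3 ∣ N)
include hS hC hN h3

theorem exists_conj_P₀ {y : G} (hy : orderOf y = 3) : ∃ g : G, cj g y ∈ P₀ x₁ x₂ := by
  haveI : Fact (Nat.Prime 3) := ⟨Nat.prime_three⟩
  have hN0 : N ≠ 0 := fun h => by
    have := Nat.card_pos (α := G)
    rw [hN, h] at this
    omega
  have hf : (Nat.card G).factorization 3 = 2 := by
    rw [hN, show (576 : ℕ) = 2 ^ 6 * 3 ^ 2 by norm_num,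
      Nat.factorization_mul (by norm_num) hN0, Finsupp.add_apply,
      Nat.factorization_mul (by norm_num) (by norm_num), Finsupp.add_apply,
      Nat.Prime.factorization_pow Nat.prime_two, Nat.Prime.factorization_pow Nat.prime_three,
      Nat.factorization_eq_zero_of_not_dvd h3]
    simp
  let P : Sylow 3 G := Sylow.ofCard (P₀ x₁ x₂) (by rw [hf, card_P₀ hS]; norm_num)
  have hz : IsPGroup 3 (zpowers y) := IsPGroup.of_card (n := 1) (by rw [Nat.card_zpowers, hy, pow_one])
  obtain ⟨Q, hQ⟩ := hz.exists_le_sylow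
  obtain ⟨g, hg⟩ := MulAction.exists_smul_eq G Q P
  refine ⟨g, ?_⟩
  have h1 : MulAut.conj g y ∈ ((g • Q : Sylow 3 G) : Subgroup G) := by
    rw [Sylow.coe_subgroup_smul]
    exact Subgroup.smul_mem_pointwise_smul _ (MulAut.conj g) _ (hQ (mem_zpowers _))
  rw [hg] at h1
  exact h1

theorem card_centralizer_dvd {p : ℕ} [hp : Fact p.Prime] (h5 : 5 ≤ p) {g : G} (hg : orderOf g = p) :
    Nat.card (centralizer ({g} : Set G)) ∣ N := by
  have hH : ∀ x : G, x ∈ H → orderOf x = p → False := by
    intro x hx hox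
    have h := Subgroup.orderOf_dvd_natCard H hx
    rw [hox, hS.card_H, show (576 : ℕ) = 2 ^ 6 * 3 ^ 2 by norm_num] at h
    rcases hp.out.dvd_mul.1 h with h | h
    · have := (Nat.prime_dvd_prime_iff_eq hp.out Nat.prime_two).1 (hp.out.dvd_of_dvd_pow h)
      omega
    · have := (Nat.prime_dvd_prime_iff_eq hp.out Nat.prime_three).1 (hp.out.dvd_of_dvd_pow h)
      omega
  have hcj : ∀ a : G, orderOf (cj a g) = p := fun a => by
    rw [cj, show a * g * a⁻¹ = MulAut.conj a g from rfl, MulEquiv.orderOf_eq, hg]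
  have hcomm : ∀ (a c : G), c ∈ centralizer ({g} : Set G) → Commute (cj a g) (cj a c) := by
    intro a c hc
    have h := mem_centralizer_singleton_iff.1 hc
    show a * g * a⁻¹ * (a * c * a⁻¹) = a * c * a⁻¹ * (a * g * a⁻¹)
    rw [show a * g * a⁻¹ * (a * c * a⁻¹) = a * (g * c) * a⁻¹ by group, ← h]
    group
  refine Nat.Coprime.dvd_of_dvd_mul_left ?_ (hN ▸ card_subgroup_dvd_card _)
  rw [show (576 : ℕ) = 2 ^ 6 * 3 ^ 2 by norm_num]
  refine Nat.Coprime.mul_right (Nat.Coprime.pow_right _ ?_) (Nat.Coprime.pow_right _ ?_)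
  · rw [Nat.coprime_comm, Nat.Prime.coprime_iff_not_dvd Nat.prime_two]
    intro h
    haveI : Fact (Nat.Prime 2) := ⟨Nat.prime_two⟩
    obtain ⟨w, hw, how⟩ := exists_order h
    obtain ⟨a, ha⟩ := isConj_iff.1 (hS.invol w how)
    refine hH (cj a⁻¹ g) ?_ (hcj _)
    rw [← hS.cent_z, mem_centralizer_singleton_iff]
    have h2 := hcomm a⁻¹ w hw
    rwa [show cj a⁻¹ w = z by rw [cj, ← ha]; group] at h2
  · rw [Nat.coprime_comm, Nat.Prime.coprime_iff_not_dvd Nat.prime_three]
    intro h
    haveI : Fact (Nat.Prime 3) := ⟨Nat.prime_three⟩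
    obtain ⟨y, hy, hoy⟩ := exists_order h
    obtain ⟨a, ha⟩ := exists_conj_P₀ hS hC hN h3 hoy
    refine hH (cj a g) (hC _ ha ?_ (mem_centralizer_singleton_iff.2 (hcomm a y hy).eq)) (hcj _)
    intro h1
    have : y = 1 := by
      calc y = a⁻¹ * cj a y * a := by rw [cj]; group
        _ = 1 := by rw [h1]; group
    rw [this, orderOf_one] at hoy
    omega

/-- The centraliser and the normaliser of a subgroup of prime order `p`. -/
theorem sylow_data {p : ℕ} [hp : Fact p.Prime] (h5 : 5 ≤ p) (hpN : p ∣ N) (hp2 : ¬ p ^ 2 ∣ N)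
    {g : G} (hg : orderOf g = p) :
    ∃ c ∈ N.divisors, ∃ e ∈ (p - 1).divisors, Nat.card (centralizer ({g} : Set G)) = c ∧
      Nat.card (normalizer (zpowers g : Set G)) = c * e ∧ p ∣ c ∧ c * e ∣ 576 * N ∧
      576 * N / (c * e) % p = 1 := by
  have hN0 : N ≠ 0 := fun h => hp2 (h ▸ dvd_zero _)
  set c := Nat.card (centralizer ({g} : Set G)) with hc
  have hle : centralizer (zpowers g : Set G) ≤ normalizer (zpowers g : Set G) :=
    centralizer_le_normalizer _
  have hcg : Nat.card (centralizer (zpowers g : Set G)) = c :=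
    Nat.card_congr (Equiv.subtypeEquivRight fun x => mem_centralizer_zpowers)
  set e := ((centralizer (zpowers g : Set G)).subgroupOf (normalizer (zpowers g : Set G))).index
    with he
  have hce : Nat.card (normalizer (zpowers g : Set G)) = c * e := by
    rw [← Subgroup.card_mul_index ((centralizer (zpowers g : Set G)).subgroupOf _), ← he,
      Nat.card_congr (subgroupOfEquivOfLe hle).toEquiv, hcg]
  have hep : e ∣ p - 1 := by
    have key := card_dvd_of_injective _
      (QuotientGroup.kerLift_injective (zpowers g).normalizerMonoidHom)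
    rw [normalizerMonoidHom_ker, ← Subgroup.index, ← he] at key
    haveI : IsCyclic (zpowers g) := inferInstance
    rwa [IsCyclic.card_mulAut, Nat.card_zpowers, hg, Nat.totient_prime hp.out] at key
  have hf : (Nat.card G).factorization p = 1 := by
    rw [hN, Nat.factorization_mul (by norm_num) hN0, Finsupp.add_apply,
      Nat.factorization_eq_zero_of_not_dvd (fun h => ?_), zero_add]
    · have h1 := (hp.out.pow_dvd_iff_le_factorization hN0 (k := 1)).1 (by rwa [pow_one])
      have h2 : ¬ 2 ≤ N.factorization p := fun h => hp2 ((hp.out.pow_dvd_iff_le_factorization hN0).2 h)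
      omega
    · rw [show (576 : ℕ) = 2 ^ 6 * 3 ^ 2 by norm_num] at h
      rcases hp.out.dvd_mul.1 h with h | h
      · have := (Nat.prime_dvd_prime_iff_eq hp.out Nat.prime_two).1 (hp.out.dvd_of_dvd_pow h)
        omega
      · have := (Nat.prime_dvd_prime_iff_eq hp.out Nat.prime_three).1 (hp.out.dvd_of_dvd_pow h)
        omega
  let P : Sylow p G := Sylow.ofCard (zpowers g) (by rw [Nat.card_zpowers, hg, hf, pow_one])
  have hidx : (normalizer (zpowers g : Set G)).index % p = 1 := by
    have h1 := card_sylow_modEq_one p G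
    rw [P.card_eq_index_normalizer, Nat.ModEq, Nat.one_mod_eq_one.2 hp.out.ne_one] at h1
    exact h1
  have hdiv : c * e ∣ 576 * N := hN ▸ hce ▸ card_subgroup_dvd_card _
  have hq : 576 * N / (c * e) = (normalizer (zpowers g : Set G)).index := by
    rw [← hN, ← (normalizer (zpowers g : Set G)).card_mul_index, hce, Nat.mul_div_cancel_left]
    exact hce ▸ Nat.card_pos
  refine ⟨c, Nat.mem_divisors.2 ⟨card_centralizer_dvd hS hC hN h3 h5 hg, hN0⟩, e,
    Nat.mem_divisors.2 ⟨hep, by omega⟩, rfl, hce, ?_, hdiv, hq ▸ hidx⟩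
  exact hg ▸ Subgroup.orderOf_dvd_natCard _ (mem_centralizer_singleton_iff.2 rfl)

omit hC in
/-- There is no normal subgroup of index seventeen. -/
theorem no_index_seventeen {K : Subgroup G} [K.Normal] (hK : K.index = 17)
    (hcent : ∀ n : G, orderOf n = 17 → ¬ 2 ∣ Nat.card (centralizer ({n} : Set G))) : False := by
  haveI : Fact (Nat.Prime 2) := ⟨Nat.prime_two⟩
  haveI : Fact (Nat.Prime 17) := ⟨by norm_num⟩
  have h64 : 2 ^ 6 ∣ Nat.card K := by
    have h := K.card_mul_index
    rw [hK, hN] at h
    have : 2 ^ 6 ∣ Nat.card K * 17 := h ▸ (dvd_mul_of_dvd_left (by norm_num) N)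
    exact (Nat.Coprime.dvd_of_dvd_mul_right (by norm_num) this)
  obtain ⟨T, hT⟩ := Sylow.exists_subgroup_card_pow_prime 2 h64
  have hTp : IsPGroup 2 T := IsPGroup.of_card hT
  obtain ⟨S, hTS⟩ := hTp.exists_le_sylow
  have hS64 : Nat.card (S : Subgroup K) = 2 ^ 6 := by
    obtain ⟨k, hk⟩ := IsPGroup.iff_card.1 S.2
    have h1 : 6 ≤ k := by
      by_contra h
      have := Nat.le_of_dvd Nat.card_pos (card_dvd_of_le hTS)
      rw [hT, hk] at this
      exact absurd this (not_le.2 (Nat.pow_lt_pow_right (by norm_num) (by omega)))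
    have h2 : k ≤ 6 := by
      by_contra h
      exact hS.two_part ((pow_dvd_pow 2 (show 7 ≤ k by omega)).trans
        (hk ▸ (card_subgroup_dvd_card _).trans (card_subgroup_dvd_card K)))
    rw [hk, le_antisymm h2 h1]
  have htop := Sylow.normalizer_sup_eq_top S
  set T' : Subgroup G := (S : Subgroup K).map K.subtype with hT'
  have h17' : 17 ∣ Nat.card (normalizer (T' : Set G)) := by
    by_contra h
    have hle : normalizer (T' : Set G) ≤ K := by
      intro n hn
      rw [← QuotientGroup.eq_one_iff, ← orderOf_eq_one_iff]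
      have h1 : orderOf (n : G ⧸ K) ∣ 17 := by
        rw [← hK, index_eq_card]; exact orderOf_dvd_natCard _
      refine ((Nat.dvd_prime (by norm_num)).1 h1).resolve_right fun h2 => h ?_
      exact h2 ▸ (orderOf_map_dvd (QuotientGroup.mk' K) n).trans (Subgroup.orderOf_dvd_natCard _ hn)
    rw [sup_eq_right.2 hle] at htop
    rw [htop, index_top] at hK
    norm_num at hK
  obtain ⟨n, hn, hon⟩ := exists_order h17'
  let φ : zpowers n →* MulAut T' :=
    (normalizerMonoidHom T').comp (inclusion (zpowers_le.2 hn))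
  letI : MulAction (zpowers n) T' := MulAction.compHom T' φ
  have hp : IsPGroup 17 (zpowers n) := IsPGroup.of_card (n := 1) (by rw [Nat.card_zpowers, hon, pow_one])
  have hmod := hp.card_modEq_card_fixedPoints T'
  have hfix : MulAction.fixedPoints (zpowers n) T' = {1} := by
    refine Set.eq_singleton_iff_unique_mem.2 ⟨fun a => map_one (φ a), fun x hx => ?_⟩
    by_contra hx1
    have hcn : Commute n (x : G) := by
      have h := congrArg Subtype.val (hx ⟨n, mem_zpowers n⟩)
      exact (mul_inv_eq_iff_eq_mul.1 h : _)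
    refine hcent n hon ?_
    have h2 : 2 ∣ orderOf (x : G) := by
      obtain ⟨k, hk⟩ := IsPGroup.iff_orderOf.1 (S.2.map K.subtype) x
      rw [Subgroup.orderOf_coe, hk]
      refine dvd_pow_self 2 fun h0 => hx1 (orderOf_eq_one_iff.1 (by rw [hk, h0, pow_zero]))
    exact h2.trans (Subgroup.orderOf_dvd_natCard _ (mem_centralizer_singleton_iff.2 hcn.eq.symm))
  rw [hfix, Nat.card_coe_set_eq, Set.ncard_singleton,
    show Nat.card T' = 64 by
      rw [hT', card_map_of_injective K.subtype_injective, hS64]; norm_num] at hmod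
  exact absurd hmod (by decide)

theorem not_10829 : N ≠ 10829 := by
  rintro rfl
  haveI : Fact (Nat.Prime 7) := ⟨by norm_num⟩
  haveI h13 : Fact (Nat.Prime 13) := ⟨by norm_num⟩
  haveI h17 : Fact (Nat.Prime 17) := ⟨by norm_num⟩
  obtain ⟨g, hg⟩ := exists_prime_orderOf_dvd_card' (G := G) 17 (by rw [hN]; norm_num)
  obtain ⟨c, hc, e, he, hcC, hcN, hpc, hd, hmod⟩ :=
    sylow_data hS hC hN h3 (p := 17) (by norm_num) (by norm_num) (by norm_num) hg
  have key : (c = 17 ∧ e = 1) ∨ (c = 221 ∧ e = 4) ∨ (c = 833 ∧ e = 8) := by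
    have : ∀ c ∈ (10829 : ℕ).divisors, ∀ e ∈ (17 - 1 : ℕ).divisors, 17 ∣ c →
        c * e ∣ 576 * 10829 → 576 * 10829 / (c * e) % 17 = 1 →
        (c = 17 ∧ e = 1) ∨ (c = 221 ∧ e = 4) ∨ (c = 833 ∧ e = 8) := by decide +kernel
    exact this c hc e he hpc hd hmod
  -- a centraliser of an element of order thirteen with one of order seventeen
  have hmk : ∀ q : G, orderOf q = 13 → g ∈ centralizer ({q} : Set G) →
      (13 * 17) ∣ Nat.card (centralizer ({q} : Set G)) := by
    intro q hq hgq
    refine Nat.Coprime.mul_dvd_of_dvd_of_dvd (by norm_num) ?_ ?_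
    · exact hq ▸ Subgroup.orderOf_dvd_natCard _ (mem_centralizer_singleton_iff.2 rfl)
    · exact hg ▸ Subgroup.orderOf_dvd_natCard _ hgq
  have huniq17 : ∀ (C : Subgroup G) (m : ℕ), g ∈ C → Nat.card C = 17 * m → m ∣ 637 →
      normalizer (C : Set G) ≤ normalizer (zpowers g : Set G) := by
    intro C m hgC hcard hm
    refine normalizer_le_of_unique (p := 17) (k := 1) (m := m) (zpowers_le.2 hgC)
      (by rw [Nat.card_zpowers, hg, pow_one]) (by rw [hcard, pow_one]) (fun h => ?_) (fun d hd => ?_)
    · have := h.trans hm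
      norm_num at this
    · have h1 : d ∈ (637 : ℕ).divisors :=
        Nat.mem_divisors.2 ⟨(Nat.mem_divisors.1 hd).1.trans hm, by norm_num⟩
      revert h1
      revert d
      intro d _ h1
      exact (show ∀ d ∈ (637 : ℕ).divisors, d % 17 = 1 → d = 1 by decide +kernel) d h1
  rcases key with ⟨rfl, rfl⟩ | ⟨rfl, rfl⟩ | ⟨rfl, rfl⟩
  · -- Burnside
    let P : Sylow 17 G := Sylow.ofCard (zpowers g) (by
      rw [Nat.card_zpowers, hg, hN, show (576 * 10829 : ℕ) = 17 ^ 1 * 366912 by norm_num,
        Nat.factorization_mul (by norm_num) (by norm_num), Finsupp.add_apply,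
        Nat.Prime.factorization_pow h17.out,
        Nat.factorization_eq_zero_of_not_dvd (by norm_num : ¬ 17 ∣ 366912)]
      simp)
    have hP : normalizer (P : Set G) ≤ centralizer (P : Set G) := by
      intro n hn
      have hle : centralizer (zpowers g : Set G) ≤ normalizer (zpowers g : Set G) :=
        centralizer_le_normalizer _
      have heq : centralizer (zpowers g : Set G) = normalizer (zpowers g : Set G) :=
        eq_of_le_of_card_ge hle (by
          rw [hcN, mul_one, ← hcC]
          exact (Nat.card_congr (Equiv.subtypeEquivRight fun x => mem_centralizer_zpowers)).ge)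
      exact heq.ge hn
    have hcompl := MonoidHom.ker_transferSylow_isComplement' P hP
    refine no_index_seventeen hS hN (by norm_num) (K := (MonoidHom.transferSylow P hP).ker) ?_ ?_
    · rw [hcompl.symm.index_eq_card]
      show Nat.card (zpowers g) = 17
      rw [Nat.card_zpowers, hg]
    · intro n hn h2
      have := h2.trans (card_centralizer_dvd hS hC hN h3 (p := 17) (by norm_num) hn)
      norm_num at this
  · -- `221`
    obtain ⟨q, hqC, hq⟩ := exists_order (p := 13) (C := centralizer ({g} : Set G))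
      (by rw [hcC]; norm_num)
    have hgq : g ∈ centralizer ({q} : Set G) := mem_centralizer_singleton_iff.2
      (mem_centralizer_singleton_iff.1 hqC).symm
    obtain ⟨c', hc', e', he', hcC', hcN', hpc', hd', hmod'⟩ :=
      sylow_data hS hC hN h3 (p := 13) (by norm_num) (by norm_num) (by norm_num) hq
    have key' : (c' = 221 ∧ e' = 1) ∨ c' = 1547 ∨ c' = 10829 := by
      have : ∀ c ∈ (10829 : ℕ).divisors, ∀ e ∈ (13 - 1 : ℕ).divisors, 13 * 17 ∣ c →
          c * e ∣ 576 * 10829 → 576 * 10829 / (c * e) % 13 = 1 →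
          (c = 221 ∧ e = 1) ∨ c = 1547 ∨ c = 10829 := by decide +kernel
      exact this c' hc' e' he' (hcC' ▸ hmk q hq hgq) hd' hmod'
    rcases key' with ⟨rfl, rfl⟩ | hbig
    · have hle : normalizer (zpowers g : Set G) ≤ normalizer (zpowers q : Set G) := by
        refine (normalizer_le_normalizer_centralizer _).trans (normalizer_le_of_unique (p := 13)
          (k := 1) (m := 17) (zpowers_le.2 (mem_centralizer_zpowers.2 hqC))
          (by rw [Nat.card_zpowers, hq, pow_one]) ?_ (by norm_num) (by decide +kernel))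
        rw [Nat.card_congr (Equiv.subtypeEquivRight fun x => mem_centralizer_zpowers), hcC]
        norm_num
      have := card_dvd_of_le hle
      rw [hcN, hcN'] at this
      norm_num at this
    · have hle : centralizer ({q} : Set G) ≤ normalizer (zpowers g : Set G) := by
        refine Subgroup.le_normalizer.trans (huniq17 _ (c' / 17) hgq ?_ ?_)
        · rw [hcC']
          rcases hbig with rfl | rfl <;> norm_num
        · rcases hbig with rfl | rfl <;> norm_num
      have := card_dvd_of_le hle
      rw [hcC', hcN] at this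
      rcases hbig with rfl | rfl <;> norm_num at this
  · -- `833`
    obtain ⟨S, hS49⟩ := Sylow.exists_subgroup_card_pow_prime (G := centralizer ({g} : Set G)) 7
      (n := 2) (by rw [hcC]; norm_num)
    set S' : Subgroup G := S.map (centralizer ({g} : Set G)).subtype with hS'
    have hS'C : S' ≤ centralizer ({g} : Set G) := map_subtype_le S
    have hS'49 : Nat.card S' = 7 ^ 2 := by
      rw [hS', card_map_of_injective (centralizer ({g} : Set G)).subtype_injective, hS49]
    have hgS : g ∈ centralizer (S' : Set G) := mem_centralizer_iff.2 fun s hs =>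
      mem_centralizer_singleton_iff.1 (hS'C hs)
    have hSS : S' ≤ centralizer (S' : Set G) := fun s hs => mem_centralizer_iff.2 fun r hr =>
      congrArg Subtype.val ((IsPGroup.isMulCommutative_of_card_eq_prime_sq hS'49).is_comm.comm
        ⟨r, hr⟩ ⟨s, hs⟩)
    obtain ⟨s, hsS, hos⟩ := exists_order (p := 7) (C := S') (by rw [hS'49]; norm_num)
    have hCSN : Nat.card (centralizer (S' : Set G)) ∣ 10829 :=
      (card_dvd_of_le (centralizer_le (Set.singleton_subset_iff.2 hsS))).trans
        (card_centralizer_dvd hS hC hN h3 (p := 7) (by norm_num) hos)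
    have h833 : 833 ∣ Nat.card (centralizer (S' : Set G)) := by
      rw [show (833 : ℕ) = 7 ^ 2 * 17 by norm_num]
      refine Nat.Coprime.mul_dvd_of_dvd_of_dvd (by norm_num) (hS'49 ▸ card_dvd_of_le hSS) ?_
      exact hg ▸ Subgroup.orderOf_dvd_natCard _ hgS
    have hCS : Nat.card (centralizer (S' : Set G)) = 833 := by
      have : ∀ d ∈ (10829 : ℕ).divisors, 833 ∣ d → d = 833 ∨ d = 10829 := by decide +kernel
      refine (this _ (Nat.mem_divisors.2 ⟨hCSN, by norm_num⟩) h833).resolve_right fun h => ?_
      have hle := card_dvd_of_le (Subgroup.le_normalizer.trans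
        (huniq17 _ 637 hgS (by rw [h]) dvd_rfl))
      rw [h, hcN] at hle
      norm_num at hle
    have h1 : normalizer (S' : Set G) ≤ normalizer (zpowers g : Set G) :=
      (normalizer_le_normalizer_centralizer _).trans (huniq17 _ 49 hgS (by rw [hCS]) (by norm_num))
    have h2 : normalizer (zpowers g : Set G) ≤ normalizer (S' : Set G) := by
      refine (normalizer_le_normalizer_centralizer _).trans (normalizer_le_of_unique (p := 7)
        (k := 2) (m := 17) ?_ hS'49 ?_ (by norm_num) (by decide +kernel))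
      · exact fun x hx => mem_centralizer_zpowers.2 (hS'C hx)
      · rw [Nat.card_congr (Equiv.subtypeEquivRight fun x => mem_centralizer_zpowers), hcC]
        norm_num
    let P : Sylow 7 G := Sylow.ofCard S' (by
      rw [hS'49, hN, show (576 * 10829 : ℕ) = 7 ^ 2 * 127296 by norm_num,
        Nat.factorization_mul (by norm_num) (by norm_num), Finsupp.add_apply,
        Nat.Prime.factorization_pow (by norm_num : Nat.Prime 7),
        Nat.factorization_eq_zero_of_not_dvd (by norm_num : ¬ 7 ∣ 127296)]
      simp)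
    have h3' := card_sylow_modEq_one 7 G
    rw [P.card_eq_index_normalizer] at h3'
    have h4 := (normalizer (S' : Set G)).card_mul_index
    rw [le_antisymm h1 h2, hcN, hN] at h4
    have h5 : (normalizer (S' : Set G)).index = 936 := by
      rw [le_antisymm h1 h2]
      omega
    have h6 : (normalizer (P : Set G)).index = 936 := h5
    rw [h6] at h3'
    exact absurd h3' (by decide)

/-- The five orders are impossible. -/
theorem five_false (hN5 : N = 8911 ∨ N = 9835 ∨ N = 10367 ∨ N = 10829 ∨ N = 11935) : False := by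
  have hone : ∀ p : ℕ, p.Prime → 5 ≤ p → p ∣ N → ¬ p ^ 2 ∣ N →
      (∀ c ∈ N.divisors, ∀ e ∈ (p - 1).divisors, p ∣ c → c * e ∣ 576 * N →
        576 * N / (c * e) % p ≠ 1) → False := by
    intro p hp h5 hpN hp2 hno
    haveI := Fact.mk hp
    obtain ⟨g, hg⟩ := exists_prime_orderOf_dvd_card' (G := G) p (hN ▸ dvd_mul_of_dvd_right hpN _)
    obtain ⟨c, hc, e, he, -, -, hpc, hd, hmod⟩ := sylow_data hS hC hN h3 h5 hpN hp2 hg
    exact hno c hc e he hpc hd hmod
  rcases hN5 with rfl | rfl | rfl | rfl | rfl
  · exact hone 67 (by norm_num) (by norm_num) (by norm_num) (by norm_num) (by decide +kernel)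
  · exact hone 281 (by norm_num) (by norm_num) (by norm_num) (by norm_num) (by decide +kernel)
  · exact hone 1481 (by norm_num) (by norm_num) (by norm_num) (by norm_num) (by decide +kernel)
  · exact not_10829 hS hC hN h3 rfl
  · exact hone 11 (by norm_num) (by norm_num) (by norm_num) (by norm_num) (by decide +kernel)

end CfsgLib.G2TwoLocal.NotZero
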