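import Cfsg.Agent.Lib.G2TwoLocal.NotZeroChars
import Cfsg.Agent.Lib.G2TwoLocal.NotZeroNum
import Cfsg.Agent.Lib.G2TwoLocal.NotZeroSylow

/-!
# The elements of order three are not all local to the centraliser of an involution (piece C)
-/

set_option autoImplicit false
set_option linter.style.haveILetI false

namespace CfsgLib.G2TwoLocal

open Subgroup

universe u

/-- Piece C of S2917. -/
theorem not_zero : StmtNotZero.{u} := by
  intro G _ _ H H₁ H₂ z t x₁ x₂ hS hC hF h27
  haveI := Fintype.ofFinite G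
  obtain ⟨N, X, b, hN, hX, he, hb⟩ := NotZero.char_facts hS hC hF
  have h2 : ¬ 2 ∣ N := by
    rintro ⟨k, rfl⟩
    exact hS.two_part ⟨9 * k, by rw [hN]; ring⟩
  have h3 : ¬ 3 ∣ N := by
    rintro ⟨k, rfl⟩
    exact h27 ⟨64 * k, by rw [hN]; ring⟩
  have h7 : 7 ∣ N := by
    have h := hS.seven
    rw [hN] at h
    exact (Nat.Coprime.dvd_of_dvd_mul_left (by norm_num) h)
  exact NotZero.five_false hS hC hN h3 (NotZeroNum.five_orders hX h2 h3 h7 he hb)

end CfsgLib.G2TwoLocal
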