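import Cfsg.Agent.Lib.G2TwoLocal.Defs
import Cfsg.Agent.Lib.PSpAmalgam.SL3
import Cfsg.Agent.Lib.Base.Transport

/-!
# Elements of order three local to the centraliser of an involution: the local facts
-/

set_option autoImplicit false
set_option linter.style.haveILetI false
set_option linter.unusedSectionVars false

open Cfsg Subgroup
open CfsgLib.G2Three (cj)

namespace CfsgLib.G2TwoLocal.NotZero

universe u

variable {G : Type u} [Group G] [Finite G] {H H₁ H₂ : Subgroup G} {z t x₁ x₂ : G}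

/-- The subgroup of index two. -/
abbrev KK (H₁ H₂ : Subgroup G) : Subgroup G := H₁ ⊔ H₂

section
variable (hS : Setup H H₁ H₂ z t x₁ x₂)
include hS

theorem KK_le : KK H₁ H₂ ≤ H := sup_le hS.le₁ hS.le₂

theorem card_KK : Nat.card (KK H₁ H₂) = 288 := by
  have h := Subgroup.card_mul_index ((KK H₁ H₂).subgroupOf H)
  rw [Nat.card_congr (subgroupOfEquivOfLe (KK_le hS)).toEquiv,
    show ((KK H₁ H₂).subgroupOf H).index = 2 from hS.index, hS.card_H] at h
  omega

theorem z_mem : z ∈ KK H₁ H₂ :=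
  mem_sup_left ((inf_le_left : H₁ ⊓ H₂ ≤ H₁) (hS.inter.symm ▸ mem_zpowers z))

theorem commute_x : Commute x₁ x₂ := hS.comm _ hS.mem₁ _ hS.mem₂

theorem x₁_mem : x₁ ∈ P₀ x₁ x₂ := subset_closure (Set.mem_insert _ _)

theorem x₂_mem : x₂ ∈ P₀ x₁ x₂ := subset_closure (Set.mem_insert_of_mem _ rfl)

theorem P₀_le : P₀ x₁ x₂ ≤ KK H₁ H₂ := (closure_le _).2 (by
  rintro x (rfl | rfl)
  · exact mem_sup_left hS.mem₁
  · exact mem_sup_right hS.mem₂)

theorem P₀_eq : P₀ x₁ x₂ = zpowers x₁ ⊔ zpowers x₂ := by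
  rw [zpowers_eq_closure, zpowers_eq_closure, ← Subgroup.closure_union]
  rfl

theorem comm_P₀ {a b : G} (ha : a ∈ P₀ x₁ x₂) (hb : b ∈ P₀ x₁ x₂) : a * b = b * a := by
  have hg : ∀ a ∈ ({x₁, x₂} : Set G), ∀ b ∈ ({x₁, x₂} : Set G), a * b = b * a := by
    rintro a (rfl | rfl) b (rfl | rfl)
    · rfl
    · exact (commute_x hS).eq
    · exact (commute_x hS).eq.symm
    · rfl
  haveI : IsMulCommutative (P₀ x₁ x₂) := Subgroup.isMulCommutative_closure hg
  exact congrArg Subtype.val (mul_comm' (⟨a, ha⟩ : P₀ x₁ x₂) ⟨b, hb⟩)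

theorem pow_three_P₀ {a : G} (ha : a ∈ P₀ x₁ x₂) : a ^ 3 = 1 := by
  induction ha using closure_induction with
  | mem x hx =>
    rcases hx with rfl | rfl
    · exact hS.order₁ ▸ pow_orderOf_eq_one _
    · exact hS.order₂ ▸ pow_orderOf_eq_one _
  | one => exact one_pow 3
  | mul a b ha hb iha ihb =>
    rw [(show Commute a b from comm_P₀ hS ha hb).mul_pow, iha, ihb, one_mul]
  | inv a ha iha => rw [inv_pow, iha, inv_one]

theorem inv_of_mem {p : G} (hp : p ∈ P₀ x₁ x₂) : cj t p = p⁻¹ := by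
  induction hp using closure_induction with
  | mem x hx =>
    rcases hx with rfl | rfl
    · exact hS.inv₁
    · exact hS.inv₂
  | one => simp [cj]
  | mul a b ha hb iha ihb =>
    unfold cj at *
    rw [show t * (a * b) * t⁻¹ = t * a * t⁻¹ * (t * b * t⁻¹) by group, iha, ihb, ← mul_inv_rev,
      comm_P₀ hS ha hb]
  | inv a ha iha =>
    unfold cj at *
    rw [show t * a⁻¹ * t⁻¹ = (t * a * t⁻¹)⁻¹ by group, iha]

theorem card_P₀ : Nat.card (P₀ x₁ x₂) = 9 := by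
  haveI : Fact (Nat.Prime 3) := ⟨Nat.prime_three⟩
  have hp : IsPGroup 3 (P₀ x₁ x₂) := by
    rw [P₀_eq hS]
    refine IsPGroup.to_sup_of_normal_right'
      (IsPGroup.of_card (n := 1) (by rw [Nat.card_zpowers, hS.order₁, pow_one]))
      (IsPGroup.of_card (n := 1) (by rw [Nat.card_zpowers, hS.order₂, pow_one]))
      (le_trans ?_ (centralizer_le_normalizer _))
    refine zpowers_le.2 (mem_centralizer_iff.2 fun y hy => ?_)
    obtain ⟨i, rfl⟩ := mem_zpowers_iff.1 hy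
    exact ((commute_x hS).zpow_right i).eq.symm
  obtain ⟨k, hk⟩ := IsPGroup.iff_card.1 hp
  have hd : 3 ^ k ∣ 288 := hk ▸ card_KK hS ▸ card_dvd_of_le (P₀_le hS)
  have hk2 : k ≤ 2 := by
    by_contra hc
    have : 3 ^ 3 ∣ 288 := (pow_dvd_pow 3 (by omega)).trans hd
    norm_num at this
  have hlt : 3 < Nat.card (P₀ x₁ x₂) := by
    refine lt_of_le_of_ne ?_ ?_
    · exact hS.order₁ ▸ Nat.le_of_dvd Nat.card_pos (Subgroup.orderOf_dvd_natCard _ (x₁_mem hS))
    · intro h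
      have he : zpowers x₁ = P₀ x₁ x₂ := eq_of_le_of_card_ge (zpowers_le.2 (x₁_mem hS))
        (by rw [Nat.card_zpowers, hS.order₁, ← h])
      have hx : x₂ ∈ H₁ ⊓ H₂ :=
        ⟨zpowers_le.2 hS.mem₁ (he.ge (x₂_mem hS)), hS.mem₂⟩
      rw [hS.inter] at hx
      have := Subgroup.orderOf_dvd_natCard _ hx
      rw [Nat.card_zpowers, hS.order_z, hS.order₂] at this
      norm_num at this
  interval_cases k <;> omega

/-- Every three-element of `H` is conjugate in `H` into `P₀`. -/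
theorem exists_conj_mem {x : G} (hx : x ∈ H) (h3 : x ^ 3 = 1) :
    ∃ h ∈ H, cj h x ∈ P₀ x₁ x₂ := by
  haveI : Fact (Nat.Prime 3) := ⟨Nat.prime_three⟩
  have hf : (Nat.card H).factorization 3 = 2 := by
    rw [hS.card_H, show (576 : ℕ) = 2 ^ 6 * 3 ^ 2 by norm_num,
      Nat.factorization_mul (by norm_num) (by norm_num), Finsupp.add_apply,
      Nat.Prime.factorization_pow Nat.prime_two, Nat.Prime.factorization_pow Nat.prime_three]
    simp
  let P : Sylow 3 H := Sylow.ofCard ((P₀ x₁ x₂).subgroupOf H) (by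
    rw [Nat.card_congr (subgroupOfEquivOfLe ((P₀_le hS).trans (KK_le hS))).toEquiv, hf, card_P₀ hS]
    norm_num)
  have hz : IsPGroup 3 (zpowers (⟨x, hx⟩ : H)) := by
    obtain ⟨k, -, hk⟩ := (Nat.dvd_prime_pow Nat.prime_three).1
      (show Nat.card (zpowers (⟨x, hx⟩ : H)) ∣ 3 ^ 1 by
        rw [Nat.card_zpowers, pow_one]
        exact orderOf_dvd_of_pow_eq_one (Subtype.ext h3))
    exact IsPGroup.of_card hk
  obtain ⟨Q, hQ⟩ := hz.exists_le_sylow
  obtain ⟨h, hh⟩ := MulAction.exists_smul_eq H Q P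
  refine ⟨h, h.2, ?_⟩
  have h1 : MulAut.conj h ⟨x, hx⟩ ∈ ((h • Q : Sylow 3 H) : Subgroup H) := by
    rw [Sylow.coe_subgroup_smul]
    exact Subgroup.smul_mem_pointwise_smul _ (MulAut.conj h) _ (hQ (mem_zpowers _))
  rw [hh] at h1
  exact h1

/-- An element which conjugates a three-singular element of `H` into `H` lies in `H`. -/
theorem mem_of_cj_mem (hC : ∀ x ∈ P₀ x₁ x₂, x ≠ 1 → centralizer ({x} : Set G) ≤ H)
    (hF : ∀ x ∈ P₀ x₁ x₂, ∀ y ∈ P₀ x₁ x₂, IsConj x y → y = x ∨ y = x⁻¹)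
    {k g : G} (hk : k ∈ H) (h3 : 3 ∣ orderOf k) (hg : cj g k ∈ H) : g ∈ H := by
  set x := k ^ (orderOf k / 3) with hx
  have hox : orderOf x = 3 := by
    rw [hx, orderOf_pow_of_dvd (Nat.div_ne_zero_iff.2 ⟨by norm_num,
      Nat.le_of_dvd (orderOf_pos k) h3⟩) (Nat.div_dvd_of_dvd h3),
      Nat.div_div_self h3 (orderOf_pos k).ne']
  have hxH : x ∈ H := pow_mem hk _
  have hx3 : x ^ 3 = 1 := hox ▸ pow_orderOf_eq_one x
  have hgx : cj g x ∈ H := by
    rw [hx, cj, ← conj_pow]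
    exact pow_mem hg _
  obtain ⟨h, hh, hp⟩ := exists_conj_mem hS hxH hx3
  obtain ⟨h', hh', hp'⟩ := exists_conj_mem hS hgx (by rw [cj, conj_pow, hx3]; group)
  have hne : cj h x ≠ 1 := by
    intro h1
    have : x = 1 := by
      calc x = h⁻¹ * cj h x * h := by rw [cj]; group
        _ = 1 := by rw [h1]; group
    rw [this, orderOf_one] at hox
    norm_num at hox
  have hc : IsConj (cj h x) (cj h' (cj g x)) := isConj_iff.2 ⟨h' * g * h⁻¹, by simp only [cj]; group⟩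
  have hm : h' * g * h⁻¹ ∈ H := by
    rcases hF _ hp _ hp' hc with he | he
    · refine hC _ hp hne (mem_centralizer_singleton_iff.2 ?_)
      calc h' * g * h⁻¹ * cj h x = cj h' (cj g x) * (h' * g * h⁻¹) := by simp only [cj]; group
        _ = cj h x * (h' * g * h⁻¹) := by rw [he]
    · have h2 : t * (h' * g * h⁻¹) ∈ H := by
        refine hC _ hp hne (mem_centralizer_singleton_iff.2 ?_)
        calc t * (h' * g * h⁻¹) * cj h x
            = cj t (cj h' (cj g x)) * (t * (h' * g * h⁻¹)) := by simp only [cj]; group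
          _ = cj h x * (t * (h' * g * h⁻¹)) := by
              rw [he, inv_of_mem hS (inv_mem hp), inv_inv]
      simpa using mul_mem (inv_mem hS.mem_t) h2
  have := mul_mem (mul_mem (inv_mem hh') hm) hh
  rwa [show h'⁻¹ * (h' * g * h⁻¹) * h = g by group] at this

end

/-- The normal two-subgroup of `SL(2,3)`. -/
theorem exists_quat_normal {L : Subgroup G}
    (e : Nonempty (L ≃* Matrix.SpecialLinearGroup (Fin 2) (ZMod 3))) :
    ∃ Q : Subgroup L, Q.Characteristic ∧ IsPGroup 2 Q ∧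
      ∀ x : L, orderOf x = 3 → ∀ u : L, ∃ q ∈ Q, ∃ i : ℕ, u = q * x ^ i := by
  obtain ⟨e⟩ := e
  have hpow : ∀ (x : L) (n : ℕ), orderOf x = n → x ^ n = 1 := fun x n h => h ▸ pow_orderOf_eq_one x
  let Q : Subgroup L := (PSpAmalgam.SL3.quat).comap e.toMonoidHom
  have hmem : ∀ u : L, u ∈ Q ↔ u ^ 4 = 1 := fun u => by
    show e u ^ 4 = 1 ↔ _
    rw [← map_pow, MulEquiv.map_eq_one_iff]
  refine ⟨Q, characteristic_iff_comap_eq.2 fun φ => ?_, fun q => ⟨2, ?_⟩, fun x hx u => ?_⟩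
  · ext u
    rw [mem_comap, hmem, hmem]
    show φ u ^ 4 = 1 ↔ _
    rw [← map_pow, MulEquiv.map_eq_one_iff]
  · exact Subtype.ext ((hmem q).1 q.2)
  · have hx3 : e x ^ 3 = 1 := (map_pow e x 3).symm.trans ((congrArg e (hpow x 3 hx)).trans (map_one e))
    have hx1 : e x ≠ 1 := by
      rw [Ne, MulEquiv.map_eq_one_iff]
      rintro rfl
      rw [orderOf_one] at hx
      norm_num at hx
    obtain ⟨q, i, hq, he⟩ := PSpAmalgam.SL3.decomp _ hx3 hx1 (e u)
    refine ⟨e.symm q, (hmem _).2 ?_, i, e.injective ?_⟩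
    · rw [← map_pow, hq, map_one]
    · rw [he, map_mul, map_pow, e.apply_symm_apply]

/-- Three-power quotient: the index two subgroup is a normal two-subgroup times `P₀`. -/
theorem exists_lam (hS : Setup H H₁ H₂ z t x₁ x₂) :
    ∃ f : KK H₁ H₂ →* ℂˣ, f ⟨x₁, P₀_le hS (x₁_mem hS)⟩ ^ 2 ≠ 1 ∧
      (∀ k : KK H₁ H₂, ¬ 3 ∣ orderOf k → f k = 1) ∧
      ∀ k k' : KK H₁ H₂, cj t (k : G) = k' → f k' = (f k)⁻¹ := by
  classical
  haveI : Fact (Nat.Prime 2) := ⟨Nat.prime_two⟩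
  haveI : Fact (Nat.Prime 3) := ⟨Nat.prime_three⟩
  set K := KK H₁ H₂ with hK
  obtain ⟨Q₁, hQ₁c, hQ₁p, hd₁⟩ := exists_quat_normal hS.iso₁
  obtain ⟨Q₂, hQ₂c, hQ₂p, hd₂⟩ := exists_quat_normal hS.iso₂
  set A := Q₁.map H₁.subtype with hA
  set B := Q₂.map H₂.subtype with hB
  have hnA : H ≤ normalizer (A : Set G) :=
    fun h hh => Base.normalizer_le_normalizer_map_subtype H₁ Q₁ (hS.norm₁ hh)
  have hnB : H ≤ normalizer (B : Set G) :=
    fun h hh => Base.normalizer_le_normalizer_map_subtype H₂ Q₂ (hS.norm₂ hh)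
  set Q : Subgroup G := A ⊔ B with hQdef
  have hAK : A ≤ K := (map_subtype_le Q₁).trans le_sup_left
  have hBK : B ≤ K := (map_subtype_le Q₂).trans le_sup_right
  have hQK : Q ≤ K := sup_le hAK hBK
  have hQp : IsPGroup 2 Q := IsPGroup.to_sup_of_normal_right' (hQ₁p.map _) (hQ₂p.map _)
    ((hAK.trans (KK_le hS)).trans hnB)
  have hQn : H ≤ normalizer (Q : Set G) :=
    (le_inf hnA hnB).trans (normalizer_inf_normalizer_le_normalizer_sup A B)
  haveI hQKn : (Q.subgroupOf K).Normal :=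
    (normal_subgroupOf_iff_le_normalizer hQK).2 ((KK_le hS).trans hQn)
  have hsup : K ≤ Q ⊔ P₀ x₁ x₂ := by
    refine sup_le (fun u hu => ?_) (fun u hu => ?_)
    · obtain ⟨q, hq, i, he⟩ := hd₁ ⟨x₁, hS.mem₁⟩ (by rw [← Subgroup.orderOf_coe]; exact hS.order₁) ⟨u, hu⟩
      have he' : u = (q : G) * x₁ ^ i := by simpa using congrArg Subtype.val he
      rw [he']
      exact mul_mem_sup (mem_sup_left ⟨q, hq, rfl⟩) (pow_mem (x₁_mem hS) i)
    · obtain ⟨q, hq, i, he⟩ := hd₂ ⟨x₂, hS.mem₂⟩ (by rw [← Subgroup.orderOf_coe]; exact hS.order₂) ⟨u, hu⟩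
      have he' : u = (q : G) * x₂ ^ i := by simpa using congrArg Subtype.val he
      rw [he']
      exact mul_mem_sup (mem_sup_right ⟨q, hq, rfl⟩) (pow_mem (x₂_mem hS) i)
  -- the quotient is commutative
  set N := Q.subgroupOf K with hN
  have hgen : ∀ k : K, ∃ p : K, (p : G) ∈ P₀ x₁ x₂ ∧ p⁻¹ * k ∈ N := by
    intro k
    have hle : P₀ x₁ x₂ ≤ normalizer (Q : Set G) := ((P₀_le hS).trans (KK_le hS)).trans hQn
    have hk : (k : G) ∈ P₀ x₁ x₂ ⊔ Q := sup_comm Q (P₀ x₁ x₂) ▸ hsup k.2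
    rw [← SetLike.mem_coe, coe_mul_of_left_le_normalizer_right _ _ hle] at hk
    obtain ⟨p, hp, q, hq, he⟩ := hk
    refine ⟨⟨p, P₀_le hS hp⟩, hp, ?_⟩
    rw [hN, mem_subgroupOf, Subgroup.coe_mul, Subgroup.coe_inv, ← he]
    simpa using hq
  have hcomm : ∀ a b : K ⧸ N, a * b = b * a := by
    intro a b
    induction a using QuotientGroup.induction_on with | H a => ?_
    induction b using QuotientGroup.induction_on with | H b => ?_
    obtain ⟨p, hp, hpa⟩ := hgen a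
    obtain ⟨r, hr, hrb⟩ := hgen b
    rw [← (QuotientGroup.eq.2 hpa : (p : K ⧸ N) = a), ← (QuotientGroup.eq.2 hrb : (r : K ⧸ N) = b),
      ← QuotientGroup.mk_mul, ← QuotientGroup.mk_mul]
    exact congrArg _ (Subtype.ext (comm_P₀ hS hp hr))
  set a₁ : K := ⟨x₁, P₀_le hS (x₁_mem hS)⟩ with ha₁
  have hne : (QuotientGroup.mk a₁ : K ⧸ N) ≠ 1 := by
    rw [Ne, QuotientGroup.eq_one_iff, hN, mem_subgroupOf]
    intro h
    obtain ⟨k, hk⟩ := IsPGroup.iff_orderOf.1 hQp ⟨x₁, h⟩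
    rw [← Subgroup.orderOf_coe] at hk
    simp only [hS.order₁] at hk
    rcases k with _ | k
    · norm_num at hk
    · have : 2 ∣ 3 := hk ▸ dvd_pow_self 2 (Nat.succ_ne_zero k)
      norm_num at this
  haveI : NeZero (Monoid.exponent (K ⧸ N) : ℂ) :=
    ⟨Nat.cast_ne_zero.mpr Monoid.exponent_ne_zero_of_finite⟩
  let _ : CommGroup (K ⧸ N) := { (inferInstance : Group (K ⧸ N)) with mul_comm := hcomm }
  obtain ⟨μ, hμ⟩ := CommGroup.exists_apply_ne_one_of_hasEnoughRootsOfUnity _ ℂ hne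
  let f : K →* ℂˣ := μ.comp (QuotientGroup.mk' N)
  have hfN : ∀ k : K, k ∈ N → f k = 1 := fun k hk => by
    show μ (QuotientGroup.mk k) = 1
    rw [(QuotientGroup.eq_one_iff k).2 hk, map_one]
  have hcube : ∀ k : K, f k ^ 3 = 1 := by
    intro k
    obtain ⟨p, hp, hpk⟩ := hgen k
    have h1 : f (p⁻¹ * k) = 1 := hfN _ hpk
    rw [map_mul, map_inv, inv_mul_eq_one] at h1
    rw [← h1, ← map_pow, show p ^ 3 = 1 from Subtype.ext ?_, map_one]
    exact pow_three_P₀ hS hp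
  refine ⟨f, fun h => hμ ?_, fun k hk => ?_, fun k k' hkk => ?_⟩
  · have h3 := hcube a₁
    rw [pow_succ, h, one_mul] at h3
    exact h3
  · have h1 : orderOf (f k) ∣ 3 := orderOf_dvd_of_pow_eq_one (hcube k)
    have h2 : orderOf (f k) ∣ orderOf k := orderOf_map_dvd f k
    rcases (Nat.dvd_prime Nat.prime_three).1 h1 with h | h
    · exact orderOf_eq_one_iff.1 h
    · exact absurd (h ▸ h2) hk
  · obtain ⟨p, hp, hpk⟩ := hgen k
    have htp : cj t (p : G) = ((p⁻¹ : K) : G) := inv_of_mem hS hp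
    have hk' : p * k' ∈ N := by
      rw [hN, mem_subgroupOf, Subgroup.coe_mul, ← hkk]
      have hq : ((p : G)⁻¹ * k) ∈ Q := by simpa [hN, mem_subgroupOf] using hpk
      have := ((mem_normalizer_iff.1 (hQn hS.mem_t)) _).1 hq
      rwa [show (p : G) * cj t (k : G) = t * ((p : G)⁻¹ * k) * t⁻¹ by
        rw [show t * ((p : G)⁻¹ * k) * t⁻¹ = (cj t (p : G))⁻¹ * cj t k by simp only [cj]; group, htp]
        simp]
    have e1 := hfN _ hpk
    have e2 := hfN _ hk'
    rw [map_mul, map_inv, inv_mul_eq_one] at e1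
    rw [map_mul, e1] at e2
    exact eq_inv_of_mul_eq_one_right e2

end CfsgLib.G2TwoLocal.NotZero
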