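import Cfsg.Agent.Lib.G2TwoLocal.NotZeroBase
import Cfsg.Agent.Lib.CharApps.ClassCount
import Cfsg.Agent.Lib.CharApps.InertialThreeInvolution
import Cfsg.Agent.Lib.CharsMore.BrauerSuzukiQuaternion
import Cfsg.Agent.Lib.Subdeg3.ArithPhi
import Cfsg.Agent.Lib.CharApps.PrincipalColumns

/-!
# Elements of order three local to the centraliser of an involution: the exceptional character
-/

set_option autoImplicit false
set_option linter.style.haveILetI false
set_option linter.unusedSectionVars false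

open Cfsg CfsgLib.Chars CfsgLib.CharApps CfsgLib.Blocks Subgroup
open CfsgLib.G2Three (cj)
open scoped ComplexConjugate

namespace CfsgLib.G2TwoLocal.NotZero

universe u

variable {G : Type u} [Group G] [Fintype G] {H H₁ H₂ : Subgroup G} {z t x₁ x₂ : G}

/-- The outer involutions of `H`. -/
noncomputable def outer (H H₁ H₂ : Subgroup G) : Finset G :=
  (Set.toFinite {u | u ∈ H ∧ u ∉ KK H₁ H₂ ∧ orderOf u = 2}).toFinset

theorem mem_outer {u : G} : u ∈ outer H H₁ H₂ ↔ u ∈ H ∧ u ∉ KK H₁ H₂ ∧ orderOf u = 2 := by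
  simp [outer]

section
variable (hS : Setup H H₁ H₂ z t x₁ x₂)
include hS

theorem conj_KK {h k : G} (hh : h ∈ H) (hk : k ∈ KK H₁ H₂) : cj h k ∈ KK H₁ H₂ := by
  have hn : ((KK H₁ H₂).subgroupOf H).Normal := normal_of_index_eq_two hS.index
  exact ((normal_subgroupOf_iff_le_normalizer (KK_le hS)).1 hn hh k).1 hk

theorem cj_outer {h u : G} (hh : h ∈ H) (hu : u ∈ outer H H₁ H₂) : cj h u ∈ outer H H₁ H₂ := by
  obtain ⟨h₁, h₂, h₃⟩ := mem_outer.1 hu
  refine mem_outer.2 ⟨mul_mem (mul_mem hh h₁) (inv_mem hh), fun hc => h₂ ?_, ?_⟩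
  · have := conj_KK hS (inv_mem hh) hc
    rwa [show cj h⁻¹ (cj h u) = u by simp only [cj]; group] at this
  · rw [cj, show h * u * h⁻¹ = MulAut.conj h u from rfl, MulEquiv.orderOf_eq, h₃]

theorem card_outer : (outer H H₁ H₂).card = 72 := by
  classical
  set C := (centralizer ({z, t} : Set G)).subgroupOf H with hCdef
  have hmem : ∀ a : H, a ∈ C ↔ (a : G) * t = t * a := by
    intro a
    rw [hCdef, mem_subgroupOf, mem_centralizer_iff]
    constructor
    · intro h
      exact (h t (Set.mem_insert_of_mem _ rfl)).symm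
    · rintro h y (rfl | rfl)
      · exact (mem_centralizer_singleton_iff.1 (hS.cent_z.ge a.2)).symm
      · exact h.symm
  have hle : centralizer ({z, t} : Set G) ≤ H := fun a ha => by
    rw [← hS.cent_z, mem_centralizer_singleton_iff]
    exact (mem_centralizer_iff.1 ha z (Set.mem_insert _ _)).symm
  have hi : C.index = 72 := by
    have h := C.card_mul_index
    have h8 : Nat.card C = 8 := by
      rw [← hS.small]
      exact Nat.card_congr (subgroupOfEquivOfLe hle).toEquiv
    rw [h8, hS.card_H] at h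
    omega
  have ht : t ∈ outer H H₁ H₂ := mem_outer.2 ⟨hS.mem_t, hS.outer_t, hS.order_t⟩
  have hwd : ∀ a b : H, (QuotientGroup.leftRel C) a b → cj (a : G) t = cj (b : G) t := by
    intro a b hab
    rw [QuotientGroup.leftRel_apply, hmem, Subgroup.coe_mul, Subgroup.coe_inv] at hab
    calc cj (a : G) t = (a : G) * (t * ((a : G)⁻¹ * b)) * (b : G)⁻¹ := by simp only [cj]; group
      _ = (a : G) * ((a : G)⁻¹ * b * t) * (b : G)⁻¹ := by rw [hab]
      _ = cj (b : G) t := by simp only [cj]; group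
  rw [← hi, Subgroup.index, ← Nat.card_eq_finsetCard]
  refine (Nat.card_eq_of_bijective (fun q : H ⧸ C => Quotient.liftOn' q
    (fun a => (⟨cj (a : G) t, cj_outer hS a.2 ht⟩ : {u // u ∈ outer H H₁ H₂}))
    (fun a b hab => Subtype.ext (hwd a b hab))) ⟨?_, ?_⟩).symm
  · rintro ⟨a⟩ ⟨b⟩ h
    have h' : cj (a : G) t = cj (b : G) t := congrArg Subtype.val h
    refine QuotientGroup.eq.2 ((hmem _).2 ?_)
    rw [Subgroup.coe_mul, Subgroup.coe_inv]
    calc (a : G)⁻¹ * b * t = (a : G)⁻¹ * cj (b : G) t * b := by simp only [cj]; group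
      _ = (a : G)⁻¹ * cj (a : G) t * b := by rw [h']
      _ = t * ((a : G)⁻¹ * b) := by simp only [cj]; group
  · rintro ⟨u, hu⟩
    obtain ⟨h₁, h₂, h₃⟩ := mem_outer.1 hu
    obtain ⟨h, hh, rfl⟩ := hS.outer_conj u h₁ h₃ h₂
    exact ⟨QuotientGroup.mk ⟨h, hh⟩, rfl⟩

end

/-- Products of two conjugates of `z`. -/
noncomputable def ways (z n : G) : ℕ :=
  Nat.card {ab : G × G // (ab.1 * z * ab.1⁻¹) * (ab.2 * z * ab.2⁻¹) = n}

theorem ways_eq (hz : orderOf z = 2) (hinv : ∀ w : G, orderOf w = 2 → IsConj z w) (n : G) :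
    ways z n = Nat.card (centralizer ({z} : Set G)) * Nat.card (centralizer ({z} : Set G)) *
      Nat.card {u : G // orderOf u = 2 ∧ orderOf (u * n) = 2} := by
  classical
  set c := Nat.card (centralizer ({z} : Set G)) with hc
  have hordc : ∀ a : G, orderOf (a * z * a⁻¹) = 2 := fun a => by
    rw [show a * z * a⁻¹ = MulAut.conj a z from rfl, MulEquiv.orderOf_eq, hz]
  have hfib : ∀ w : G, Nat.card {a : G // a * z * a⁻¹ = w} = if orderOf w = 2 then c else 0 := by
    intro w
    split_ifs with hw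
    · exact card_conj_fiber z (hinv w hw)
    · haveI : IsEmpty {a : G // a * z * a⁻¹ = w} := ⟨fun ⟨a, ha⟩ => hw (by rw [← ha, hordc])⟩
      exact Nat.card_of_isEmpty
  have hinv' : ∀ a : G, (a * z * a⁻¹)⁻¹ = a * z * a⁻¹ := fun a =>
    inv_eq_of_mul_eq_one_right (by rw [← sq, ← hordc a, pow_orderOf_eq_one])
  calc ways z n
      = Nat.card (Σ a : G, {b : G // b * z * b⁻¹ = a * z * a⁻¹ * n}) := by
        refine Nat.card_congr ((Equiv.subtypeEquivRight fun ab => ?_).trans
          (Equiv.subtypeProdEquivSigmaSubtype fun a b => b * z * b⁻¹ = a * z * a⁻¹ * n))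
        rw [← eq_inv_mul_iff_mul_eq, hinv']
    _ = ∑ a : G, if orderOf (a * z * a⁻¹ * n) = 2 then c else 0 := by
        rw [Nat.card_sigma]
        exact Finset.sum_congr rfl fun a _ => hfib _
    _ = c * Nat.card {a : G // orderOf (a * z * a⁻¹ * n) = 2} := by
        rw [Finset.sum_ite, Finset.sum_const, Finset.sum_const_zero, add_zero, smul_eq_mul,
          mul_comm, Nat.card_eq_fintype_card, Fintype.card_subtype]
    _ = c * Nat.card (Σ u : {u : G // orderOf u = 2 ∧ orderOf (u * n) = 2},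
          {a : G // a * z * a⁻¹ = u.1}) := by
        congr 1
        refine Nat.card_congr
          { toFun := fun a => ⟨⟨a.1 * z * a.1⁻¹, hordc a.1, a.2⟩, ⟨a.1, rfl⟩⟩
            invFun := fun p => ⟨p.2.1, by rw [p.2.2]; exact p.1.2.2⟩
            left_inv := fun a => rfl
            right_inv := fun p => Sigma.subtype_ext (Subtype.ext p.2.2) rfl }
    _ = c * c * Nat.card {u : G // orderOf u = 2 ∧ orderOf (u * n) = 2} := by
        rw [Nat.card_sigma, Finset.sum_congr rfl (g := fun _ => c)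
          (fun u _ => by rw [hfib, if_pos u.2.1]), Finset.sum_const, smul_eq_mul, Finset.card_univ,
          ← Nat.card_eq_fintype_card]
        ring

/-- What a linear character of the subgroup of index two gives. -/
theorem char_facts (hS : Setup H H₁ H₂ z t x₁ x₂)
    (hC : ∀ x ∈ P₀ x₁ x₂, x ≠ 1 → centralizer ({x} : Set G) ≤ H)
    (hF : ∀ x ∈ P₀ x₁ x₂, ∀ y ∈ P₀ x₁ x₂, IsConj x y → y = x ∨ y = x⁻¹) :
    ∃ (N X : ℕ) (b : ℤ), Nat.card G = 576 * N ∧ 0 < X ∧
      (N : ℤ) * ((X : ℤ) - b) ^ 2 = 10368 * ((X : ℤ) * (X + 1)) ∧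
      1 + b ^ 2 + (b + 1) ^ 2 ≤ 576 := by
  classical
  haveI := irrFintype G
  set K := KK H₁ H₂ with hK
  haveI : Fintype K := Fintype.ofFinite _
  obtain ⟨f, hfa2, hf3, hft⟩ := exists_lam hS
  set a₁ : K := ⟨x₁, P₀_le hS (x₁_mem hS)⟩ with ha₁
  have hfa : f a₁ ≠ 1 := fun h => hfa2 (by rw [h, one_pow])
  have hKH : K ≤ H := KK_le hS
  have hcardK : (Nat.card K : ℂ) = 288 := by exact_mod_cast card_KK hS
  have hidx : (K.subgroupOf H).index = 2 := hS.index
  have hswap : ∀ u ∈ H, ∀ v ∈ H, (u * v ∈ K ↔ (u ∈ K ↔ v ∈ K)) := by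
    intro u hu v hv
    have h := Subgroup.mul_mem_iff_of_index_two hidx (a := (⟨u, hu⟩ : H)) (b := ⟨v, hv⟩)
    simpa only [mem_subgroupOf, Subgroup.coe_mul] using h
  have hdvd : ∀ k : K, f k ≠ 1 → 3 ∣ orderOf (k : G) := fun k hk => by
    by_contra h
    exact hk (hf3 k (by rwa [← Subgroup.orderOf_coe]))
  have htwo : ∀ k : K, orderOf (k : G) = 2 → f k = 1 := fun k hk => hf3 k (by
    rw [← Subgroup.orderOf_coe, hk]; norm_num)
  -- conjugation by elements of `H`
  have hfK : ∀ (k : K) (h : G), h ∈ K → ∀ k' : K, cj h (k : G) = k' → f k' = f k := by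
    intro k h hh k' he
    have e : k' = ⟨h, hh⟩ * k * ⟨h, hh⟩⁻¹ := Subtype.ext he.symm
    rw [e, map_mul, map_mul, map_inv, mul_comm (f ⟨h, hh⟩), mul_inv_cancel_right]
  have hfout : ∀ (k : K) (h : G), h ∈ H → h ∉ K → ∀ k' : K, cj h (k : G) = k' → f k' = (f k)⁻¹ := by
    intro k h hh hhK k' he
    have hth : t⁻¹ * h ∈ K := (hswap _ (inv_mem hS.mem_t) _ hh).2
      (iff_of_false (fun h' => hS.outer_t (inv_mem_iff.1 h')) hhK)
    have h1 : cj (t⁻¹ * h) (k : G) ∈ K := mul_mem (mul_mem hth k.2) (inv_mem hth)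
    have e1 := hfK k _ hth ⟨_, h1⟩ rfl
    have e2 := hft ⟨_, h1⟩ k' (by rw [← he]; simp only [cj]; group)
    rw [e2, e1]
  set ψ : K → ℂ := fun k => 1 - (f k : ℂ) with hψ
  set Φ := indFun K ψ with hΦ
  have hgen : IsGeneralizedCharacter G Φ := isGeneralized_indFun K
    ⟨_, _, isCharacter_one, isCharacter_of_irr (isIrrCharacter_linear f), rfl⟩
  -- the value at an element with non-trivial three-part
  have hval : ∀ y : K, f y ≠ 1 → Φ (y : G) = 2 - (f y : ℂ) - ((f y)⁻¹ : ℂˣ).val := by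
    intro y hy
    have key : ∀ x : G, extendByZero K ψ (x⁻¹ * (y : G) * x) =
        (if x ∈ K then ψ y else 0) + (if x ∈ H ∧ x ∉ K then 1 - ((f y)⁻¹ : ℂˣ).val else 0) := by
      intro x
      by_cases hx : x ∈ K
      · rw [if_pos hx, if_neg (fun h => h.2 hx), add_zero]
        have hm : x⁻¹ * (y : G) * x ∈ K := mul_mem (mul_mem (inv_mem hx) y.2) hx
        rw [extendByZero_of_mem _ _ hm]
        show 1 - ((f _ : ℂˣ) : ℂ) = _
        rw [hfK y x⁻¹ (inv_mem hx) ⟨_, hm⟩ (by simp only [cj, inv_inv])]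
      · rw [if_neg hx, zero_add]
        by_cases hxH : x ∈ H
        · rw [if_pos ⟨hxH, hx⟩]
          have hm : x⁻¹ * (y : G) * x ∈ K := by
            have := conj_KK hS (inv_mem hxH) y.2
            simpa only [cj, inv_inv] using this
          rw [extendByZero_of_mem _ _ hm]
          show 1 - ((f _ : ℂˣ) : ℂ) = _
          rw [hfout y x⁻¹ (inv_mem hxH) (fun h => hx (inv_mem_iff.1 h)) ⟨_, hm⟩
            (by simp only [cj, inv_inv])]
        · rw [if_neg (fun h => hxH h.1), extendByZero_of_not_mem]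
          intro hm
          refine hxH (inv_mem_iff.1 (mem_of_cj_mem hS hC hF (hKH y.2) (hdvd y hy) (g := x⁻¹) ?_))
          rw [cj, inv_inv]
          exact hKH hm
    have hc1 : (Finset.univ.filter (fun x : G => x ∈ K)).card = 288 := by
      rw [← Fintype.card_subtype, ← Nat.card_eq_fintype_card]
      exact card_KK hS
    have hc2 : (Finset.univ.filter (fun x : G => x ∈ H ∧ x ∉ K)).card = 288 := by
      have he : Finset.univ.filter (fun x : G => x ∈ H ∧ x ∉ K) =
          Finset.univ.filter (fun x : G => x ∈ H) \ Finset.univ.filter (fun x : G => x ∈ K) := by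
        ext x
        simp
      have hH : (Finset.univ.filter (fun x : G => x ∈ H)).card = 576 := by
        rw [← Fintype.card_subtype, ← Nat.card_eq_fintype_card]
        exact hS.card_H
      rw [he, Finset.card_sdiff_of_subset (fun x hx => by
        simp only [Finset.mem_filter, Finset.mem_univ, true_and] at hx ⊢
        exact hKH hx), hc1, hH]
    rw [hΦ, indFun_apply, Finset.sum_congr rfl fun x _ => key x, Finset.sum_add_distrib,
      ← Finset.sum_filter, ← Finset.sum_filter, Finset.sum_const, Finset.sum_const, hc1, hc2,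
      hcardK, hψ]
    simp only [nsmul_eq_mul]
    push_cast
    ring
  have hzero : ∀ g : G, ¬ 3 ∣ orderOf g → Φ g = 0 := by
    intro g hg
    rw [hΦ, indFun_apply, Finset.sum_eq_zero, mul_zero]
    intro x _
    by_cases hm : x⁻¹ * g * x ∈ K
    · rw [extendByZero_of_mem _ _ hm]
      show 1 - ((f _ : ℂˣ) : ℂ) = 0
      rw [hf3 ⟨_, hm⟩ ?_, Units.val_one, sub_self]
      have ho : orderOf (x⁻¹ * g * x) = orderOf g := by
        rw [show x⁻¹ * g * x = MulAut.conj x⁻¹ g by rw [MulAut.conj_apply, inv_inv], MulEquiv.orderOf_eq]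
      rw [← Subgroup.orderOf_coe]
      show ¬ 3 ∣ orderOf (x⁻¹ * g * x)
      rwa [ho]
    · rw [extendByZero_of_not_mem _ _ hm]
  have hconj : ∀ y : K, conj (f y : ℂ) = ((f y)⁻¹ : ℂˣ).val := fun y => by
    rw [← map_inv]
    exact (char_inv (isCharacter_of_irr (isIrrCharacter_linear f)) y).symm
  have hs1 : ∑ y : K, (f y : ℂ) = 0 := Subdeg3.Arith.sum_hom_zero f hfa
  have hs1' : ∑ y : K, ((f y)⁻¹ : ℂˣ).val = 0 := Subdeg3.Arith.sum_hom_inv_zero f hfa
  have hs2 : ∑ y : K, (f y : ℂ) * (f y : ℂ) = 0 := by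
    have h := Subdeg3.Arith.sum_hom_zero (f * f) (a := a₁) (by rw [MonoidHom.mul_apply, ← sq]; exact hfa2)
    simpa using h
  have h1 : Φ 1 = 0 := by
    rw [hΦ, indFun_one_apply]
    simp [ψ]
  have h3 : classInner Φ Φ = 3 := by
    rw [hΦ, inner_indFun K ψ (isClassFunction_indFun K ψ), inner_def,
      Finset.sum_congr rfl (g := fun y : K =>
        3 - 3 * (f y : ℂ) - ((f y)⁻¹ : ℂˣ).val + (f y : ℂ) * (f y : ℂ)) (fun y _ => ?_)]
    · rw [Finset.sum_add_distrib, Finset.sum_sub_distrib, Finset.sum_sub_distrib, ← Finset.mul_sum,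
        hs1, hs1', hs2, Finset.sum_const, Finset.card_univ, nsmul_eq_mul,
        ← Nat.card_eq_fintype_card]
      rw [hcardK]
      norm_num
    · show ψ y * conj (indFun K ψ (y : G)) = _
      by_cases hy : f y = 1
      · simp only [ψ, hy, Units.val_one, inv_one, sub_self, zero_mul]
        norm_num
      · rw [← hΦ, hval y hy, map_sub, map_sub, Complex.conj_ofNat, hconj, ← hconj,
          Complex.conj_conj, hconj]
        have e : (f y : ℂ) * ((f y)⁻¹ : ℂˣ).val = 1 := Units.mul_inv _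
        simp only [ψ]
        linear_combination e
  have hone : classInner Φ (fun _ => (1 : ℂ)) = 1 := by
    rw [hΦ, inner_indFun K ψ (isClassFunction_of_isCharacter isCharacter_one), inner_def]
    simp only [map_one, mul_one, ψ]
    rw [Finset.sum_sub_distrib, hs1, Finset.sum_const, Finset.card_univ, nsmul_eq_mul,
      ← Nat.card_eq_fintype_card, hcardK]
    norm_num
  -- pairs of outer involutions
  have hJ : ∑ u ∈ outer H H₁ H₂, ∑ w ∈ outer H H₁ H₂, extendByZero K (fun c => (f c : ℂ)) (u * w) = 0 := by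
    set T := ∑ u ∈ outer H H₁ H₂, ∑ w ∈ outer H H₁ H₂, extendByZero K (fun c => (f c : ℂ)) (u * w)
      with hT
    have haH : x₁ ∈ H := hKH a₁.2
    have e : T = ((f a₁ : ℂ) * (f a₁ : ℂ)) * T := by
      conv_lhs => rw [hT]
      rw [← Finset.sum_bij' (s := outer H H₁ H₂) (fun u _ => cj x₁ u) (fun u _ => cj x₁⁻¹ u)
        (fun u hu => cj_outer hS haH hu) (fun u hu => cj_outer hS (inv_mem haH) hu)
        (fun u _ => by simp only [cj]; group) (fun u _ => by simp only [cj]; group)
        (fun _ _ => rfl), Finset.mul_sum]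
      refine Finset.sum_congr rfl fun u hu => ?_
      rw [Finset.mul_sum]
      refine Finset.sum_congr rfl fun w hw => ?_
      obtain ⟨huH, huK, huo⟩ := mem_outer.1 hu
      obtain ⟨hwH, hwK, -⟩ := mem_outer.1 hw
      have huw : u * w ∈ K := (hswap u huH w hwH).2 (iff_of_false huK hwK)
      have hm : cj u x₁⁻¹ ∈ K := conj_KK hS huH (inv_mem a₁.2)
      have e1 : cj x₁ u * w = ((a₁ * ⟨_, hm⟩ * ⟨_, huw⟩ : K) : G) := by
        rw [Subgroup.coe_mul, Subgroup.coe_mul]
        show _ = x₁ * cj u x₁⁻¹ * (u * w)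
        simp only [cj]
        group
      rw [e1, extendByZero_coe, extendByZero_of_mem _ _ huw]
      show ((f _ : ℂˣ) : ℂ) = _
      rw [map_mul, map_mul, hfout a₁⁻¹ u huH huK ⟨_, hm⟩ rfl, map_inv, inv_inv]
      push_cast
      ring
    have hne : ((f a₁ : ℂ) * (f a₁ : ℂ)) ≠ 1 := fun h => hfa2 (Units.ext (by rw [Units.val_pow_eq_pow_val, sq]; exact h))
    exact (mul_left_eq_self₀.mp e.symm).resolve_left hne
  have hsplit : ∀ u ∈ outer H H₁ H₂, ∀ w ∈ outer H H₁ H₂, extendByZero K ψ (u * w) =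
      1 - extendByZero K (fun c => (f c : ℂ)) (u * w) := by
    intro u hu w hw
    obtain ⟨huH, huK, -⟩ := mem_outer.1 hu
    obtain ⟨hwH, hwK, -⟩ := mem_outer.1 hw
    have huw : u * w ∈ K := (hswap u huH w hwH).2 (iff_of_false huK hwK)
    rw [extendByZero_of_mem _ _ huw, extendByZero_of_mem _ _ huw]
  have hpairs : ∀ n : K, f n ≠ 1 →
      Nat.card {u : G // orderOf u = 2 ∧ orderOf (u * n) = 2} =
        ((outer H H₁ H₂).filter fun u => u * (n : G) ∈ outer H H₁ H₂).card := by
    intro n hn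
    rw [← Nat.card_eq_finsetCard]
    refine Nat.card_congr (Equiv.subtypeEquivRight fun u => ?_)
    rw [Finset.mem_filter]
    constructor
    · rintro ⟨hu, hun⟩
      have hui : u⁻¹ = u := inv_eq_of_mul_eq_one_right (by rw [← sq, ← hu, pow_orderOf_eq_one])
      have h2 : (u * n) * (u * n) = 1 := by rw [← sq, ← hun, pow_orderOf_eq_one]
      have hzi : cj u (n : G) = (n : G)⁻¹ := by
        rw [cj, hui]
        exact eq_inv_of_mul_eq_one_left (by rw [← h2]; group)
      have huH : u ∈ H := mem_of_cj_mem hS hC hF (hKH n.2) (hdvd n hn)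
        (hzi ▸ inv_mem (hKH n.2))
      have huK : u ∉ K := fun huK => hn (by
        have e1 := htwo ⟨u, huK⟩ hu
        have e2 := htwo (⟨u, huK⟩ * n) (by rw [Subgroup.coe_mul]; exact hun)
        rwa [map_mul, e1, one_mul] at e2)
      refine ⟨mem_outer.2 ⟨huH, huK, hu⟩, mem_outer.2 ⟨mul_mem huH (hKH n.2), fun h => ?_, hun⟩⟩
      exact huK (((hswap u huH n (hKH n.2)).1 h).2 n.2)
    · rintro ⟨h, h'⟩
      exact ⟨(mem_outer.1 h).2.2, (mem_outer.1 h').2.2⟩
  let W : G → ℂ := fun n => (ways z n : ℂ)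
  have hWcl : IsClassFunction G W := by
    intro g x
    show (Nat.card _ : ℂ) = (Nat.card _ : ℂ)
    refine congrArg Nat.cast (Nat.card_congr (Equiv.subtypeEquiv
      ((Equiv.mulLeft x⁻¹).prodCongr (Equiv.mulLeft x⁻¹)) fun ab => ?_))
    simp only [Equiv.prodCongr_apply, Prod.map_fst, Prod.map_snd, Equiv.coe_mulLeft]
    rw [show x⁻¹ * ab.1 * z * (x⁻¹ * ab.1)⁻¹ * (x⁻¹ * ab.2 * z * (x⁻¹ * ab.2)⁻¹) =
      x⁻¹ * (ab.1 * z * ab.1⁻¹ * (ab.2 * z * ab.2⁻¹)) * x by group]
    constructor
    · intro h; rw [h]; group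
    · intro h; rw [← h]; group
  have hCz : Nat.card (centralizer ({z} : Set G)) = 576 := by rw [hS.cent_z]; exact hS.card_H
  have hL : classInner Φ W = 576 * 10368 := by
    rw [hΦ, inner_indFun K ψ hWcl, inner_def,
      Finset.sum_congr rfl (g := fun n : K => ((576 : ℂ) * 576) *
        ∑ u ∈ outer H H₁ H₂, if u * (n : G) ∈ outer H H₁ H₂ then extendByZero K ψ (n : G) else 0)
        (fun n _ => ?_), ← Finset.mul_sum, Finset.sum_comm]
    swap
    · show ψ n * conj (ways z (n : G) : ℂ) = _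
      rw [map_natCast, ways_eq hS.order_z hS.invol, hCz, Nat.cast_mul, Nat.cast_mul,
        ← Finset.sum_filter, Finset.sum_const, nsmul_eq_mul, extendByZero_coe]
      by_cases hn : f n = 1
      · simp [ψ, hn]
      · rw [hpairs n hn]
        push_cast
        ring
    rw [Finset.sum_congr rfl (g := fun u : G => ∑ w ∈ outer H H₁ H₂, extendByZero K ψ (u * w))
      (fun u hu => ?_)]
    · rw [Finset.sum_congr rfl fun u hu => Finset.sum_congr rfl fun w hw => hsplit u hu w hw]
      simp only [Finset.sum_sub_distrib, Finset.sum_const, nsmul_eq_mul, mul_one]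
      rw [hJ, card_outer hS, hcardK]
      norm_num
    · obtain ⟨huH, huK, huo⟩ := mem_outer.1 hu
      refine Finset.sum_bij_ne_zero (fun n _ _ => u * (n : G)) ?_ ?_ ?_ ?_
      · intro n _ hn
        by_contra h
        exact hn (if_neg h)
      · intro n₁ _ _ n₂ _ _ h
        exact Subtype.ext (mul_left_cancel h)
      · intro w hw _
        obtain ⟨hwH, hwK, -⟩ := mem_outer.1 hw
        have huw : u * w ∈ K := (hswap u huH w hwH).2 (iff_of_false huK hwK)
        have e : u * (u * w) = w := by rw [← mul_assoc, ← sq, ← huo, pow_orderOf_eq_one, one_mul]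
        exact ⟨⟨_, huw⟩, Finset.mem_univ _, by rw [if_pos (by rw [e]; exact hw)]; assumption, e⟩
      · intro n _ hn
        have h : u * (n : G) ∈ outer H H₁ H₂ := by
          by_contra h
          exact hn (if_neg h)
        rw [if_pos h]
        congr 1
        rw [← mul_assoc, ← sq, ← huo, pow_orderOf_eq_one, one_mul]
  -- the two constituents
  obtain ⟨χ₁, χ₂, hne₁, hne₂, hdeg, heq⟩ :=
    CfsgLib.CharsMore.exists_pair_of_norm_three hgen h3 h1 hone
  have hzz : z * z = 1 := by rw [← sq, ← hS.order_z, pow_orderOf_eq_one]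
  choose m hm using fun χ : IrrCharacter G => exists_int_apply_involution hzz χ
  set d := charDegree (χ₂ : G → ℂ) with hddef
  have hd₁ : charDegree (χ₁ : G → ℂ) = d + 1 := by
    rw [deg_eq, deg_eq, ← hddef] at hdeg
    exact_mod_cast hdeg
  have hd0 : 0 < d := CfsgLib.Blocks.charDegree_pos χ₂
  set e := principal G with he
  have hpe : ((e : IrrCharacter G) : G → ℂ) = fun _ => (1 : ℂ) :=
    funext fun g => principal_apply g
  have hme : m e = 1 := by
    have := hm e
    rw [show ((e : IrrCharacter G) : G → ℂ) z = ((1 : ℤ) : ℂ) by rw [hpe]; simp] at this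
    exact Int.cast_injective this
  have he₁ : e ≠ χ₁ := fun h => hne₁ (h ▸ hpe)
  have he₂ : e ≠ χ₂ := fun h => hne₂ (h ▸ hpe)
  have h12 : χ₁ ≠ χ₂ := fun h => by rw [h, ← hddef] at hd₁; omega
  have hm12 : m χ₁ = m χ₂ + 1 := by
    have hz3 : ¬ 3 ∣ orderOf z := by rw [hS.order_z]; norm_num
    have h := hzero z hz3
    rw [heq] at h
    simp only [Pi.add_apply, Pi.sub_apply, ← hm] at h
    have : ((1 - m χ₁ + m χ₂ : ℤ) : ℂ) = 0 := by push_cast; exact h
    have h' : (1 - m χ₁ + m χ₂ : ℤ) = 0 := by exact_mod_cast this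
    omega
  refine ⟨Nat.card G / 576, d, m χ₂, ?_, hd0, ?_, ?_⟩
  · exact (Nat.mul_div_cancel' (hCz ▸ card_subgroup_dvd_card _)).symm
  · let c : IrrCharacter G → ℂ := fun χ => (m χ : ℂ) ^ 2 / (charDegree (χ : G → ℂ) : ℂ)
    have hW : W = (Nat.card G : ℂ) • ∑ χ : IrrCharacter G, c χ • (χ : G → ℂ) := by
      funext n
      have h := congrArg conj (card_conj_mul_conj z z n)
      rw [map_natCast, map_mul, map_natCast, map_sum] at h
      show (Nat.card _ : ℂ) = _
      rw [h, Pi.smul_apply, smul_eq_mul, Finset.sum_apply]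
      congr 1
      refine Finset.sum_congr rfl fun χ _ => ?_
      rw [Pi.smul_apply, smul_eq_mul, irr_inv]
      simp only [← hm, map_div₀, map_mul, map_intCast, Complex.conj_conj, deg_eq, map_natCast, c]
      ring
    have hψ' : ∀ χ : IrrCharacter G,
        classInner (χ : G → ℂ) W = (Nat.card G : ℂ) * c χ := by
      intro χ
      rw [← inner_conj, hW, Chars.inner_smul_left, Chars.inner_sum_left,
        Finset.sum_eq_single χ (fun χ' _ hne => by rw [Chars.inner_smul_left, inner_irr_ne hne, mul_zero])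
          (fun h => absurd (Finset.mem_univ χ) h), Chars.inner_smul_left, inner_irr_self]
      simp [c]
    have hR := hL
    rw [heq, ← hpe, Chars.inner_add_left, Chars.inner_sub_left, hψ', hψ', hψ'] at hR
    simp only [c, hme, hd₁, ← hddef] at hR
    rw [show charDegree (e : G → ℂ) = 1 from (deg_eq_one_iff e).mp (by rw [hpe])] at hR
    have hd' : (d : ℂ) ≠ 0 := Nat.cast_ne_zero.2 (by omega)
    have hd1' : (d : ℂ) + 1 ≠ 0 := by exact_mod_cast Nat.succ_ne_zero d
    have hN : (Nat.card G : ℂ) = 576 * ((Nat.card G / 576 : ℕ) : ℂ) := by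
      have := (Nat.mul_div_cancel' (hCz ▸ card_subgroup_dvd_card (centralizer ({z} : Set G)) :
        576 ∣ Nat.card G)).symm
      exact_mod_cast this
    rw [hN, hm12] at hR
    generalize (Nat.card G / 576 : ℕ) = N at hR ⊢
    apply Int.cast_injective (α := ℂ)
    push_cast at hR ⊢
    field_simp at hR
    linear_combination hR
  · have hn := second_orthogonality z z
    rw [if_pos (IsConj.refl z), hCz] at hn
    simp only [← hm, map_intCast] at hn
    have hs : ∑ χ : IrrCharacter G, m χ * m χ = (576 : ℤ) := by exact_mod_cast hn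
    have hle := Finset.sum_le_sum_of_subset_of_nonneg (s := ({e, χ₁, χ₂} : Finset (IrrCharacter G)))
      (Finset.subset_univ _) (f := fun χ => m χ * m χ) (fun i _ _ => mul_self_nonneg _)
    rw [hs, Finset.sum_insert (by simp [he₁, he₂]), Finset.sum_pair h12, hme, hm12] at hle
    linarith

end CfsgLib.G2TwoLocal.NotZero
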