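import Cfsg.Agent.Lib.G2TwoLocal.SetupM

/-!
# Piece A: the setup
-/

set_option autoImplicit false
set_option maxRecDepth 100000
set_option linter.unusedSectionVars false

namespace CfsgLib.G2TwoLocal

open Cfsg Subgroup SetupModel
open CfsgLib.G2Three (cj)

universe u

variable {G : Type u} [Group G]

/-- the reflection as an automorphism -/
def sigHom : S2 →* S2 := MonoidHom.mk' sig sig_facts.1

theorem hom_ext_gen {X : Type*} [Group X] {f f' : S2 →* X} (hU : f sU = f' sU)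
    (hL : f sL = f' sL) : f = f' := by
  ext A
  obtain ⟨i, j, k, l, rfl⟩ := SetupModel.word A
  simp only [map_mul, map_pow, hU, hL]

theorem mem_cent_pair {a b g : G} :
    g ∈ centralizer ({a, b} : Set G) ↔ g * a = a * g ∧ g * b = b * g := by
  rw [mem_centralizer_iff]
  refine ⟨fun h => ⟨(h a (Or.inl rfl)).symm, (h b (Or.inr rfl)).symm⟩, ?_⟩
  rintro ⟨ha, hb⟩ x (rfl | rfl)
  exacts [ha.symm, hb.symm]

/-- An outer involution acts on each factor as the reflection, in suitable coordinates. -/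
theorem exists_twist {ψ : S2 →* G} (inj : Function.Injective ψ) {y : G} (hy : y * y = 1)
    (hn : ∀ C, ∃ D, ψ D = y * ψ C * y⁻¹) (hz : y * ψ sN * y⁻¹ = ψ sN) {A : S2} (hA3 : A ^ 3 = 1)
    (hA1 : A ≠ 1) (hA : ∀ D, ψ D = y * ψ A * y⁻¹ → (D * A) ^ 4 = 1) :
    ∃ h : S2, ∀ C, y * ψ (h * C * h⁻¹) * y⁻¹ = ψ (h * sig C * h⁻¹) := by
  choose φ hφ using hn
  have φmul : ∀ C D, φ (C * D) = φ C * φ D := fun C D => inj (by
    rw [map_mul, hφ, hφ, hφ, map_mul]; group)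
  set φh : S2 →* S2 := MonoidHom.mk' φ φmul with hφh
  have φinv : ∀ C, φ (φ C) = C := fun C => inj (by
    rw [hφ, hφ]
    calc y * (y * ψ C * y⁻¹) * y⁻¹ = (y * y) * ψ C * (y * y)⁻¹ := by group
      _ = ψ C := by rw [hy, one_mul, inv_one, mul_one])
  have φN : φ sN = sN := inj ((hφ sN).trans hz)
  obtain ⟨g, hdet, hU, hL⟩ := aut_cases (φ sU) (φ sL)
    (by rw [show φ sU ^ 3 = φh (sU ^ 3) from (map_pow φh sU 3).symm, three_gen.1, map_one])
    (by rw [show φ sL ^ 3 = φh (sL ^ 3) from (map_pow φh sL 3).symm, three_gen.2.1, map_one])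
    (by rw [← φmul, ← φmul, three_gen.2.2, φN])
  rcases hdet with hdet | hdet
  · exfalso
    obtain ⟨gS, rfl⟩ : ∃ gS : S2, (gS : M2) = g := ⟨⟨g, hdet⟩, rfl⟩
    have hconj : φh = (MulAut.conj gS).toMonoidHom := by
      refine hom_ext_gen ?_ ?_
      · show φ sU = gS * sU * gS⁻¹
        exact eq_mul_inv_of_mul_eq (Subtype.ext hU.symm)
      · show φ sL = gS * sL * gS⁻¹
        exact eq_mul_inv_of_mul_eq (Subtype.ext hL.symm)
    have h4 := hA (φ A) (hφ A)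
    rw [show φ A = φh A from rfl, hconj] at h4
    exact (no_invert gS A hA3 hA1).1 h4
  · have hsc : ∀ C : S2, g * (C : M2) = (φ C : M2) * g := by
      intro C
      obtain ⟨i, j, k, l, rfl⟩ := SetupModel.word C
      have h1 : SemiconjBy g (sU : M2) (φ sU : M2) := hU
      have h2 : SemiconjBy g (sL : M2) (φ sL : M2) := hL
      have h3 := (((h1.pow_right (i : ℕ)).mul_right (h2.pow_right (j : ℕ))).mul_right
        (h1.pow_right (k : ℕ))).mul_right (h2.pow_right (l : ℕ))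
      rw [show φ (sU ^ (i : ℕ) * sL ^ (j : ℕ) * sU ^ (k : ℕ) * sL ^ (l : ℕ)) =
        φ sU ^ (i : ℕ) * φ sL ^ (j : ℕ) * φ sU ^ (k : ℕ) * φ sL ^ (l : ℕ) from
        (by rw [φmul, φmul, φmul]; simp only [show ∀ C, φ C = φh C from fun _ => rfl, map_pow])]
      simp only [Matrix.SpecialLinearGroup.coe_mul, Matrix.SpecialLinearGroup.coe_pow]
      exact h3
    have hgg : ∀ C : S2, g * g * (C : M2) = (C : M2) * (g * g) := by
      intro C
      rw [mul_assoc, hsc, ← mul_assoc, hsc, φinv, mul_assoc]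
    obtain ⟨h, hh1, hh2⟩ := outer_conj g hdet (hgg sU) (hgg sL)
    have hu : IsUnit g := by
      rw [Matrix.isUnit_iff_isUnit_det, hdet]
      exact isUnit_iff_exists_inv.2 ⟨2, by decide +kernel⟩
    have key : φh.comp (MulAut.conj h).toMonoidHom = (MulAut.conj h).toMonoidHom.comp sigHom := by
      refine hom_ext_gen ?_ ?_
      · exact Subtype.ext (hu.mul_right_cancel ((hsc _).symm.trans hh1))
      · exact Subtype.ext (hu.mul_right_cancel ((hsc _).symm.trans hh2))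
    refine ⟨h, fun C => ?_⟩
    rw [← hφ]
    exact congrArg ψ (DFunLike.congr_fun key C)

/-- Normalised coordinates of `H`. -/
structure Nrm (H H₁ H₂ : Subgroup G) (z y : G) (ψ₁ ψ₂ : S2 →* G) : Prop where
  fac : Fac H H₁ H₂ z ψ₁ ψ₂
  mem : y ∈ H
  outer : y ∉ H₁ ⊔ H₂
  sq : y * y = 1
  act₁ : ∀ C, y * ψ₁ C * y⁻¹ = ψ₁ (sig C)
  act₂ : ∀ C, y * ψ₂ C * y⁻¹ = ψ₂ (sig C)

theorem range_comp_conj (ψ : S2 →* G) (h : S2) :
    (ψ.comp (MulAut.conj h).toMonoidHom).range = ψ.range := by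
  ext g
  constructor
  · rintro ⟨C, rfl⟩; exact ⟨_, rfl⟩
  · rintro ⟨C, rfl⟩
    obtain ⟨D, hD⟩ := (MulAut.conj h).surjective C
    exact ⟨D, congrArg ψ hD⟩

theorem Fac.twist {H H₁ H₂ : Subgroup G} {z : G} {ψ₁ ψ₂ : S2 →* G}
    (F : Fac H H₁ H₂ z ψ₁ ψ₂) (h h' : S2) :
    Fac H H₁ H₂ z (ψ₁.comp (MulAut.conj h).toMonoidHom)
      (ψ₂.comp (MulAut.conj h').toMonoidHom) where
  inj₁ := F.inj₁.comp (MulAut.conj h).injective
  inj₂ := F.inj₂.comp (MulAut.conj h').injective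
  range₁ := (range_comp_conj _ _).trans F.range₁
  range₂ := (range_comp_conj _ _).trans F.range₂
  z₁ := by
    show ψ₁ (h * sN * h⁻¹) = z
    rw [sN_central, ← F.z₁]; group
  z₂ := by
    show ψ₂ (h' * sN * h'⁻¹) = z
    rw [sN_central, ← F.z₂]; group
  inter := F.inter
  comm := fun _ _ => F.comm _ _
  le₁ := F.le₁
  le₂ := F.le₂
  norm₁ := F.norm₁
  norm₂ := F.norm₂
  index := F.index
  cent := F.cent

theorem exists_nrm [Finite G] {H H₁ H₂ M : Subgroup G} (h : Hyp H H₁ H₂ M) :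
    ∃ (z y : G) (ψ₁ ψ₂ : S2 →* G), Nrm H H₁ H₂ z y ψ₁ ψ₂ ∧
      (∃ i ∈ H₁ ⊔ H₂, i * i = 1 ∧ i ≠ 1 ∧ i ≠ z ∧ IsConj i y) ∧
      (∃ e ∈ H₁ ⊔ H₂, e * e = 1 ∧ e ≠ 1 ∧ e ≠ z ∧ IsConj z e) ∧ 7 ∣ Nat.card G := by
  obtain ⟨z, ψ₁, ψ₂, F⟩ := exists_fac h
  obtain ⟨y, A, B, hyH, hyo, hy2, hA3, hA1, hB3, hB1, hQ, hi, he, h7⟩ := exists_local h F
  have hyz : y * z * y⁻¹ = z := by rw [F.mem_H.1 hyH, mul_inv_cancel_right]
  have hn₁ : ∀ C, ∃ D, ψ₁ D = y * ψ₁ C * y⁻¹ := fun C => by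
    have hm := (mem_normalizer_iff.1 (F.norm₁ hyH) _).1 (F.range₁ ▸ ⟨C, rfl⟩ : ψ₁ C ∈ H₁)
    rwa [← F.range₁] at hm
  have hn₂ : ∀ C, ∃ D, ψ₂ D = y * ψ₂ C * y⁻¹ := fun C => by
    have hm := (mem_normalizer_iff.1 (F.norm₂ hyH) _).1 (F.range₂ ▸ ⟨C, rfl⟩ : ψ₂ C ∈ H₂)
    rwa [← F.range₂] at hm
  obtain ⟨D, hD⟩ := hn₁ A
  obtain ⟨E, hE⟩ := hn₂ B
  have hDE : (D * A) ^ 4 = 1 ∧ (E * B) ^ 4 = 1 := by
    refine F.mem_q4_of_pair (p := (D * A, E * B)) ?_
    rw [show ((D * A, E * B) : S2 × S2) = (D, E) * (A, B) from rfl, map_mul, F.pair_apply D E, hD, hE]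
    rw [F.pair_apply] at hQ ⊢
    convert hQ using 1
    group
  obtain ⟨k₁, hk₁⟩ := exists_twist F.inj₁ hy2 hn₁ (by rw [F.z₁, hyz]) hA3 hA1 fun D' hD' => by
    rw [F.inj₁ (hD'.trans hD.symm)]; exact hDE.1
  obtain ⟨k₂, hk₂⟩ := exists_twist F.inj₂ hy2 hn₂ (by rw [F.z₂, hyz]) hB3 hB1 fun D' hD' => by
    rw [F.inj₂ (hD'.trans hE.symm)]; exact hDE.2
  exact ⟨z, y, _, _, ⟨F.twist k₁ k₂, hyH, hyo, hy2, hk₁, hk₂⟩, hi, he, h7⟩

namespace Nrm

variable {H H₁ H₂ : Subgroup G} {z y : G} {ψ₁ ψ₂ : S2 →* G} (N : Nrm H H₁ H₂ z y ψ₁ ψ₂)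
include N

theorem pair_y (p : S2 × S2) : y * N.fac.pair p = N.fac.pair (sig p.1, sig p.2) * y := by
  obtain ⟨A, B⟩ := p
  rw [N.fac.pair_apply, N.fac.pair_apply, ← N.act₁, ← N.act₂]
  group

theorem y_ne : y ≠ 1 := fun h => N.outer (h ▸ one_mem _)

theorem inner_cases {i : G} (hi : i ∈ H₁ ⊔ H₂) (h2 : i * i = 1) (h1 : i ≠ 1) (hz : i ≠ z) :
    ∃ k ∈ H₁ ⊔ H₂, k * N.fac.pair (sJ, sJ) * k⁻¹ = i := by
  rw [← N.fac.pair_range] at hi
  obtain ⟨⟨A, B⟩, rfl⟩ := hi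
  rw [← map_mul, N.fac.pair_ker] at h2
  rcases h2 with h | h <;> simp only [Prod.mk_mul_mk, Prod.ext_iff, Prod.fst_one, Prod.snd_one] at h
  · exfalso
    rcases (four_facts A 1).2.2 h.1 with rfl | rfl <;>
      rcases (four_facts B 1).2.2 h.2 with rfl | rfl
    · exact h1 (map_one _)
    · exact hz (by rw [N.fac.pair_apply, map_one, one_mul, N.fac.z₂])
    · exact hz (by rw [N.fac.pair_apply, map_one, mul_one, N.fac.z₁])
    · exact h1 (N.fac.pair_ker.2 (Or.inr rfl))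
  · obtain ⟨a, rfl⟩ := four_cases A h.1
    obtain ⟨b, rfl⟩ := four_cases B h.2
    refine ⟨N.fac.pair (a, b), by rw [← N.fac.pair_range]; exact ⟨_, rfl⟩, ?_⟩
    rw [← map_inv, ← map_mul, ← map_mul]
    rfl

theorem outer_cases {i : G} (hi : i ∈ H) (ho : i ∉ H₁ ⊔ H₂) (h2 : i * i = 1) :
    ∃ k ∈ H₁ ⊔ H₂, k * y * k⁻¹ = i := by
  have hiy : i * y ∈ H₁ ⊔ H₂ := (N.fac.mul_mem_inner hi N.mem).2 (iff_of_false ho N.outer)
  rw [← N.fac.pair_range] at hiy
  obtain ⟨⟨A, B⟩, hAB⟩ := hiy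
  have hi' : i = N.fac.pair (A, B) * y := by rw [hAB, mul_assoc, N.sq, mul_one]
  have h : N.fac.pair (A * sig A, B * sig B) = 1 := by
    rw [show ((A * sig A, B * sig B) : S2 × S2) = (A, B) * (sig A, sig B) from rfl, map_mul]
    calc N.fac.pair (A, B) * N.fac.pair (sig A, sig B)
        = N.fac.pair (A, B) * (N.fac.pair (sig A, sig B) * y) * y⁻¹ := by group
      _ = N.fac.pair (A, B) * (y * N.fac.pair (A, B)) * y⁻¹ := by rw [N.pair_y (A, B)]
      _ = i * i := by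
        rw [hi', inv_eq_of_mul_eq_one_right N.sq]; group
      _ = 1 := h2
  obtain ⟨hA, hB⟩ : (A * sig A = 1 ∨ A * sig A = sN) ∧ (B * sig B = 1 ∨ B * sig B = sN) := by
    rcases N.fac.pair_ker.1 h with h' | h'
    exacts [⟨Or.inl (congrArg Prod.fst h'), Or.inl (congrArg Prod.snd h')⟩,
      ⟨Or.inr (congrArg Prod.fst h'), Or.inr (congrArg Prod.snd h')⟩]
  obtain ⟨a, rfl⟩ := (twisted_square A hA).2
  obtain ⟨b, rfl⟩ := (twisted_square B hB).2
  refine ⟨N.fac.pair (a, b), by rw [← N.fac.pair_range]; exact ⟨_, rfl⟩, ?_⟩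
  rw [hi', mul_assoc, ← map_inv, N.pair_y, ← mul_assoc, ← map_mul]
  rfl

theorem card_comap (P : S2 × S2 → Prop) [DecidablePred P] (C : Subgroup G) (hz : z ∈ C)
    (hP : ∀ p, N.fac.pair p ∈ C ↔ P p) :
    2 * Nat.card (C ⊓ (H₁ ⊔ H₂) : Subgroup G) = Fintype.card {p : S2 × S2 // P p} := by
  have hNN : ((sN, sN) : S2 × S2) ∈ C.comap N.fac.pair := by
    show N.fac.pair (sN, sN) ∈ C
    rw [N.fac.pair_ker.2 (Or.inr rfl)]
    exact one_mem C
  have h := N.fac.two_mul_card_map (C.comap N.fac.pair) hNN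
  rw [map_comap_eq, N.fac.pair_range, inf_comm] at h
  rw [h, ← Nat.card_eq_fintype_card]
  exact Nat.card_congr (Equiv.subtypeEquivRight hP)

theorem pair_comm_iff (p q : S2 × S2) :
    N.fac.pair p * N.fac.pair q = N.fac.pair q * N.fac.pair p ↔
      p * q = q * p ∨ p * q = (sN, sN) * (q * p) := by
  rw [← map_mul, ← map_mul, N.fac.pair_eq_iff]

theorem small : Nat.card (centralizer ({z, y} : Set G)) = 8 := by
  have hle : centralizer ({z, y} : Set G) ≤ H := fun g hg => N.fac.mem_H.2 (mem_cent_pair.1 hg).1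
  have h := N.card_comap fixT (centralizer ({z, y} : Set G))
    (mem_cent_pair.2 ⟨rfl, (N.fac.mem_H.1 N.mem).symm⟩) fun p => by
      rw [mem_cent_pair, and_iff_right (N.fac.mem_H.1 (N.fac.pair_mem_H p)), N.pair_y,
        mul_left_inj, N.fac.pair_eq_iff]
      obtain ⟨A, B⟩ := p
      simp only [fixT, Prod.mk_mul_mk, Prod.ext_iff]
      have flip : ∀ a b : S2, a = sN * b ↔ b = sN * a := by decide +kernel
      rw [eq_comm (a := A) (b := sig A), eq_comm (a := B) (b := sig B), flip A, flip B]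
  rw [fix_cards.1] at h
  rw [N.fac.card_two_cosets hle
    (mem_cent_pair.2 ⟨N.fac.mem_H.1 N.mem, rfl⟩) N.outer, h]

theorem card_inner_cent [Finite G] {k : G} (hk : k ∈ H) :
    16 ≤ Nat.card (centralizer ({z, k * N.fac.pair (sJ, sJ) * k⁻¹} : Set G)) := by
  set j := N.fac.pair (sJ, sJ) with hj
  have hjH : j ∈ H := N.fac.pair_mem_H _
  have h := N.card_comap fixJ (centralizer ({z, j} : Set G))
    (mem_cent_pair.2 ⟨rfl, (N.fac.mem_H.1 hjH).symm⟩) fun p => by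
      rw [mem_cent_pair, and_iff_right (N.fac.mem_H.1 (N.fac.pair_mem_H p)), hj, N.pair_comm_iff]
      obtain ⟨A, B⟩ := p
      simp only [fixJ, Prod.mk_mul_mk, Prod.ext_iff]
  rw [fix_cards.2.1] at h
  have h2 : Nat.card (centralizer ({z, j} : Set G)) ≤
      Nat.card (centralizer ({z, k * j * k⁻¹} : Set G)) := by
    refine Nat.card_le_card_of_injective (fun g => ⟨k * g.1 * k⁻¹, mem_cent_pair.2 ⟨?_, ?_⟩⟩)
      fun a b hab => Subtype.ext ((MulAut.conj k).injective (congrArg Subtype.val hab))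
    · exact N.fac.mem_H.1 (mul_mem (mul_mem hk (N.fac.mem_H.2 (mem_cent_pair.1 g.2).1)) (inv_mem hk))
    · rw [conj_mul, conj_mul, (mem_cent_pair.1 g.2).2]
  have h3 := card_le_of_le
    (inf_le_left : centralizer ({z, j} : Set G) ⊓ (H₁ ⊔ H₂) ≤ centralizer ({z, j} : Set G))
  omega

theorem outer_of_small [Finite G] {i : G} (hi : i ∈ H) (ho : orderOf i = 2)
    (h8 : Nat.card (centralizer ({z, i} : Set G)) = 8) : i ∉ H₁ ⊔ H₂ := by
  intro hin
  have h1 : i ≠ 1 := fun e => by rw [e, orderOf_one] at ho; omega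
  have h2 : i * i = 1 := by simpa [ho, pow_two] using pow_orderOf_eq_one i
  by_cases hz : i = z
  · rw [hz, Set.pair_eq_singleton, ← N.fac.cent, N.fac.card_H] at h8
    omega
  obtain ⟨k, hk, rfl⟩ := N.inner_cases hin h2 h1 hz
  have := N.card_inner_cent (k := k) ((sup_le N.fac.le₁ N.fac.le₂) hk)
  omega

theorem invol_H (he : ∃ e ∈ H₁ ⊔ H₂, e * e = 1 ∧ e ≠ 1 ∧ e ≠ z ∧ IsConj z e)
    (hy : ∃ i ∈ H₁ ⊔ H₂, i * i = 1 ∧ i ≠ 1 ∧ i ≠ z ∧ IsConj i y) {g : G} (hg : g ∈ H)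
    (h2 : g * g = 1) (h1 : g ≠ 1) : IsConj z g := by
  have hjj : ∀ {i : G}, i ∈ H₁ ⊔ H₂ → i * i = 1 → i ≠ 1 → i ≠ z →
      IsConj (N.fac.pair (sJ, sJ)) i := fun hi a b c => by
    obtain ⟨k, -, hk⟩ := N.inner_cases hi a b c
    exact isConj_iff.2 ⟨k, hk⟩
  obtain ⟨e, he, e2, e1, ez, hze⟩ := he
  obtain ⟨i, hi, i2, i1, iz, hiy⟩ := hy
  have hzj : IsConj z (N.fac.pair (sJ, sJ)) := hze.trans (hjj he e2 e1 ez).symm
  by_cases hgi : g ∈ H₁ ⊔ H₂
  · by_cases hgz : g = z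
    · rw [hgz]
    · exact hzj.trans (hjj hgi h2 h1 hgz)
  · obtain ⟨k, -, hk⟩ := N.outer_cases hg hgi h2
    exact (hzj.trans (hjj hi i2 i1 iz)).trans (hiy.trans (isConj_iff.2 ⟨k, hk⟩))

theorem central_two [Finite G] {w : G} (hw : w ∈ H) (h1 : w ≠ 1)
    (hc : ∀ q ∈ N.fac.qGrp, w * q = q * w) : w = z := by
  have hm : ∀ A B : S2, A ^ 4 = 1 → B ^ 4 = 1 → N.fac.pair (A, B) ∈ N.fac.qGrp :=
    fun A B => N.fac.mem_qGrp
  have hJ : sJ ^ 4 = 1 := by decide +kernel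
  have hK : sK ^ 4 = 1 := by decide +kernel
  by_cases hin : w ∈ H₁ ⊔ H₂
  · rw [← N.fac.pair_range] at hin
    obtain ⟨⟨A, B⟩, rfl⟩ := hin
    have key : ∀ a b : S2, a ^ 4 = 1 → b ^ 4 = 1 →
        (A * a = a * A ∧ B * b = b * B) ∨ (A * a = sN * (a * A) ∧ B * b = sN * (b * B)) :=
      fun a b ha hb => by
        have := (N.pair_comm_iff _ _).1 (hc _ (hm a b ha hb))
        simpa only [Prod.mk_mul_mk, Prod.ext_iff] using this
    have hA : A = 1 ∨ A = sN := by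
      refine (center_Q A).1 ?_ ?_
      · exact ((key sJ 1 hJ (one_pow _)).resolve_right fun h => by
          simpa [basic.2.2.1] using h.2).1
      · exact ((key sK 1 hK (one_pow _)).resolve_right fun h => by
          simpa [basic.2.2.1] using h.2).1
    have hB : B = 1 ∨ B = sN := by
      refine (center_Q B).1 ?_ ?_
      · exact ((key 1 sJ (one_pow _) hJ).resolve_right fun h => by
          simpa [basic.2.2.1] using h.1).2
      · exact ((key 1 sK (one_pow _) hK).resolve_right fun h => by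
          simpa [basic.2.2.1] using h.1).2
    rcases hA with rfl | rfl <;> rcases hB with rfl | rfl
    · exact absurd (map_one _) h1
    · rw [N.fac.pair_apply, map_one, one_mul, N.fac.z₂]
    · rw [N.fac.pair_apply, map_one, mul_one, N.fac.z₁]
    · exact absurd (N.fac.pair_ker.2 (Or.inr rfl)) h1
  · exfalso
    have hwy : w * y ∈ H₁ ⊔ H₂ := (N.fac.mul_mem_inner hw N.mem).2 (iff_of_false hin N.outer)
    rw [← N.fac.pair_range] at hwy
    obtain ⟨⟨A, B⟩, hAB⟩ := hwy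
    have hw' : w = N.fac.pair (A, B) * y := by rw [hAB, mul_assoc, N.sq, mul_one]
    have key : ∀ a : S2, a ^ 4 = 1 → A * sig a = a * A := fun a ha => by
      have := hc _ (hm a 1 ha (one_pow _))
      rw [hw', mul_assoc, N.pair_y, ← mul_assoc, ← mul_assoc, mul_left_inj, ← map_mul, ← map_mul,
        N.fac.pair_eq_iff] at this
      simp only [Prod.mk_mul_mk, Prod.ext_iff, show sig 1 = 1 from map_one sigHom, mul_one,
        one_mul, left_eq_mul, right_eq_mul, mul_eq_right, basic.2.2.1, and_false, or_false,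
        and_true] at this
      exact this
    exact (center_Q A).2 ⟨key sJ hJ, key sK hK⟩

theorem two_part [Finite G] : ¬ 2 ^ 7 ∣ Nat.card G := by
  intro hd
  obtain ⟨T', hT'⟩ := Sylow.exists_subgroup_card_pow_prime (G := ↥H) 2 (n := 6)
    (by rw [N.fac.card_H]; norm_num)
  set T := T'.map H.subtype with hT
  have hcardT : Nat.card T = 64 := by
    rw [hT, card_map_of_injective H.subtype_injective, hT']
    norm_num
  have hTH : T ≤ H := map_subtype_le _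
  obtain ⟨R, hR, hTR⟩ := Sylow.exists_subgroup_card_pow_succ (p := 2) (n := 6) hd
    (show Nat.card T = 2 ^ 6 by rw [hcardT]; norm_num)
  have hnot : ¬ R ≤ H := fun hle => by
    have := card_dvd_of_le hle
    rw [hR, N.fac.card_H] at this
    norm_num at this
  obtain ⟨n, hnR, hnH⟩ := SetLike.not_le_iff_exists.1 hnot
  have hnorm : (T.subgroupOf R).Normal := by
    refine normal_of_index_eq_two ?_
    have h := card_mul_index (T.subgroupOf R)
    rw [Nat.card_congr (subgroupOfEquivOfLe hTR).toEquiv, hcardT, hR] at h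
    omega
  have hconj : ∀ {a : G}, a ∈ R → ∀ t ∈ T, a * t * a⁻¹ ∈ T := fun {a} ha t ht =>
    hnorm.conj_mem ⟨t, hTR ht⟩ ht ⟨a, ha⟩
  have hQT : N.fac.qGrp ≤ T := N.fac.qGrp_le_sylow hTH hcardT
  have hz' : N.fac.pair (sN, 1) = z := by rw [N.fac.pair_apply, map_one, mul_one, N.fac.z₁]
  have hzQ : N.fac.pair (sN, 1) ∈ T :=
    hQT (N.fac.mem_qGrp (by decide +kernel) (one_pow _))
  have hzT : z ∈ T := Eq.subst (motive := fun w => w ∈ T) hz' hzQ
  have hzn := N.central_two (w := n * z * n⁻¹) (hTH (hconj hnR z hzT))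
    (fun e => N.fac.z_ne (conj_eq_one_iff.1 e)) fun q hq => by
      have hq' : n⁻¹ * q * n ∈ T := by simpa using hconj (inv_mem hnR) q (hQT hq)
      have := N.fac.mem_H.1 (hTH hq')
      calc n * z * n⁻¹ * q = n * (z * (n⁻¹ * q * n)) * n⁻¹ := by group
        _ = q * (n * z * n⁻¹) := by rw [← this]; group
  exact hnH (N.fac.mem_H.2 (mul_inv_eq_iff_eq_mul.1 hzn))

theorem invol [Finite G] (he : ∃ e ∈ H₁ ⊔ H₂, e * e = 1 ∧ e ≠ 1 ∧ e ≠ z ∧ IsConj z e)
    (hy : ∃ i ∈ H₁ ⊔ H₂, i * i = 1 ∧ i ≠ 1 ∧ i ≠ z ∧ IsConj i y) (g : G) (hg : orderOf g = 2) :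
    IsConj z g := by
  obtain ⟨T', hT'⟩ := Sylow.exists_subgroup_card_pow_prime (G := ↥H) 2 (n := 6)
    (by rw [N.fac.card_H]; norm_num)
  set T := T'.map H.subtype with hT
  have hcardT : Nat.card T = 2 ^ 6 := by
    rw [hT, card_map_of_injective H.subtype_injective, hT']
  obtain ⟨ST, hST⟩ := (IsPGroup.of_card (p := 2) (n := 6) hcardT).exists_le_sylow
  have heq : T = (ST : Subgroup G) := by
    refine eq_of_le_of_card_ge hST ?_
    obtain ⟨n, hn⟩ := IsPGroup.iff_card.1 ST.2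
    rw [hn, hcardT]
    refine Nat.pow_le_pow_right (by norm_num) ?_
    by_contra h7
    exact N.two_part ((pow_dvd_pow 2 (show 7 ≤ n by omega)).trans
      (hn ▸ card_subgroup_dvd_card (ST : Subgroup G)))
  obtain ⟨S, hS⟩ := (IsPGroup.of_card (p := 2) (n := 1)
    (show Nat.card (zpowers g) = 2 ^ 1 by rw [Nat.card_zpowers, hg, pow_one])).exists_le_sylow
  obtain ⟨c, hc⟩ := MulAction.exists_smul_eq G S ST
  have hmem : c * g * c⁻¹ ∈ H := by
    refine map_subtype_le T' (show c * g * c⁻¹ ∈ T from ?_)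
    rw [heq, ← hc]
    exact ⟨g, hS (mem_zpowers g), rfl⟩
  have h2 : g * g = 1 := by simpa [hg, pow_two] using pow_orderOf_eq_one g
  refine (N.invol_H he hy hmem (by rw [conj_mul, h2, mul_one, mul_inv_cancel]) fun e => ?_).trans
    (isConj_iff.2 ⟨c⁻¹, by group⟩)
  rw [conj_eq_one_iff.1 e, orderOf_one] at hg
  omega

theorem setup [Finite G] (he : ∃ e ∈ H₁ ⊔ H₂, e * e = 1 ∧ e ≠ 1 ∧ e ≠ z ∧ IsConj z e)
    (hy : ∃ i ∈ H₁ ⊔ H₂, i * i = 1 ∧ i ≠ 1 ∧ i ≠ z ∧ IsConj i y) (h7 : 7 ∣ Nat.card G) :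
    Setup H H₁ H₂ z y (ψ₁ sU) (ψ₂ sU) where
  cent_z := N.fac.cent.symm
  order_z := N.fac.order_z
  card_H := N.fac.card_H
  le₁ := N.fac.le₁
  le₂ := N.fac.le₂
  norm₁ := N.fac.norm₁
  norm₂ := N.fac.norm₂
  iso₁ := ⟨(MulEquiv.subgroupCongr N.fac.range₁.symm).trans (MonoidHom.ofInjective N.fac.inj₁).symm⟩
  iso₂ := ⟨(MulEquiv.subgroupCongr N.fac.range₂.symm).trans (MonoidHom.ofInjective N.fac.inj₂).symm⟩
  inter := N.fac.inter
  comm := by
    intro a ha b hb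
    rw [← N.fac.range₁] at ha
    rw [← N.fac.range₂] at hb
    obtain ⟨A, rfl⟩ := ha
    obtain ⟨B, rfl⟩ := hb
    exact N.fac.comm A B
  index := N.fac.index
  mem₁ := N.fac.range₁ ▸ ⟨sU, rfl⟩
  mem₂ := N.fac.range₂ ▸ ⟨sU, rfl⟩
  order₁ := (orderOf_injective ψ₁ N.fac.inj₁ sU).trans (orderOf_eq_prime three_gen.1 basic.2.1)
  order₂ := (orderOf_injective ψ₂ N.fac.inj₂ sU).trans (orderOf_eq_prime three_gen.1 basic.2.1)
  mem_t := N.mem
  order_t := orderOf_eq_prime (by rw [pow_two, N.sq]) N.y_ne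
  outer_t := N.outer
  inv₁ := by
    show y * ψ₁ sU * y⁻¹ = _
    rw [N.act₁, sig_facts.2.2.1, map_inv]
  inv₂ := by
    show y * ψ₂ sU * y⁻¹ = _
    rw [N.act₂, sig_facts.2.2.1, map_inv]
  small := N.small
  outer_of_small := fun _ hi ho h8 => N.outer_of_small hi ho h8
  outer_conj := fun i hi ho hout => by
    obtain ⟨k, hk, hki⟩ := N.outer_cases hi hout (by simpa [ho, pow_two] using pow_orderOf_eq_one i)
    exact ⟨k, sup_le N.fac.le₁ N.fac.le₂ hk, hki⟩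
  invol := N.invol he hy
  two_part := N.two_part
  seven := h7

end Nrm

/-- Piece A: the setup. -/
theorem setup : StmtSetup.{u} := by
  intro G _ _ H H₁ H₂ M h
  obtain ⟨z, y, ψ₁, ψ₂, N, hi, he, h7⟩ := exists_nrm h
  exact ⟨z, y, _, _, N.setup he hi h7⟩

end CfsgLib.G2TwoLocal
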