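import Mathlib

/-!
# Finite facts about `SL(2, 3)` and `SL(3, 2)` for the setup of `G₂(3)`
-/

set_option autoImplicit false
set_option maxRecDepth 100000
set_option synthInstance.maxSize 4000
set_option synthInstance.maxHeartbeats 400000

namespace CfsgLib.G2TwoLocal.SetupModel

/-- the group `SL(2, 3)` -/
abbrev S2 : Type := Matrix.SpecialLinearGroup (Fin 2) (ZMod 3)

/-- two by two matrices over three elements -/
abbrev M2 : Type := Matrix (Fin 2) (Fin 2) (ZMod 3)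

/-- the group `SL(3, 2)` -/
abbrev S3 : Type := Matrix.SpecialLinearGroup (Fin 3) (ZMod 2)

/-- the upper transvection -/
def sU : S2 := ⟨!![1, 1; 0, 1], by decide +kernel⟩

/-- the lower transvection -/
def sL : S2 := ⟨!![1, 0; 1, 1], by decide +kernel⟩

/-- an element of order four -/
def sJ : S2 := ⟨!![0, 1; 2, 0], by decide +kernel⟩

/-- a second element of order four -/
def sK : S2 := ⟨!![1, 1; 1, 2], by decide +kernel⟩

/-- the central involution -/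
def sN : S2 := ⟨!![2, 0; 0, 2], by decide +kernel⟩

/-- the reflection -/
def dM : M2 := !![1, 0; 0, 2]

/-- conjugation by the reflection -/
def sig (A : S2) : S2 :=
  ⟨dM * (A : M2) * dM, by
    rw [Matrix.det_mul, Matrix.det_mul, A.2, mul_one]
    decide +kernel⟩

theorem sig_facts : (∀ A B : S2, sig (A * B) = sig A * sig B) ∧
    (∀ A : S2, sig (sig A) = A) ∧ sig sU = sU⁻¹ ∧ sig sN = sN := by decide +kernel

theorem basic : sU ^ 3 = 1 ∧ sU ≠ 1 ∧ sN ≠ 1 ∧ sN * sN = 1 ∧ sJ * sJ = sN ∧ sK * sK = sN ∧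
    sJ * sK ≠ sK * sJ ∧ sN * (sK * sJ) = sJ * sK ∧ sU ^ 2 ≠ 1 ∧ Fintype.card S2 = 24 := by
  decide +kernel

theorem center_S2 : ∀ A : S2, A * sU = sU * A → A * sL = sL * A → A = 1 ∨ A = sN := by
  decide +kernel

theorem sN_central : ∀ A : S2, A * sN = sN * A := by decide +kernel

theorem center_Q : ∀ A : S2, (A * sJ = sJ * A → A * sK = sK * A → A = 1 ∨ A = sN) ∧
    ¬(A * sig sJ = sJ * A ∧ A * sig sK = sK * A) := by decide +kernel

theorem word : ∀ A : S2, ∃ i j k l : Fin 3,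
    A = sU ^ (i : ℕ) * sL ^ (j : ℕ) * sU ^ (k : ℕ) * sL ^ (l : ℕ) := by decide +kernel

theorem three_gen : sU ^ 3 = 1 ∧ sL ^ 3 = 1 ∧ (sU * sL) * (sU * sL) = sN := by decide +kernel

theorem aut_cases : ∀ a b : S2, a ^ 3 = 1 → b ^ 3 = 1 → (a * b) * (a * b) = sN →
    ∃ g : M2, (g.det = 1 ∨ g.det = 2) ∧ g * (sU : M2) = (a : M2) * g ∧
      g * (sL : M2) = (b : M2) * g := by decide +kernel

theorem outer_conj : ∀ g : M2, g.det = 2 → g * g * (sU : M2) = (sU : M2) * (g * g) →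
    g * g * (sL : M2) = (sL : M2) * (g * g) →
    ∃ h : S2, g * ((h * sU * h⁻¹ : S2) : M2) = ((h * sig sU * h⁻¹ : S2) : M2) * g ∧
      g * ((h * sL * h⁻¹ : S2) : M2) = ((h * sig sL * h⁻¹ : S2) : M2) * g := by decide +kernel

theorem no_invert : ∀ g A : S2, A ^ 3 = 1 → A ≠ 1 →
    (g * A * g⁻¹ * A) ^ 4 ≠ 1 ∧ g * A * g⁻¹ ≠ A⁻¹ := by decide +kernel

theorem cent_three : ∀ A X : S2, X ^ 3 = 1 → X ≠ 1 → A * X = X * A →
    ∃ i : Fin 3, A = X ^ (i : ℕ) ∨ A = sN * X ^ (i : ℕ) := by decide +kernel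

theorem four_facts : ∀ A B : S2, (A ^ 4 = 1 → B ^ 4 = 1 → (A * B) ^ 4 = 1) ∧
    (A ^ 4 = 1 → (B * A * B⁻¹) ^ 4 = 1) ∧ (A * A = 1 → A = 1 ∨ A = sN) := by decide +kernel

theorem powers : ∀ A : S2, A ^ 24 = 1 ∧ (A ^ 8 = 1 → A ^ 4 = 1) ∧
    (A ^ 3 = 1 ∨ A ^ 3 = sN → (A ^ 4) ^ 3 = 1) ∧ (A ^ 4 = 1 → A ^ 3 = 1 → A = 1) := by
  decide +kernel

theorem four_cases : ∀ A : S2, A * A = sN → ∃ h : S2, A = h * sJ * h⁻¹ := by decide +kernel

theorem twisted_square : ∀ A : S2, (A * sig A = 1 ∨ A * sig A = sN) →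
    A * sig A = 1 ∧ ∃ h : S2, A = h * sig h⁻¹ := by decide +kernel

/-- the pairs centralising the reflection up to a common sign -/
def fixT (p : S2 × S2) : Prop :=
  (sig p.1 = p.1 ∧ sig p.2 = p.2) ∨ (sig p.1 = sN * p.1 ∧ sig p.2 = sN * p.2)

/-- the pairs centralising a pair of elements of order four up to a common sign -/
def fixJ (p : S2 × S2) : Prop :=
  (p.1 * sJ = sJ * p.1 ∧ p.2 * sJ = sJ * p.2) ∨
    (p.1 * sJ = sN * (sJ * p.1) ∧ p.2 * sJ = sN * (sJ * p.2))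

instance (p : S2 × S2) : Decidable (fixT p) := inferInstanceAs (Decidable (_ ∨ _))
instance (p : S2 × S2) : Decidable (fixJ p) := inferInstanceAs (Decidable (_ ∨ _))

theorem fix_cards : Fintype.card {p : S2 × S2 // fixT p} = 8 ∧
    Fintype.card {p : S2 × S2 // fixJ p} = 32 ∧ fixT (sN, sN) ∧ fixJ (sN, sN) := by
  decide +kernel

theorem card_Q8 : Fintype.card {A : S2 // A ^ 4 = 1} = 8 := by decide +kernel

/-- membership in the unitriangular group -/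
def isU (a : S3) : Prop :=
  (a : Matrix (Fin 3) (Fin 3) (ZMod 2)) 1 0 = 0 ∧ (a : Matrix (Fin 3) (Fin 3) (ZMod 2)) 2 0 = 0 ∧
    (a : Matrix (Fin 3) (Fin 3) (ZMod 2)) 2 1 = 0

instance (a : S3) : Decidable (isU a) := inferInstanceAs (Decidable (_ ∧ _ ∧ _))

/-- a transvection -/
def a0 : S3 := ⟨!![1, 1, 0; 0, 1, 0; 0, 0, 1], by decide +kernel⟩

theorem S3_facts : Fintype.card S3 = 168 ∧ Fintype.card {a : S3 // isU a} = 8 ∧
    Fintype.card {a : S3 // a ^ 3 = 1 ∧ a ≠ 1} = 56 ∧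
    Fintype.card {a : S3 // isU a ∧ a ≠ 1 ∧ a * a = 1} = 5 := by decide +kernel

/-- an element of order three -/
def b0 : S3 := ⟨!![0, 0, 1; 1, 0, 0; 0, 1, 0], by decide +kernel⟩

theorem S3_orders : ∀ a : S3, a ^ 4 = 1 ∨ a ^ 3 = 1 ∨ a ^ 7 = 1 := by decide +kernel

theorem S3_three : ∀ a : S3, a ^ 3 = 1 → a ≠ 1 → ∃ g : S3, g * b0 * g⁻¹ = a := by decide +kernel

theorem U_mul : ∀ a b : S3, isU a → isU b → isU (a * b) := by decide +kernel

theorem U_inv : ∀ a : S3, isU a → isU a⁻¹ := by decide +kernel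

theorem S3_invol : ∀ a : S3, a * a = 1 → a ≠ 1 → ∃ g : S3, g * a0 * g⁻¹ = a := by decide +kernel

theorem U_self_norm : ∀ g : S3, (∀ a : S3, isU a → isU (g * a * g⁻¹)) → isU g := by
  decide +kernel

end CfsgLib.G2TwoLocal.SetupModel
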