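import Cfsg.Agent.Lib.G2TwoLocal.Defs
import Cfsg.Agent.Lib.G2TwoLocal.SetupModel

/-!
# The two factors of the centraliser
-/

set_option autoImplicit false
set_option maxRecDepth 100000
set_option linter.unusedSectionVars false

namespace CfsgLib.G2TwoLocal

open Subgroup SetupModel
open CfsgLib.G2Three (cj)

universe u

variable {G : Type u} [Group G]

/-- The two factors of `H`, in coordinates. -/
structure Fac (H H₁ H₂ : Subgroup G) (z : G) (ψ₁ ψ₂ : S2 →* G) : Prop where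
  inj₁ : Function.Injective ψ₁
  inj₂ : Function.Injective ψ₂
  range₁ : ψ₁.range = H₁
  range₂ : ψ₂.range = H₂
  z₁ : ψ₁ sN = z
  z₂ : ψ₂ sN = z
  inter : H₁ ⊓ H₂ = zpowers z
  comm : ∀ A B, Commute (ψ₁ A) (ψ₂ B)
  le₁ : H₁ ≤ H
  le₂ : H₂ ≤ H
  norm₁ : H ≤ normalizer (H₁ : Set G)
  norm₂ : H ≤ normalizer (H₂ : Set G)
  index : (H₁ ⊔ H₂).relIndex H = 2
  cent : H = centralizer ({z} : Set G)

theorem exists_fac {H H₁ H₂ M : Subgroup G} [Finite G] (h : Hyp H H₁ H₂ M) :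
    ∃ (z : G) (ψ₁ ψ₂ : S2 →* G), Fac H H₁ H₂ z ψ₁ ψ₂ := by
  obtain ⟨e₁⟩ := h.iso₁
  obtain ⟨e₂⟩ := h.iso₂
  set ψ₁ : S2 →* G := H₁.subtype.comp e₁.symm.toMonoidHom with hp1
  set ψ₂ : S2 →* G := H₂.subtype.comp e₂.symm.toMonoidHom with hp2
  have r1 : ψ₁.range = H₁ := by
    ext y
    exact ⟨fun ⟨x, hx⟩ => hx ▸ (e₁.symm x).2, fun hy => ⟨e₁ ⟨y, hy⟩, by simp [hp1]⟩⟩
  have r2 : ψ₂.range = H₂ := by
    ext y
    exact ⟨fun ⟨x, hx⟩ => hx ▸ (e₂.symm x).2, fun hy => ⟨e₂ ⟨y, hy⟩, by simp [hp2]⟩⟩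
  have i1 : Function.Injective ψ₁ := Subtype.val_injective.comp e₁.symm.injective
  have i2 : Function.Injective ψ₂ := Subtype.val_injective.comp e₂.symm.injective
  have hsN : ∀ (ψ : S2 →* G) (K : Subgroup G), ψ.range = K → ψ sN ∈ K ⊓ centralizer (K : Set G) := by
    intro ψ K hK
    refine ⟨hK ▸ ⟨sN, rfl⟩, mem_centralizer_iff.2 fun y hy => ?_⟩
    obtain ⟨A, rfl⟩ := hK.symm ▸ hy
    rw [← map_mul, ← map_mul, sN_central]
  have hz : ∀ y ∈ H₁ ⊓ H₂, y = 1 ∨ (y = ψ₁ sN ∧ y = ψ₂ sN) := by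
    intro y hy
    have hy1 : y ∈ H₁ ⊓ centralizer (H₁ : Set G) := h.inter₁ ▸ hy
    have hy2 : y ∈ H₂ ⊓ centralizer (H₂ : Set G) := h.inter₂ ▸ hy
    obtain ⟨A, rfl⟩ : y ∈ ψ₁.range := r1.symm ▸ hy1.1
    obtain ⟨B, hB⟩ : ψ₁ A ∈ ψ₂.range := r2.symm ▸ hy2.1
    have hA : ∀ C, A * C = C * A := fun C => i1 (by
      rw [map_mul, map_mul]
      exact (mem_centralizer_iff.1 hy1.2 _ (r1 ▸ ⟨C, rfl⟩)).symm)
    have hB' : ∀ C, B * C = C * B := fun C => i2 (by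
      rw [map_mul, map_mul, hB]
      exact (mem_centralizer_iff.1 hy2.2 _ (r2 ▸ ⟨C, rfl⟩)).symm)
    rcases center_S2 A (hA _) (hA _) with rfl | rfl
    · exact Or.inl (map_one _)
    · rcases center_S2 B (hB' _) (hB' _) with rfl | rfl
      · rw [map_one, ← map_one ψ₁] at hB
        exact absurd (i1 hB) (Ne.symm basic.2.2.1)
      · exact Or.inr ⟨rfl, hB.symm⟩
  have hm : ψ₁ sN ∈ H₁ ⊓ H₂ := h.inter₁ ▸ hsN ψ₁ H₁ r1
  have hne : ψ₁ sN ≠ 1 := fun he => basic.2.2.1 (i1 (he.trans (map_one ψ₁).symm))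
  have hz2 : ψ₂ sN = ψ₁ sN := ((hz _ hm).resolve_left hne).2.symm
  have hinter : H₁ ⊓ H₂ = zpowers (ψ₁ sN) := by
    refine le_antisymm (fun y hy => ?_) (zpowers_le.2 hm)
    rcases hz y hy with rfl | ⟨hy', -⟩
    · exact one_mem _
    · exact hy' ▸ mem_zpowers _
  have hn1 : H ≤ normalizer (H₁ : Set G) := (normal_subgroupOf_iff_le_normalizer h.le₁).1 h.normal₁
  have hn2 : H ≤ normalizer (H₂ : Set G) := (normal_subgroupOf_iff_le_normalizer h.le₂).1 h.normal₂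
  refine ⟨ψ₁ sN, ψ₁, ψ₂, i1, i2, r1, r2, rfl, hz2, hinter, ?_, h.le₁, h.le₂, hn1, hn2, h.index, ?_⟩
  · -- the factors commute, as `SL(2, 3)` is generated by elements of order three
    have key : ∀ A B : S2, A ^ 3 = 1 → Commute (ψ₁ A) (ψ₂ B) := by
      intro A B hA
      have ha : ψ₁ A ∈ H₁ := r1 ▸ ⟨A, rfl⟩
      have hb : ψ₂ B ∈ H₂ := r2 ▸ ⟨B, rfl⟩
      have hmem : ψ₁ A * ψ₂ B * (ψ₁ A)⁻¹ * (ψ₂ B)⁻¹ ∈ H₁ ⊓ H₂ := by
        refine mem_inf.2 ⟨?_, mul_mem ((mem_normalizer_iff.1 (hn2 (h.le₁ ha)) _).1 hb) (inv_mem hb)⟩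
        rw [mul_assoc (ψ₁ A * ψ₂ B) (ψ₁ A)⁻¹, mul_assoc, ← mul_assoc (ψ₂ B)]
        exact mul_mem ha ((mem_normalizer_iff.1 (hn1 (h.le₂ hb)) _).1 (inv_mem ha))
      set c := ψ₁ A * ψ₂ B * (ψ₁ A)⁻¹ * (ψ₂ B)⁻¹ with hc
      have hc2 : c * c = 1 := by
        rcases hz c hmem with h1 | ⟨h1, -⟩
        · rw [h1, one_mul]
        · rw [h1, ← map_mul, basic.2.2.2.1, map_one]
      have hcc : c * ψ₁ A = ψ₁ A * c := by
        rcases hz c hmem with h1 | ⟨h1, -⟩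
        · rw [h1, one_mul, mul_one]
        · rw [h1, ← map_mul, ← map_mul, sN_central]
      have e1 : ψ₁ A * ψ₂ B * (ψ₁ A)⁻¹ = c * ψ₂ B := by rw [hc]; group
      have e2 : ψ₁ A ^ 3 * ψ₂ B * (ψ₁ A ^ 3)⁻¹ = c * c * c * ψ₂ B := by
        calc ψ₁ A ^ 3 * ψ₂ B * (ψ₁ A ^ 3)⁻¹
            = ψ₁ A * (ψ₁ A * (ψ₁ A * ψ₂ B * (ψ₁ A)⁻¹) * (ψ₁ A)⁻¹) * (ψ₁ A)⁻¹ := by
              rw [pow_three]; group
          _ = ψ₁ A * ((ψ₁ A * c) * ψ₂ B * (ψ₁ A)⁻¹) * (ψ₁ A)⁻¹ := by rw [e1]; group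
          _ = ψ₁ A * (c * (ψ₁ A * ψ₂ B * (ψ₁ A)⁻¹)) * (ψ₁ A)⁻¹ := by rw [← hcc]; group
          _ = (ψ₁ A * (c * c)) * ψ₂ B * (ψ₁ A)⁻¹ := by rw [e1]; group
          _ = c * c * (ψ₁ A * ψ₂ B * (ψ₁ A)⁻¹) := by rw [hc2, mul_one, one_mul]
          _ = c * c * c * ψ₂ B := by rw [e1]; group
      rw [← map_pow, hA, map_one, one_mul, inv_one, mul_one, hc2, one_mul, eq_comm,
        mul_eq_right] at e2
      show ψ₁ A * ψ₂ B = ψ₂ B * ψ₁ A
      rw [e2, one_mul] at e1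
      exact mul_inv_eq_iff_eq_mul.1 e1
    intro A B
    obtain ⟨i, j, k, l, rfl⟩ := SetupModel.word A
    simp only [map_mul, map_pow]
    exact ((((key sU B three_gen.1).pow_left _).mul_left ((key sL B three_gen.2.1).pow_left _)).mul_left
      ((key sU B three_gen.1).pow_left _)).mul_left ((key sL B three_gen.2.1).pow_left _)
  · rw [h.cent, hinter, zpowers_eq_closure, centralizer_closure]

/-- the Sylow subgroups of the two factors -/
def q4 : Subgroup (S2 × S2) where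
  carrier := {p | p.1 ^ 4 = 1 ∧ p.2 ^ 4 = 1}
  one_mem' := ⟨one_pow _, one_pow _⟩
  mul_mem' := fun {a b} ha hb =>
    ⟨(four_facts a.1 b.1).1 ha.1 hb.1, (four_facts a.2 b.2).1 ha.2 hb.2⟩
  inv_mem' := fun {a} ha => ⟨by rw [Prod.fst_inv, inv_pow, ha.1, inv_one],
    by rw [Prod.snd_inv, inv_pow, ha.2, inv_one]⟩

namespace Fac

variable {H H₁ H₂ : Subgroup G} {z : G} {ψ₁ ψ₂ : S2 →* G} (F : Fac H H₁ H₂ z ψ₁ ψ₂)
include F

theorem z_ne : z ≠ 1 := fun h => basic.2.2.1 (F.inj₁ ((F.z₁.trans h).trans (map_one _).symm))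

theorem zz : z * z = 1 := by rw [← F.z₁, ← map_mul, basic.2.2.2.1, map_one]

theorem order_z : orderOf z = 2 :=
  orderOf_eq_prime (by rw [sq, F.zz]) F.z_ne

theorem mem_H {g : G} : g ∈ H ↔ g * z = z * g := by
  rw [F.cent, mem_centralizer_singleton_iff]

/-- the product of the two factors -/
def pair : S2 × S2 →* G := ψ₁.noncommCoprod ψ₂ F.comm

theorem pair_apply (A B : S2) : F.pair (A, B) = ψ₁ A * ψ₂ B := rfl

theorem pair_range : F.pair.range = H₁ ⊔ H₂ := by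
  exact (MonoidHom.noncommCoprod_range ψ₁ ψ₂ F.comm).trans
    (congrArg₂ (· ⊔ ·) F.range₁ F.range₂)

theorem pair_mem_H (p : S2 × S2) : F.pair p ∈ H :=
  sup_le F.le₁ F.le₂ (F.pair_range ▸ ⟨p, rfl⟩)

theorem pair_ker {p : S2 × S2} : F.pair p = 1 ↔ p = 1 ∨ p = (sN, sN) := by
  obtain ⟨A, B⟩ := p
  constructor
  · intro h
    rw [F.pair_apply] at h
    have h1 : ψ₁ A ∈ H₁ := F.range₁ ▸ ⟨A, rfl⟩
    have h2 : ψ₂ B ∈ H₂ := F.range₂ ▸ ⟨B, rfl⟩
    have hmem : ψ₁ A ∈ H₁ ⊓ H₂ := mem_inf.2 ⟨h1, eq_inv_of_mul_eq_one_left h ▸ inv_mem h2⟩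
    rw [F.inter, mem_zpowers_iff] at hmem
    obtain ⟨i, hi⟩ := hmem
    have hz2 : ∀ y : G, y * y = 1 → ∀ i : ℤ, y ^ i = 1 ∨ y ^ i = y := fun y hy i => by
      rcases Int.even_or_odd i with ⟨k, rfl⟩ | ⟨k, rfl⟩
      · exact Or.inl (by rw [zpow_add, ← (Commute.refl y).mul_zpow, hy, one_zpow])
      · refine Or.inr ?_
        rw [zpow_add, two_mul, zpow_add, ← (Commute.refl y).mul_zpow, hy, one_zpow, one_mul,
          zpow_one]
    rcases hz2 z F.zz i with h' | h' <;> rw [h'] at hi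
    · have hA : A = 1 := F.inj₁ (hi.symm.trans (map_one _).symm)
      subst hA
      rw [map_one, one_mul] at h
      exact Or.inl (Prod.ext rfl (F.inj₂ (h.trans (map_one _).symm)))
    · have hA : A = sN := F.inj₁ (hi.symm.trans F.z₁.symm)
      subst hA
      rw [F.z₁] at h
      refine Or.inr (Prod.ext rfl (F.inj₂ ?_))
      rw [F.z₂, eq_inv_of_mul_eq_one_right h, inv_eq_of_mul_eq_one_right F.zz]
  · rintro (h | h)
    · rw [h, map_one]
    · rw [h, F.pair_apply, F.z₁, F.z₂, F.zz]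

theorem pair_eq_iff {p q : S2 × S2} :
    F.pair p = F.pair q ↔ p = q ∨ p = (sN, sN) * q := by
  rw [← mul_inv_eq_one, ← map_inv, ← map_mul, F.pair_ker, mul_inv_eq_one, mul_inv_eq_iff_eq_mul]

/-- The order of the image of a subgroup of pairs containing the kernel. -/
theorem two_mul_card_map (K : Subgroup (S2 × S2)) (hK : (sN, sN) ∈ K) :
    2 * Nat.card (K.map F.pair) = Nat.card K := by
  have h2 : Nat.card (F.pair.comp K.subtype).ker = 2 := by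
    rw [Nat.card_eq_two_iff]
    refine ⟨1, ⟨⟨(sN, sN), hK⟩, MonoidHom.mem_ker.2 (F.pair_ker.2 (Or.inr rfl))⟩, fun e => ?_, ?_⟩
    · have := congrArg (fun x : ↥(F.pair.comp K.subtype).ker => ((x : K) : S2 × S2).1) e
      exact basic.2.2.1 this.symm
    · refine Set.eq_univ_iff_forall.2 fun x => ?_
      rcases F.pair_ker.1 (MonoidHom.mem_ker.1 x.2) with h | h
      · exact Or.inl (Subtype.ext (Subtype.ext h))
      · exact Or.inr (Subtype.ext (Subtype.ext h))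
  have h := card_mul_index (F.pair.comp K.subtype).ker
  rw [h2, index_ker, MonoidHom.range_comp, range_subtype] at h
  exact h

theorem card_inner : Nat.card (H₁ ⊔ H₂ : Subgroup G) = 288 := by
  have h := F.two_mul_card_map ⊤ (mem_top _)
  rw [← MonoidHom.range_eq_map, F.pair_range, Nat.card_congr topEquiv.toEquiv, Nat.card_prod,
    Nat.card_eq_fintype_card (α := S2), basic.2.2.2.2.2.2.2.2.2] at h
  omega

theorem card_H : Nat.card H = 576 := by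
  have h := Subgroup.card_mul_index ((H₁ ⊔ H₂).subgroupOf H)
  rw [Nat.card_congr (subgroupOfEquivOfLe (sup_le F.le₁ F.le₂)).toEquiv, F.card_inner] at h
  rw [← h, show ((H₁ ⊔ H₂).subgroupOf H).index = 2 from F.index]

/-- the normal extraspecial subgroup -/
def qGrp : Subgroup G := q4.map F.pair

theorem mem_qGrp {A B : S2} (hA : A ^ 4 = 1) (hB : B ^ 4 = 1) : F.pair (A, B) ∈ F.qGrp :=
  ⟨(A, B), ⟨hA, hB⟩, rfl⟩

theorem card_qGrp : Nat.card F.qGrp = 32 := by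
  have h := F.two_mul_card_map q4 ⟨by decide +kernel, by decide +kernel⟩
  have h64 : Nat.card q4 = 64 := by
    rw [Nat.card_congr ({ toFun := fun p => (⟨p.1.1, p.2.1⟩, ⟨p.1.2, p.2.2⟩)
                          invFun := fun p => ⟨(p.1.1, p.2.1), p.1.2, p.2.2⟩
                          left_inv := fun p => rfl
                          right_inv := fun p => rfl } :
        q4 ≃ {A : S2 // A ^ 4 = 1} × {A : S2 // A ^ 4 = 1}), Nat.card_prod,
      Nat.card_eq_fintype_card, card_Q8]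
  rw [h64] at h
  show Nat.card (q4.map F.pair) = 32
  omega

theorem qGrp_le : F.qGrp ≤ H₁ ⊔ H₂ := by
  rw [← F.pair_range]
  exact map_le_range _ _

theorem qGrp_le_H : F.qGrp ≤ H := F.qGrp_le.trans (sup_le F.le₁ F.le₂)

theorem isPGroup_qGrp : IsPGroup 2 F.qGrp := IsPGroup.of_card (n := 5) F.card_qGrp

/-- The elements of two-power order of the product lie in the extraspecial subgroup. -/
theorem mem_qGrp_of_pow {y : G} (hy : y ∈ H₁ ⊔ H₂) {k : ℕ} (hk : y ^ 2 ^ k = 1) : y ∈ F.qGrp := by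
  rw [← F.pair_range] at hy
  obtain ⟨⟨A, B⟩, rfl⟩ := hy
  rw [← map_pow, F.pair_ker] at hk
  have hAB : A ^ 2 ^ (k + 1) = 1 ∧ B ^ 2 ^ (k + 1) = 1 := by
    rw [pow_succ, pow_mul, pow_mul, sq, sq]
    rcases hk with h | h
    · exact ⟨by rw [show A ^ 2 ^ k = 1 from congrArg Prod.fst h, one_mul],
        by rw [show B ^ 2 ^ k = 1 from congrArg Prod.snd h, one_mul]⟩
    · exact ⟨by rw [show A ^ 2 ^ k = sN from congrArg Prod.fst h, basic.2.2.2.1],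
        by rw [show B ^ 2 ^ k = sN from congrArg Prod.snd h, basic.2.2.2.1]⟩
  have h8 : ∀ {A : S2}, A ^ 2 ^ (k + 1) = 1 → A ^ 4 = 1 := by
    intro A hA
    refine (powers A).2.1 (orderOf_dvd_iff_pow_eq_one.1 ?_)
    obtain ⟨j, -, hj⟩ := (Nat.dvd_prime_pow Nat.prime_two).1 (orderOf_dvd_of_pow_eq_one hA)
    have h24 : 2 ^ j ∣ 8 * 3 := hj ▸ orderOf_dvd_of_pow_eq_one (powers A).1
    rw [hj]
    exact ((Nat.coprime_two_left.2 ⟨1, rfl⟩).pow_left j).dvd_of_dvd_mul_right h24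
  exact F.mem_qGrp (h8 hAB.1) (h8 hAB.2)

theorem inner_normal {g : G} (hg : g ∈ H) {y : G} (hy : y ∈ H₁ ⊔ H₂) :
    g * y * g⁻¹ ∈ H₁ ⊔ H₂ := by
  have hle : (H₁ ⊔ H₂).map (MulAut.conj g).toMonoidHom ≤ H₁ ⊔ H₂ := by
    rw [Subgroup.map_sup]
    refine sup_le_sup ?_ ?_
    · rintro _ ⟨w, hw, rfl⟩
      exact (mem_normalizer_iff.1 (F.norm₁ hg) w).1 hw
    · rintro _ ⟨w, hw, rfl⟩
      exact (mem_normalizer_iff.1 (F.norm₂ hg) w).1 hw
  exact hle ⟨y, hy, rfl⟩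

theorem qGrp_normal {g : G} (hg : g ∈ H) {y : G} (hy : y ∈ F.qGrp) : g * y * g⁻¹ ∈ F.qGrp := by
  obtain ⟨k, hk⟩ := F.isPGroup_qGrp ⟨y, hy⟩
  refine F.mem_qGrp_of_pow (F.inner_normal hg (F.qGrp_le hy)) (k := k) ?_
  rw [conj_pow, show y ^ 2 ^ k = 1 by simpa using congrArg Subtype.val hk, mul_one, mul_inv_cancel]

theorem mul_mem_inner {a b : G} (ha : a ∈ H) (hb : b ∈ H) :
    a * b ∈ H₁ ⊔ H₂ ↔ (a ∈ H₁ ⊔ H₂ ↔ b ∈ H₁ ⊔ H₂) :=
  mul_mem_iff_of_index_two (H := (H₁ ⊔ H₂).subgroupOf H) F.index (a := ⟨a, ha⟩) (b := ⟨b, hb⟩)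

theorem mem_q4_of_pair {p : S2 × S2} (h : F.pair p ∈ F.qGrp) : p ∈ q4 := by
  obtain ⟨q, hq, hqp⟩ := h
  rcases F.pair_eq_iff.1 hqp.symm with h | h <;> rw [h]
  · exact hq
  · exact q4.mul_mem (show ((sN, sN) : S2 × S2) ∈ q4 from ⟨by decide +kernel, by decide +kernel⟩) hq

/-- A subgroup with an outer element has half of its elements in the product. -/
theorem card_two_cosets {L : Subgroup G} (hL : L ≤ H) {y : G} (hy : y ∈ L)
    (hyo : y ∉ H₁ ⊔ H₂) :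
    Nat.card L = 2 * Nat.card (L ⊓ (H₁ ⊔ H₂) : Subgroup G) := by
  have h2 : ((H₁ ⊔ H₂).subgroupOf L).index = 2 := by
    refine Subgroup.index_eq_two_iff.2 ⟨⟨y, hy⟩, fun b => ?_⟩
    have := F.mul_mem_inner (hL b.2) (hL hy)
    by_cases hb : (b : G) ∈ H₁ ⊔ H₂
    · exact Or.inr ⟨hb, fun h => hyo ((this.1 h).1 hb)⟩
    · exact Or.inl ⟨this.2 (iff_of_false hb hyo), hb⟩
  have h := Subgroup.card_mul_index ((H₁ ⊔ H₂).subgroupOf L)
  rw [h2, ← inf_subgroupOf_left, Nat.card_congr (subgroupOfEquivOfLe inf_le_left).toEquiv] at h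
  rw [← h, mul_comm]

/-- A Sylow two-subgroup of `H` contains every two-subgroup of `H` that it normalises. -/
theorem le_sylow {T A : Subgroup G} (hT : T ≤ H) (hcard : Nat.card T = 64)
    (hA : A ≤ H) (hA2 : IsPGroup 2 A) (hn : T ≤ normalizer (A : Set G)) [Finite G] : A ≤ T := by
  have h2 : IsPGroup 2 (A ⊔ T : Subgroup G) :=
    hA2.to_sup_of_normal_left' (IsPGroup.of_card (n := 6) hcard) hn
  obtain ⟨n, hn⟩ := IsPGroup.iff_card.1 h2
  have hd : 2 ^ n ∣ 576 := by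
    rw [← hn, ← F.card_H]
    exact card_dvd_of_le (sup_le hA hT)
  have h6 : n ≤ 6 := by
    by_contra h7
    exact absurd ((pow_dvd_pow 2 (show 7 ≤ n by omega)).trans hd) (by norm_num)
  have := eq_of_le_of_card_ge (le_sup_right : T ≤ A ⊔ T) (by
    rw [hn, hcard]
    exact (Nat.pow_le_pow_right (by norm_num) h6).trans_eq (by norm_num))
  exact le_sup_left.trans_eq this.symm

theorem qGrp_le_sylow {T : Subgroup G} (hT : T ≤ H) (hcard : Nat.card T = 64) [Finite G] :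
    F.qGrp ≤ T :=
  F.le_sylow hT hcard F.qGrp_le_H F.isPGroup_qGrp fun g hg => mem_normalizer_iff.2 fun y =>
    ⟨F.qGrp_normal (hT hg), fun hy => by
      have := F.qGrp_normal (inv_mem (hT hg)) hy
      simpa [mul_assoc] using this⟩

end Fac

end CfsgLib.G2TwoLocal
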