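import Cfsg.Agent.Lib.G2TwoLocal.SetupFactors

/-!
# What the second two-local subgroup gives to the setup
-/

set_option autoImplicit false
set_option maxRecDepth 100000
set_option linter.unusedSectionVars false

namespace CfsgLib.G2TwoLocal

open Cfsg Subgroup SetupModel

universe u

variable {G : Type u} [Group G]

theorem card_map_mul_ker {A B : Type*} [Group A] [Group B] (f : A →* B) {L : Subgroup A}
    (hL : f.ker ≤ L) : Nat.card (L.map f) * Nat.card f.ker = Nat.card L := by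
  have h := card_mul_index (f.comp L.subtype).ker
  rw [index_ker, MonoidHom.range_comp, range_subtype, ← MonoidHom.comap_ker,
    show f.ker.comap L.subtype = f.ker.subgroupOf L from rfl,
    Nat.card_congr (subgroupOfEquivOfLe hL).toEquiv] at h
  rw [← h, mul_comm]

/-- the unitriangular group -/
def sUgrp : Subgroup S3 where
  carrier := {a | isU a}
  one_mem' := by show isU 1; decide +kernel
  mul_mem' := fun {a b} ha hb => U_mul a b ha hb
  inv_mem' := fun {a} ha => U_inv a ha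

theorem S3_eight {P : Subgroup S3} (hP : Nat.card P = 8) :
    ∃ g : S3, ∀ a : S3, a ∈ P ↔ isU (g * a * g⁻¹) := by
  have hU : Nat.card sUgrp = 8 :=
    (Nat.card_eq_fintype_card (α := {a : S3 // isU a})).trans S3_facts.2.1
  have max : ∀ {R : Subgroup S3}, Nat.card R = 8 → ∃ S : Sylow 2 S3, (S : Subgroup S3) = R := by
    intro R hR
    obtain ⟨S, hS⟩ := (IsPGroup.of_card (p := 2) (n := 3) hR).exists_le_sylow
    refine ⟨S, (eq_of_le_of_card_ge hS ?_).symm⟩
    obtain ⟨n, hn⟩ := IsPGroup.iff_card.1 S.2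
    have hd : 2 ^ n ∣ 168 := by
      rw [← hn, ← S3_facts.1, ← Nat.card_eq_fintype_card]
      exact card_subgroup_dvd_card _
    have h3 : n ≤ 3 := by
      by_contra h4
      exact absurd ((pow_dvd_pow 2 (show 4 ≤ n by omega)).trans hd) (by norm_num)
    rw [hR, hn]
    exact (Nat.pow_le_pow_right (by norm_num) h3).trans_eq (by norm_num)
  obtain ⟨S, hS⟩ := max hP
  obtain ⟨S', hS'⟩ := max hU
  obtain ⟨g, hg⟩ := MulAction.exists_smul_eq S3 S S'
  refine ⟨g, fun a => ?_⟩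
  have h : P.map (MulAut.conj g).toMonoidHom = sUgrp := by
    rw [← hS, ← hS', ← hg]
    rfl
  rw [show isU (g * a * g⁻¹) ↔ g * a * g⁻¹ ∈ sUgrp from Iff.rfl, ← h]
  constructor
  · exact fun ha => ⟨a, ha, rfl⟩
  · rintro ⟨b, hb, hba⟩
    exact (MulAut.conj g).injective hba ▸ hb

theorem S3_eight_norm {P R : Subgroup S3} (hP : Nat.card P = 8)
    (hn : ∀ r ∈ R, ∀ a ∈ P, r * a * r⁻¹ ∈ P) : R ≤ P := by
  obtain ⟨g, hg⟩ := S3_eight hP
  intro r hr
  refine (hg r).2 (U_self_norm _ fun a ha => ?_)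
  have h1 : g⁻¹ * a * g ∈ P := (hg _).2 (by simpa [mul_assoc] using ha)
  have h2 := (hg _).1 (hn r hr _ h1)
  simpa [mul_assoc] using h2

theorem S3_eight_invol {P : Subgroup S3} (hP : Nat.card P = 8) :
    Nat.card {a : S3 // a ∈ P ∧ a ≠ 1 ∧ a * a = 1} = 5 := by
  obtain ⟨g, hg⟩ := S3_eight hP
  rw [← S3_facts.2.2.2, ← Nat.card_eq_fintype_card]
  refine Nat.card_congr ((MulAut.conj g).toEquiv.subtypeEquiv fun a => ?_)
  show a ∈ P ∧ a ≠ 1 ∧ a * a = 1 ↔
    isU (g * a * g⁻¹) ∧ g * a * g⁻¹ ≠ 1 ∧ g * a * g⁻¹ * (g * a * g⁻¹) = 1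
  rw [← hg, conj_mul, Ne, Ne, conj_eq_one_iff, conj_eq_one_iff]

/-- An element of order three whose commutators with an involution are central is in the
centraliser. -/
theorem commute_of_comm_mem {x e z : G} (hx : x ^ 3 = 1) (hz : z * z = 1) (hz1 : z ≠ 1)
    (hxz : x * z = z * x) (hc : x * e * x⁻¹ * e⁻¹ = 1 ∨ x * e * x⁻¹ * e⁻¹ = z) :
    x * e = e * x := by
  rcases hc with h | h
  · exact mul_inv_eq_iff_eq_mul.1 (mul_inv_eq_one.1 h)
  · exfalso
    have h1 : x * e * x⁻¹ = z * e := mul_inv_eq_iff_eq_mul.1 h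
    have hxz' : x * z * x⁻¹ = z := by rw [hxz, mul_inv_cancel_right]
    refine hz1 ?_
    have h3 : x * (x * (x * e * x⁻¹) * x⁻¹) * x⁻¹ = z * e := by
      have h2 : x * (z * e) * x⁻¹ = e := by
        calc x * (z * e) * x⁻¹ = (x * z * x⁻¹) * (x * e * x⁻¹) := by group
          _ = e := by rw [hxz', h1, ← mul_assoc, hz, one_mul]
      rw [h1, h2, h1]
    rw [show x * (x * (x * e * x⁻¹) * x⁻¹) * x⁻¹ = x ^ 3 * e * (x ^ 3)⁻¹ by rw [pow_three]; group,
      hx, one_mul, inv_one, mul_one] at h3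
    exact mul_eq_right.1 h3.symm

theorem exists_local [Finite G] {H H₁ H₂ M : Subgroup G} {z : G} {ψ₁ ψ₂ : S2 →* G}
    (h : Hyp H H₁ H₂ M) (F : Fac H H₁ H₂ z ψ₁ ψ₂) :
    ∃ (y : G) (A B : S2), y ∈ H ∧ y ∉ H₁ ⊔ H₂ ∧ y * y = 1 ∧ A ^ 3 = 1 ∧ A ≠ 1 ∧ B ^ 3 = 1 ∧
      B ≠ 1 ∧ y * F.pair (A, B) * y⁻¹ * F.pair (A, B) ∈ F.qGrp ∧
      (∃ i ∈ H₁ ⊔ H₂, i * i = 1 ∧ i ≠ 1 ∧ i ≠ z ∧ IsConj i y) ∧
      (∃ e ∈ H₁ ⊔ H₂, e * e = 1 ∧ e ≠ 1 ∧ e ≠ z ∧ IsConj z e) ∧ 7 ∣ Nat.card G := by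
  have : (pCore 2 ↥M).Normal := h.normalM
  obtain ⟨eS⟩ := h.quotM
  set E' := pCore 2 ↥M with hE'
  set π : ↥M →* S3 := eS.toMonoidHom.comp (QuotientGroup.mk' E') with hπdef
  set E := E'.map M.subtype with hE
  have hker : π.ker = E' := by
    ext m
    rw [MonoidHom.mem_ker, hπdef, MonoidHom.comp_apply, MulEquiv.coe_toMonoidHom,
      MulEquiv.map_eq_one_iff, QuotientGroup.mk'_apply, QuotientGroup.eq_one_iff]
  have hπ : ∀ m : ↥M, π m = 1 ↔ (m : G) ∈ E := fun m => by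
    rw [← MonoidHom.mem_ker, hker]
    exact (mem_map_iff_mem (f := M.subtype) M.subtype_injective).symm
  have hπs : Function.Surjective π := eS.surjective.comp (QuotientGroup.mk'_surjective E')
  have hcardM : Nat.card M = 1344 := by
    rw [card_eq_card_quotient_mul_card_subgroup E', Nat.card_congr eS.toEquiv, h.cardM,
      Nat.card_eq_fintype_card, S3_facts.1]
  have hEM : E ≤ M := map_subtype_le _
  have hEn : ∀ m ∈ M, ∀ e ∈ E, m * e * m⁻¹ ∈ E := by
    rintro m hm _ ⟨e, he, rfl⟩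
    exact ⟨_, h.normalM.conj_mem e he ⟨m, hm⟩, rfl⟩
  have hEsq : ∀ e ∈ E, e * e = 1 := by
    rintro _ ⟨e, he, rfl⟩
    rw [← map_mul, ← sq, h.elemM.2 e he, map_one]
  have hEc : ∀ a ∈ E, ∀ b ∈ E, a * b = b * a := by
    rintro _ ⟨a, ha, rfl⟩ _ ⟨b, hb, rfl⟩
    have := h.elemM.1
    have hab : (⟨a, ha⟩ * ⟨b, hb⟩ : ↥E') = ⟨b, hb⟩ * ⟨a, ha⟩ := mul_comm' _ _
    rw [← map_mul, ← map_mul]
    exact congrArg M.subtype (congrArg Subtype.val hab)
  have hcardE : Nat.card E = 8 := by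
    rw [hE, card_map_of_injective M.subtype_injective, h.cardM]
  have hzE : z ∈ E := h.zM (F.inter.ge (mem_zpowers z))
  have hEH : E ≤ H := fun e he => F.mem_H.2 (hEc e he z hzE)
  -- the action on the seven involutions
  let f : ↥M ⧸ H.subgroupOf M → {e : G // e ∈ E ∧ e ≠ 1} := Quotient.lift
    (fun m => ⟨(m : G) * z * (m : G)⁻¹, hEn m m.2 z hzE, fun he => F.z_ne (conj_eq_one_iff.1 he)⟩)
    (fun a b hab => by
      have hk : (a : G)⁻¹ * b ∈ H :=
        (QuotientGroup.leftRel_apply (s := H.subgroupOf M) (x := a) (y := b)).1 hab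
      have := F.mem_H.1 hk
      refine Subtype.ext ?_
      calc (a : G) * z * (a : G)⁻¹ = (a : G) * (z * ((a : G)⁻¹ * b)) * (b : G)⁻¹ := by group
        _ = (a : G) * (((a : G)⁻¹ * b) * z) * (b : G)⁻¹ := by rw [this]
        _ = (b : G) * z * (b : G)⁻¹ := by group)
  have hfinj : Function.Injective f := by
    intro a b hab
    induction a using QuotientGroup.induction_on with
    | H a =>
      induction b using QuotientGroup.induction_on with
      | H b =>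
        have h1 : (a : G) * z * (a : G)⁻¹ = (b : G) * z * (b : G)⁻¹ := congrArg Subtype.val hab
        refine QuotientGroup.eq.2 (F.mem_H.2 ?_)
        calc ((a : G)⁻¹ * b) * z = (a : G)⁻¹ * ((b : G) * z * (b : G)⁻¹) * b := by group
          _ = z * ((a : G)⁻¹ * b) := by rw [← h1]; group
  have h7 : Nat.card {e : G // e ∈ E ∧ e ≠ 1} = 7 := by
    show Nat.card ((E : Set G) \ {1} : Set G) = 7
    rw [Nat.card_coe_set_eq, Set.ncard_sdiff_singleton_of_mem (one_mem E), ← Nat.card_coe_set_eq]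
    exact congrArg (· - 1) hcardE
  have hK' : Nat.card (H.subgroupOf M) = 192 ∧ (H.subgroupOf M).index = 7 := by
    have hi : (H.subgroupOf M).index ≤ 7 := h7 ▸ Nat.card_le_card_of_injective f hfinj
    have hm := card_mul_index (H.subgroupOf M)
    have hd : Nat.card (H.subgroupOf M) ∣ 192 := by
      refine (Nat.dvd_gcd ?_ ⟨_, (hm.trans hcardM).symm⟩ : _ ∣ Nat.gcd 576 1344)
      rw [← F.card_H, ← inf_subgroupOf_right, Nat.card_congr (subgroupOfEquivOfLe inf_le_right).toEquiv]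
      exact card_dvd_of_le inf_le_left
    have h192 := Nat.le_of_dvd (by norm_num) hd
    rw [hcardM] at hm
    generalize (H.subgroupOf M).index = n at hm hi ⊢
    interval_cases n <;> omega
  have htrans : ∀ e ∈ E, e ≠ 1 → ∃ m ∈ M, m * z * m⁻¹ = e := by
    intro e he he1
    obtain ⟨m, hm⟩ := ((Nat.bijective_iff_injective_and_card f).2
      ⟨hfinj, hK'.2.trans h7.symm⟩).2 ⟨e, he, he1⟩
    induction m using QuotientGroup.induction_on with
    | H m => exact ⟨m, m.2, congrArg Subtype.val hm⟩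
  set K := H ⊓ M with hK
  have hcardK : Nat.card K = 192 := by
    rw [← hK'.1, ← inf_subgroupOf_right, Nat.card_congr (subgroupOfEquivOfLe inf_le_right).toEquiv]
  have hEK : E ≤ K := le_inf hEH hEM
  obtain ⟨T', hT'⟩ := Sylow.exists_subgroup_card_pow_prime (G := ↥K) 2 (n := 6)
    (by rw [hcardK]; norm_num)
  set T := T'.map K.subtype with hT
  have hcardT : Nat.card T = 64 := by
    rw [hT, card_map_of_injective K.subtype_injective, hT']
    norm_num
  have hTK : T ≤ K := map_subtype_le _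
  have hTH : T ≤ H := hTK.trans inf_le_left
  have hTM : T ≤ M := hTK.trans inf_le_right
  have hQT : F.qGrp ≤ T := F.qGrp_le_sylow hTH hcardT
  have hET : E ≤ T := F.le_sylow hTH hcardT hEH (IsPGroup.of_card (n := 3) hcardE) fun g hg =>
    mem_normalizer_iff.2 fun e => ⟨hEn g (hTM hg) e, fun he => by
      have := hEn g⁻¹ (inv_mem (hTM hg)) _ he
      simpa [mul_assoc] using this⟩
  have himg : ∀ L : Subgroup G, L ≤ M → E ≤ L →
      Nat.card ((L.subgroupOf M).map π) * 8 = Nat.card L := by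
    intro L hL hEL
    have hle : E' ≤ L.subgroupOf M := fun e he => hEL ⟨e, he, rfl⟩
    rw [← Nat.card_congr (subgroupOfEquivOfLe hL).toEquiv,
      ← card_map_mul_ker π (hker.trans_le hle), hker, h.cardM]
  have hπT : Nat.card ((T.subgroupOf M).map π) = 8 := by
    have := himg T hTM hET
    omega
  have hπK : Nat.card ((K.subgroupOf M).map π) = 24 := by
    have := himg K inf_le_right hEK
    omega
  have hEQ : E ≤ F.qGrp := by
    by_contra hne
    have hle : E ⊔ F.qGrp ≤ T := sup_le hET hQT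
    have hd : Nat.card (E ⊔ F.qGrp : Subgroup G) ∣ 2 ^ 6 := by
      rw [show (2 : ℕ) ^ 6 = 64 by norm_num, ← hcardT]
      exact card_dvd_of_le hle
    have hgt : 32 < Nat.card (E ⊔ F.qGrp : Subgroup G) := by
      by_contra hle'
      refine hne (le_sup_left.trans_eq
        (eq_of_le_of_card_ge (le_sup_right : F.qGrp ≤ E ⊔ F.qGrp) ?_).symm)
      rw [F.card_qGrp]
      omega
    have heq : E ⊔ F.qGrp = T := by
      refine eq_of_le_of_card_ge hle ?_
      obtain ⟨n, hn, hn'⟩ := (Nat.dvd_prime_pow Nat.prime_two).1 hd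
      rw [hcardT, hn']
      have h6 : 6 ≤ n := by
        by_contra h5
        rw [hn'] at hgt
        have := hgt.trans_le (Nat.pow_le_pow_right (by norm_num) (show n ≤ 5 by omega))
        norm_num at this
      exact le_trans (by norm_num) (Nat.pow_le_pow_right (by norm_num) h6)
    have hKT : ∀ k ∈ K, ∀ t ∈ T, k * t * k⁻¹ ∈ T := by
      intro k hk t ht
      have hmap : (E ⊔ F.qGrp).map (MulAut.conj k).toMonoidHom ≤ E ⊔ F.qGrp := by
        rw [Subgroup.map_sup]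
        refine sup_le_sup ?_ ?_
        · rintro _ ⟨w, hw, rfl⟩
          exact hEn k hk.2 w hw
        · rintro _ ⟨w, hw, rfl⟩
          exact F.qGrp_normal hk.1 hw
      rw [← heq] at ht ⊢
      exact hmap ⟨t, ht, rfl⟩
    have hle2 : (K.subgroupOf M).map π ≤ (T.subgroupOf M).map π := by
      refine S3_eight_norm hπT ?_
      rintro _ ⟨k, hk, rfl⟩ _ ⟨t, ht, rfl⟩
      exact ⟨k * t * k⁻¹, hKT k hk t ht, by simp⟩
    have := card_le_of_le hle2
    omega
  have hQM : F.qGrp ≤ M := hQT.trans hTM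
  have hπQ : Nat.card ((F.qGrp.subgroupOf M).map π) = 4 := by
    have := himg F.qGrp hQM hEQ
    rw [F.card_qGrp] at this
    omega
  -- an involution of the quotient outside the image of the extraspecial group
  obtain ⟨a, haT, ha1, ha2, haQ⟩ : ∃ a, a ∈ (T.subgroupOf M).map π ∧ a ≠ 1 ∧ a * a = 1 ∧
      a ∉ (F.qGrp.subgroupOf M).map π := by
    by_contra hall
    push Not at hall
    have := Nat.card_le_card_of_injective
      (fun a : {a : S3 // a ∈ (T.subgroupOf M).map π ∧ a ≠ 1 ∧ a * a = 1} =>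
        (⟨a.1, hall a.1 a.2.1 a.2.2.1 a.2.2.2⟩ : ↥((F.qGrp.subgroupOf M).map π)))
      (fun a b hab => Subtype.ext (congrArg Subtype.val hab :))
    rw [S3_eight_invol hπT, hπQ] at this
    omega
  obtain ⟨s, hsT, rfl⟩ := haT
  -- an involution of the extraspecial group outside `E`
  have hJ4 : sJ ^ 4 = 1 := by decide +kernel
  have hK4 : sK ^ 4 = 1 := by decide +kernel
  have hinv : ∀ B : S2, B * B = sN → F.pair (sJ, B) * F.pair (sJ, B) = 1 := fun B hB => by
    rw [← map_mul, F.pair_ker]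
    exact Or.inr (Prod.ext basic.2.2.2.2.1 hB)
  obtain ⟨i, hiQ, hiE, hi2⟩ : ∃ i ∈ F.qGrp, i ∉ E ∧ i * i = 1 := by
    by_cases hjj : F.pair (sJ, sJ) ∈ E
    · refine ⟨_, F.mem_qGrp hJ4 hK4, fun hjk => ?_, hinv sK basic.2.2.2.2.2.1⟩
      have := hEc _ hjj _ hjk
      rw [← map_mul, ← map_mul, F.pair_eq_iff] at this
      exact absurd this (by decide +kernel)
    · exact ⟨_, F.mem_qGrp hJ4 hJ4, hjj, hinv sJ basic.2.2.2.2.1⟩
  have hi1 : π ⟨i, hQM hiQ⟩ ≠ 1 := fun he => hiE ((hπ _).1 he)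
  obtain ⟨g₁, hg₁⟩ := S3_invol (π ⟨i, hQM hiQ⟩)
    (by rw [← map_mul]; exact (hπ _).2 (by show i * i ∈ E; rw [hi2]; exact one_mem E)) hi1
  obtain ⟨g₂, hg₂⟩ := S3_invol (π s) ha2 ha1
  obtain ⟨m, hm⟩ := hπs (g₂ * g₁⁻¹)
  set y := (m : G) * i * (m : G)⁻¹ with hy
  set y' : ↥M := m * ⟨i, hQM hiQ⟩ * m⁻¹ with hy'
  have hys : π y' = π s := by
    rw [hy', map_mul, map_mul, map_inv, hm, ← hg₁, ← hg₂]
    group
  have hyE : y * (s : G)⁻¹ ∈ E := by
    have := (hπ (y' * s⁻¹)).1 (by rw [map_mul, map_inv, hys, mul_inv_cancel])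
    exact this
  have hyT : y ∈ T := by
    have := mul_mem (hET hyE) (show (s : G) ∈ T from hsT)
    rwa [inv_mul_cancel_right] at this
  have hyQ : y ∉ F.qGrp := fun hyQ => haQ ⟨y', hyQ, hys⟩
  have hy2 : y * y = 1 := by rw [hy, conj_mul, hi2, mul_one, mul_inv_cancel]
  have hyo : y ∉ H₁ ⊔ H₂ := fun hyi =>
    hyQ (F.mem_qGrp_of_pow hyi (k := 1) (by rw [pow_one, sq, hy2]))
  have hyH : y ∈ H := hTH hyT
  -- the element of order three
  obtain ⟨x', hx'⟩ := exists_prime_orderOf_dvd_card' (G := ↥K) 3 (by rw [hcardK]; norm_num)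
  set x := (x' : G) with hxdef
  have hx3 : x ^ 3 = 1 := by
    rw [hxdef, ← coe_pow, ← hx', pow_orderOf_eq_one, coe_one]
  have hx1 : x ≠ 1 := fun he => by
    rw [hxdef, OneMemClass.coe_eq_one] at he
    rw [he, orderOf_one] at hx'
    omega
  have hxK : x ∈ K := x'.2
  have hxi : x ∈ H₁ ⊔ H₂ := by
    have hx22 : x * x * (x * x) = x := by
      rw [show x * x * (x * x) = x ^ 3 * x by rw [pow_three]; group, hx3, one_mul]
    rw [← hx22]
    exact (F.mul_mem_inner (mul_mem hxK.1 hxK.1) (mul_mem hxK.1 hxK.1)).2 Iff.rfl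
  obtain ⟨A, B, hA3, hB3, hxAB⟩ : ∃ A B : S2, A ^ 3 = 1 ∧ B ^ 3 = 1 ∧ F.pair (A, B) = x := by
    rw [← F.pair_range] at hxi
    obtain ⟨⟨A, B⟩, hAB⟩ := hxi
    have h3 : F.pair ((A, B) ^ 3) = 1 := by rw [map_pow, hAB, hx3]
    refine ⟨A ^ 4, B ^ 4, (powers A).2.2.1 ?_, (powers B).2.2.1 ?_, ?_⟩
    · rcases F.pair_ker.1 h3 with h3 | h3
      exacts [Or.inl (congrArg Prod.fst h3), Or.inr (congrArg Prod.fst h3)]
    · rcases F.pair_ker.1 h3 with h3 | h3
      exacts [Or.inl (congrArg Prod.snd h3), Or.inr (congrArg Prod.snd h3)]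
    · rw [show (A ^ 4, B ^ 4) = (A, B) ^ (3 + 1) from rfl, map_pow, hAB, pow_succ, hx3, one_mul]
  have hnot : ¬ ∀ e ∈ E, x * e = e * x := by
    intro hcent
    have hsub : ∀ a : S3, a ^ 3 = 1 ∧ a ≠ 1 → a ∈ (K.subgroupOf M).map π := by
      rintro a ⟨ha3, ha1'⟩
      obtain ⟨g, rfl⟩ := S3_three a ha3 ha1'
      have hπx : π ⟨x, hxK.2⟩ ≠ 1 := fun he => hx1 (by
        have h2 := hEsq x ((hπ _).1 he)
        rw [← hx3, pow_three, h2, mul_one])
      obtain ⟨g', hg'⟩ := S3_three (π ⟨x, hxK.2⟩)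
        (by rw [← map_pow, show (⟨x, hxK.2⟩ : ↥M) ^ 3 = 1 from Subtype.ext hx3, map_one]) hπx
      obtain ⟨n, hn⟩ := hπs (g * g'⁻¹)
      refine ⟨n * ⟨x, hxK.2⟩ * n⁻¹, mem_subgroupOf.2 (mem_inf.2 ⟨F.mem_H.2 ?_, SetLike.coe_mem _⟩), ?_⟩
      · have hzn : (n : G)⁻¹ * z * n ∈ E := by simpa using hEn _ (inv_mem n.2) z hzE
        have := hcent _ hzn
        show (n : G) * x * (n : G)⁻¹ * z = z * ((n : G) * x * (n : G)⁻¹)
        calc (n : G) * x * (n : G)⁻¹ * z
            = (n : G) * (x * ((n : G)⁻¹ * z * n)) * (n : G)⁻¹ := by group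
          _ = z * ((n : G) * x * (n : G)⁻¹) := by rw [this]; group
      · rw [map_mul, map_mul, map_inv, hn, ← hg']
        group
    have := Nat.card_le_card_of_injective
      (fun a : {a : S3 // a ^ 3 = 1 ∧ a ≠ 1} =>
        (⟨a.1, hsub a.1 a.2⟩ : ↥((K.subgroupOf M).map π)))
      (fun a b hab => Subtype.ext (congrArg Subtype.val hab :))
    rw [hπK, Nat.card_eq_fintype_card, S3_facts.2.2.1] at this
    omega
  have hpq : ∀ e ∈ E, ∃ a b : S2, a ^ 4 = 1 ∧ b ^ 4 = 1 ∧ F.pair (a, b) = e ∧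
      F.pair (A * a * A⁻¹ * a⁻¹, B * b * B⁻¹ * b⁻¹) = x * e * x⁻¹ * e⁻¹ ∧
      x * e * x⁻¹ * e⁻¹ ∈ E := by
    intro e he
    obtain ⟨⟨a, b⟩, ⟨ha, hb⟩, rfl⟩ := hEQ he
    refine ⟨a, b, ha, hb, rfl, ?_, mul_mem (hEn x hxK.2 _ he) (inv_mem he)⟩
    rw [show (A * a * A⁻¹ * a⁻¹, B * b * B⁻¹ * b⁻¹) = (A, B) * (a, b) * (A, B)⁻¹ * (a, b)⁻¹ from rfl,
      map_mul, map_mul, map_mul, map_inv, map_inv, hxAB]
  have hxz : x * z = z * x := F.mem_H.1 hxK.1
  have hA1 : A ≠ 1 := by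
    rintro rfl
    refine hnot fun e he => commute_of_comm_mem hx3 F.zz F.z_ne hxz ?_
    obtain ⟨a, b, -, -, -, hc, hcE⟩ := hpq e he
    have h2 := hEsq _ hcE
    rw [← hc, ← map_mul, F.pair_ker] at h2
    simp only [one_mul, inv_one, mul_one, mul_inv_cancel, Prod.mk_mul_mk, Prod.ext_iff, Prod.fst_one,
      Prod.snd_one, true_and, Ne.symm basic.2.2.1, false_and, or_false] at h2
    rw [← hc, F.pair_apply]
    simp only [one_mul, inv_one, mul_one, mul_inv_cancel, map_one]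
    rcases (four_facts (B * b * B⁻¹ * b⁻¹) 1).2.2 h2 with h | h <;> rw [h]
    · exact Or.inl (map_one _)
    · exact Or.inr F.z₂
  have hB1 : B ≠ 1 := by
    rintro rfl
    refine hnot fun e he => commute_of_comm_mem hx3 F.zz F.z_ne hxz ?_
    obtain ⟨a, b, -, -, -, hc, hcE⟩ := hpq e he
    have h2 := hEsq _ hcE
    rw [← hc, ← map_mul, F.pair_ker] at h2
    simp only [one_mul, inv_one, mul_one, mul_inv_cancel, Prod.mk_mul_mk, Prod.ext_iff, Prod.fst_one,
      Prod.snd_one, and_true, Ne.symm basic.2.2.1, and_false, or_false] at h2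
    rw [← hc, F.pair_apply]
    simp only [one_mul, inv_one, mul_one, mul_inv_cancel, map_one]
    rcases (four_facts (A * a * A⁻¹ * a⁻¹) 1).2.2 h2 with h | h <;> rw [h]
    · exact Or.inl (map_one _)
    · exact Or.inr F.z₁
  -- the quotient by the extraspecial group
  have hQn : (F.qGrp.subgroupOf H).Normal :=
    ⟨fun w hw g => F.qGrp_normal g.2 hw⟩
  set q : ↥H →* ↥H ⧸ F.qGrp.subgroupOf H := QuotientGroup.mk' _ with hqdef
  have hq : ∀ w : ↥H, q w = 1 ↔ (w : G) ∈ F.qGrp := fun w => by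
    rw [hqdef, QuotientGroup.mk'_apply, QuotientGroup.eq_one_iff, mem_subgroupOf]
  set X := q ⟨x, hxK.1⟩ with hX
  set Y := q ⟨y, hyH⟩ with hY
  have hX1 : X ≠ 1 := fun he => by
    obtain ⟨k, hk⟩ := F.isPGroup_qGrp ⟨x, (hq _).1 he⟩
    have hk' : x ^ 2 ^ k = 1 := congrArg Subtype.val hk
    have hcop : Nat.Coprime 3 (2 ^ k) := Nat.Coprime.pow_right k (by norm_num)
    exact hx1 (by simpa [hcop.gcd_eq_one] using pow_gcd_eq_one.2 ⟨hx3, hk'⟩)
  have hY1 : Y ≠ 1 := fun he => hyQ ((hq _).1 he)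
  have hX3 : X ^ 3 = 1 := by rw [hX, ← map_pow, hq]; show x ^ 3 ∈ _; rw [hx3]; exact one_mem _
  have hY2 : Y * Y = 1 := by rw [hY, ← map_mul, hq]; show y * y ∈ _; rw [hy2]; exact one_mem _
  have hcomm : Y * X * Y⁻¹ ≠ X := by
    intro he
    have hXY : Commute X Y := (mul_inv_eq_iff_eq_mul.1 he).symm
    set w : ↥M := ⟨x * y, mul_mem hxK.2 (hTM hyT)⟩ with hw
    have hpow : ∀ n : ℕ, π w ^ n = 1 → X ^ n * Y ^ n = 1 := by
      intro n hn
      rw [← map_pow, hπ] at hn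
      rw [← hXY.mul_pow, hX, hY, ← map_mul, ← map_pow, hq]
      exact hEQ hn
    rcases S3_orders (π w) with hn | hn | hn
    · have h4 := hpow 4 hn
      rw [show Y ^ 4 = (Y ^ 2) ^ 2 by rw [← pow_mul], sq Y, hY2, one_pow, mul_one, pow_succ,
        hX3, one_mul] at h4
      exact hX1 h4
    · have h3 := hpow 3 hn
      rw [hX3, one_mul, pow_three, hY2, mul_one] at h3
      exact hY1 h3
    · have h7' := hpow 7 hn
      rw [show X ^ 7 = (X ^ 3) ^ 2 * X by rw [← pow_mul, ← pow_succ], hX3, one_pow, one_mul,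
        show Y ^ 7 = (Y ^ 2) ^ 3 * Y by rw [← pow_mul, ← pow_succ], sq Y, hY2, one_pow,
        one_mul] at h7'
      refine hY1 ?_
      rw [eq_inv_of_mul_eq_one_right h7'] at hY2 ⊢
      rw [← mul_inv_rev, inv_eq_one] at hY2
      rw [inv_eq_one, ← hX3, pow_three, hY2, mul_one]
  have hN96 : Nat.card (K ⊓ (H₁ ⊔ H₂) : Subgroup G) = 96 := by
    have := F.card_two_cosets (L := K) inf_le_left (hTK hyT) hyo
    omega
  set Nn := (K ⊓ (H₁ ⊔ H₂)).subgroupOf H with hNn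
  have hker' : q.ker = F.qGrp.subgroupOf H := QuotientGroup.ker_mk' _
  have hNimg : Nat.card (Nn.map q) = 3 := by
    have hle : q.ker ≤ Nn := by
      rw [hker']
      exact fun w hw => ⟨hTK (hQT hw), F.qGrp_le hw⟩
    have h := card_map_mul_ker q hle
    rw [hker', Nat.card_congr (subgroupOfEquivOfLe F.qGrp_le_H).toEquiv, F.card_qGrp,
      hNn, Nat.card_congr (subgroupOfEquivOfLe (inf_le_left.trans inf_le_left)).toEquiv, hN96] at h
    rw [hNn]
    omega
  have hXo : orderOf X = 3 := orderOf_eq_prime hX3 hX1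
  have hxN : x ∈ K ⊓ (H₁ ⊔ H₂) := ⟨hxK, by rw [← hxAB, ← F.pair_range]; exact ⟨_, rfl⟩⟩
  have hzp : zpowers X = Nn.map q := by
    refine eq_of_le_of_card_ge (zpowers_le.2 ⟨⟨x, hxK.1⟩, hxN, rfl⟩) ?_
    rw [hNimg, Nat.card_zpowers, hXo]
  have hmem : Y * X * Y⁻¹ ∈ zpowers X := by
    rw [hzp]
    exact ⟨⟨y, hyH⟩ * ⟨x, hxK.1⟩ * ⟨y, hyH⟩⁻¹,
      mem_subgroupOf.2 (mem_inf.2
        ⟨mul_mem (mul_mem (hTK hyT) hxK) (inv_mem (hTK hyT)), F.inner_normal hyH hxN.2⟩),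
      by rw [map_mul, map_mul, map_inv]⟩
  have hyx : Y * X * Y⁻¹ * X = 1 := by
    have := (IsOfFinOrder.mem_powers_iff_mem_zpowers (isOfFinOrder_of_finite X)).2 hmem
    obtain ⟨n, hn⟩ := Submonoid.mem_powers_iff _ _ |>.1 this
    rw [← pow_mod_orderOf, hXo] at hn
    have hlt := Nat.mod_lt n (show 3 > 0 by norm_num)
    rcases (show n % 3 = 0 ∨ n % 3 = 1 ∨ n % 3 = 2 by omega) with hr | hr | hr <;> rw [hr] at hn
    · rw [pow_zero, eq_comm, conj_eq_one_iff] at hn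
      exact absurd hn hX1
    · rw [pow_one] at hn
      exact absurd hn.symm hcomm
    · rw [← hn, ← pow_succ, hX3]
  refine ⟨y, A, B, hyH, hyo, hy2, hA3, hA1, hB3, hB1, ?_, ?_, ?_, ?_⟩
  · rw [hxAB]
    rw [hX, hY, ← map_inv, ← map_mul, ← map_mul, ← map_mul, hq] at hyx
    exact hyx
  · exact ⟨i, F.qGrp_le hiQ, hi2, fun he => hiE (he ▸ one_mem E), fun he => hiE (he ▸ hzE),
      isConj_iff.2 ⟨m, rfl⟩⟩
  · obtain ⟨e, he, he1, hez⟩ : ∃ e ∈ E, e ≠ 1 ∧ e ≠ z := by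
      by_contra hall
      push Not at hall
      have hz0 := hall
      have hsub : (E : Set G) ⊆ {1, z} := fun e he => by
        by_cases he1 : e = 1
        · exact Or.inl he1
        · exact Or.inr (hz0 e he he1)
      have := Set.ncard_le_ncard hsub
      rw [Set.ncard_pair (Ne.symm F.z_ne), ← Nat.card_coe_set_eq] at this
      have h8 : Nat.card (E : Set G) = 8 := hcardE
      omega
    obtain ⟨n, -, hn⟩ := htrans e he he1
    exact ⟨e, F.qGrp_le (hEQ he), hEsq e he, he1, hez, isConj_iff.2 ⟨n, hn⟩⟩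
  · exact (show (7 : ℕ) ∣ Nat.card M by rw [hcardM]; norm_num).trans (card_subgroup_dvd_card M)

end CfsgLib.G2TwoLocal
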